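import Cfsg.Agent.Lib.SmallCent.BothFalse

/-!
# The case `C_V(στ) = 1`
-/

set_option autoImplicit false
set_option linter.unusedSectionVars false
set_option linter.style.haveILetI false

namespace Cfsg.Agent.SmallCent

open DihedralBlock

universe u

variable {G : Type u} [Group G] [Fintype G]

/-- Orbit and stabilizer for conjugation by a subgroup. -/
theorem card_eq_orbit_mul (Y : Subgroup G) (g : G) :
    Nat.card Y = ((fun y : G => y * g * y⁻¹) '' (Y : Set G)).ncard *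
      Nat.card (Y ⊓ Subgroup.centralizer ({g} : Set G) : Subgroup G) := by
  classical
  set T := ((fun y : G => y * g * y⁻¹) '' (Y : Set G))
  set C := Nat.card (Y ⊓ Subgroup.centralizer ({g} : Set G) : Subgroup G)
  rw [← SetLike.coe_sort_coe, Nat.card_coe_set_eq, Set.ncard_eq_toFinset_card', Set.ncard_eq_toFinset_card']
  rw [Finset.card_eq_sum_card_fiberwise (f := fun y : G => y * g * y⁻¹) (t := T.toFinset)
    (fun y hy => by
      rw [Finset.mem_coe, Set.mem_toFinset]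
      exact ⟨y, by simpa using hy, rfl⟩), Finset.sum_const_nat (m := C)]
  intro t ht
  rw [Set.mem_toFinset] at ht
  obtain ⟨y₀, hy₀, rfl⟩ := ht
  rw [show C = Nat.card (Y ⊓ Subgroup.centralizer ({g} : Set G) : Subgroup G) from rfl,
    Nat.card_eq_fintype_card, Fintype.card_subtype]
  refine Finset.card_equiv (Equiv.mulLeft y₀⁻¹) fun y => ?_
  simp only [Finset.mem_filter, Set.mem_toFinset, SetLike.mem_coe, Equiv.coe_mulLeft,
    Finset.mem_univ, true_and, Subgroup.mem_inf, mem_cent_iff]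
  constructor
  · rintro ⟨hy, h⟩
    refine ⟨mul_mem (inv_mem hy₀) hy, (commute_of_conj_eq ?_).symm⟩
    calc y₀⁻¹ * y * g * (y₀⁻¹ * y)⁻¹ = y₀⁻¹ * (y * g * y⁻¹) * y₀ := by group
      _ = g := by rw [h]; group
  · rintro ⟨hy, h⟩
    have hy' : y ∈ Y := by simpa using mul_mem hy₀ hy
    refine ⟨hy', ?_⟩
    calc y * g * y⁻¹ = y₀ * ((y₀⁻¹ * y) * g * (y₀⁻¹ * y)⁻¹) * y₀⁻¹ := by group
      _ = _ := by rw [h.symm.eq, mul_inv_cancel_right]

namespace Setup

variable {σ τ : G} (S : Setup σ τ)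
include S

theorem commute_tau_of_b_one (hb : S.b = 1) {v : G} (hv : v ∈ S.V) : Commute τ v := by
  obtain ⟨x, hx, y, hy, hxt, hyt, rfl⟩ := S.exists_split hv
  have hbot := Subgroup.card_eq_one.1 hb
  have : y = 1 := Subgroup.mem_bot.1 (hbot ▸
    (⟨hy, mem_cent_iff.2 ((S.sigma_tau_fix_iff hy).2 hyt)⟩ :
      y ∈ (S.V ⊓ Subgroup.centralizer ({σ * τ} : Set G) : Subgroup G)))
  rw [this, mul_one]; exact hxt

theorem card_V_of_b_one (hb : S.b = 1) : Nat.card S.V = S.a := by rw [S.card_V, hb, mul_one]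

/-- The possible orders. -/
theorem orders (hb : S.b = 1) :
    S.a = 1 ∧ (Nat.card G = 168 ∨ Nat.card G = 360) ∨ S.a = 3 ∧ Nat.card G = 2520 ∨
      S.a = 5 ∧ Nat.card G = 7560 := by
  obtain ⟨p, q, r, hp, hp1, hq, hr, hsum, hA, hC⟩ := S.exists_eqs
  rw [hb] at hA hC
  have ha : S.a % 2 = 1 := Nat.odd_iff.1 S.odd_a
  have := S.a_pos
  have h := orders_of_b_one (N := (Nat.card G : ℤ)) (a := (S.a : ℤ)) (p := p) (q := q) (r := r)
    (by omega) (by omega) hp hp1 hq hr hsum (by push_cast at hA; linear_combination hA)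
    (by push_cast at hC; linear_combination hC)
  exact_mod_cast h

/-- The four group `{1, J, τ, Jτ}`. -/
def four : Subgroup G where
  carrier := {a | a = 1 ∨ a = σ ^ 2 ∨ a = τ ∨ a = σ ^ 2 * τ}
  one_mem' := Or.inl rfl
  mul_mem' := by
    have e1 : ∀ z, σ ^ 2 * (σ ^ 2 * z) = z := fun z => by rw [← mul_assoc, S.J_sq, one_mul]
    have e2 : ∀ z, τ * (τ * z) = z := fun z => by rw [← mul_assoc, S.tau_sq, one_mul]
    have e3 : τ * σ ^ 2 = σ ^ 2 * τ := S.commute_J_tau.symm.eq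
    have e4 : ∀ z, τ * (σ ^ 2 * z) = σ ^ 2 * (τ * z) := fun z => by
      rw [← mul_assoc, e3, mul_assoc]
    rintro a b (rfl | rfl | rfl | rfl) (rfl | rfl | rfl | rfl) <;>
      simp [mul_assoc, e1, e2, e3, e4, S.J_sq, S.tau_sq]
  inv_mem' := by
    rintro a (rfl | rfl | rfl | rfl)
    · exact Or.inl inv_one
    · exact Or.inr (Or.inl S.J_inv)
    · exact Or.inr (Or.inr (Or.inl S.tau_inv))
    · refine Or.inr (Or.inr (Or.inr ?_))
      rw [mul_inv_rev, S.J_inv, S.tau_inv, S.commute_J_tau.eq]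

theorem mem_four {x : G} :
    x ∈ S.four ↔ x = 1 ∨ x = σ ^ 2 ∨ x = τ ∨ x = σ ^ 2 * τ := Iff.rfl

theorem J_tau_ne_one : σ ^ 2 * τ ≠ 1 := fun e =>
  S.tau_ne_J (by rw [← inv_eq_of_mul_eq_one_right e, S.J_inv])

theorem card_four : Nat.card S.four = 4 := by
  classical
  rw [Nat.card_eq_fintype_card,
    Fintype.card_of_subtype ({1, σ ^ 2, τ, σ ^ 2 * τ} : Finset G) fun x => by
      simp [S.mem_four]]
  have h1 : σ ^ 2 ≠ σ ^ 2 * τ := fun e => S.tau_ne_one (left_eq_mul.1 e)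
  have h2 : τ ≠ σ ^ 2 * τ := fun e => S.J_ne (right_eq_mul.1 e)
  rw [Finset.card_insert_of_notMem (by simp [Ne.symm S.J_ne, Ne.symm S.tau_ne_one,
      Ne.symm S.J_tau_ne_one]),
    Finset.card_insert_of_notMem (by simp [Ne.symm S.tau_ne_J, h1]), Finset.card_pair h2]

theorem four_sq {x : G} (hx : x ∈ S.four) : x * x = 1 := by
  rcases hx with rfl | rfl | rfl | rfl
  · exact one_mul 1
  · exact S.J_sq
  · exact S.tau_sq
  · rw [S.commute_J_tau.symm.mul_mul_mul_comm, S.J_sq, S.tau_sq, one_mul]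

/-- `C(V)`. -/
def CV : Subgroup G := Subgroup.centralizer (S.V : Set G)

theorem mem_CV {x : G} : x ∈ S.CV ↔ ∀ v ∈ S.V, Commute v x := Subgroup.mem_centralizer_iff

theorem V_le_CV : S.V ≤ S.CV := fun _ hx => S.mem_CV.2 fun _ hv => S.V_comm hv hx

theorem four_le_CV (hb : S.b = 1) : S.four ≤ S.CV := fun x hx => S.mem_CV.2 fun v hv => by
  have h1 := (S.commute_J hv).symm
  have h2 := (S.commute_tau_of_b_one hb hv).symm
  rcases hx with rfl | rfl | rfl | rfl
  exacts [Commute.one_right v, h1, h2, h1.mul_right h2]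

/-- `C(V) ∩ C(J) = C(J, τ)`. -/
theorem CV_inf_cent (hb : S.b = 1) {w : G} (hw : w ∈ S.V) (hw1 : w ≠ 1) :
    S.CV ⊓ Subgroup.centralizer ({σ ^ 2} : Set G) =
      Subgroup.centralizer ({σ ^ 2, τ} : Set G) := by
  refine le_antisymm ?_ ?_
  · rintro c ⟨hc, hcJ⟩
    have hc' := mem_cent_iff.1 hcJ
    obtain ⟨v, hv, h⟩ := S.cent_fixed hc' hw hw1 (S.commute_tau_of_b_one hb hw)
      (S.mem_CV.1 hc w hw).symm
    have h1 : Commute τ v := S.commute_tau_of_b_one hb hv
    have hcτ : Commute τ c := by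
      rcases h with rfl | rfl | rfl | rfl
      exacts [h1, h1.mul_right S.commute_J_tau.symm, h1.mul_right (Commute.refl τ),
        h1.mul_right (S.commute_J_tau.symm.mul_right (Commute.refl τ))]
    refine Subgroup.mem_centralizer_iff.2 ?_
    rintro y (rfl | rfl)
    exacts [hc'.eq, hcτ.eq]
  · intro c hc
    rw [Subgroup.mem_centralizer_iff] at hc
    have hJ : Commute (σ ^ 2) c := hc _ (Set.mem_insert _ _)
    have hτ : Commute τ c := hc _ (Set.mem_insert_of_mem _ rfl)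
    refine ⟨S.mem_CV.2 fun v hv => ?_, mem_cent_iff.2 hJ⟩
    obtain ⟨u, hu, i, h | h⟩ := S.decomp hJ
    all_goals
      have hi : σ ^ i * σ ^ i = 1 := by
        have hu' := S.commute_tau_of_b_one hb hu
        have h' : Commute τ (σ ^ i) := by
          first
          | (have := hu'.inv_right.mul_right hτ; rwa [h, inv_mul_cancel_left] at this)
          | (have := (hu'.inv_right.mul_right hτ).mul_right (Commute.refl τ)
             rwa [h, inv_mul_cancel_left, mul_assoc, S.tau_sq, mul_one] at this)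
        have e := S.d.toCore.conj_pow_eq i
        rw [h'.eq, mul_inv_cancel_right] at e
        exact mul_eq_one_iff_eq_inv.2 e
      have hvu := S.V_comm hv hu
      rcases S.d.toCore.pow_eq_one_or_J hi with e | e <;> rw [h, e]
    · exact hvu.mul_right (Commute.one_right v)
    · exact hvu.mul_right (S.commute_J hv).symm
    · exact hvu.mul_right ((Commute.one_right v).mul_right (S.commute_tau_of_b_one hb hv).symm)
    · exact hvu.mul_right ((S.commute_J hv).symm.mul_right (S.commute_tau_of_b_one hb hv).symm)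

/-- `N_{C(V)}(⟨J, τ⟩)`. -/
def Y : Subgroup G := S.CV ⊓ Subgroup.normalizer (S.four : Set G)

theorem Y_le_CV : S.Y ≤ S.CV := inf_le_left

theorem Y_le_normalizer : S.Y ≤ Subgroup.normalizer (S.four : Set G) := inf_le_right

theorem pair_le_Y (hb : S.b = 1) {w : G} (hw : w ∈ S.V) (hw1 : w ≠ 1) :
    Subgroup.centralizer ({σ ^ 2, τ} : Set G) ≤ S.Y := by
  intro c hc
  refine ⟨?_, ?_⟩
  · rw [← S.CV_inf_cent hb hw hw1] at hc; exact hc.1
  refine mem_normalizer_of_maps fun x hx => ?_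
  rw [Subgroup.mem_centralizer_iff] at hc
  have hJ : Commute (σ ^ 2) c := hc _ (Set.mem_insert _ _)
  have hτ : Commute τ c := hc _ (Set.mem_insert_of_mem _ rfl)
  have : Commute c x := by
    rcases hx with rfl | rfl | rfl | rfl
    exacts [Commute.one_right c, hJ.symm, hτ.symm, hJ.symm.mul_right hτ.symm]
  rwa [this.eq, mul_inv_cancel_right]

/-- `Y` is strictly larger than `C(J, τ)` and at most three times as large. -/
theorem Y_facts (hb : S.b = 1) {w : G} (hw : w ∈ S.V) (hw1 : w ≠ 1) :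
    4 * S.a ∣ Nat.card S.Y ∧ 4 * S.a < Nat.card S.Y ∧ Nat.card S.Y ≤ 3 * (4 * S.a) ∧
      ∃ ρ ∈ S.Y, ρ * σ ^ 2 * ρ⁻¹ = σ ^ 2 * τ ∧ ρ * τ * ρ⁻¹ = σ ^ 2 := by
  classical
  obtain ⟨ρ, hρJ, hρt, hρV⟩ := S.exists_rho
  have hρY : ρ ∈ S.Y := by
    refine ⟨S.mem_CV.2 fun v hv => (hρV v hv (S.commute_tau_of_b_one hb hv)).symm,
      mem_normalizer_of_maps fun x hx => ?_⟩
    rcases hx with rfl | rfl | rfl | rfl
    · rw [mul_one, mul_inv_cancel]; exact one_mem _
    · rw [hρJ]; exact Or.inr (Or.inr (Or.inr rfl))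
    · rw [hρt]; exact Or.inr (Or.inl rfl)
    · refine Or.inr (Or.inr (Or.inl ?_))
      rw [← conj_mul, hρJ, hρt, S.commute_J_tau.eq, mul_assoc, S.J_sq, mul_one]
  have hle := S.pair_le_Y hb hw hw1
  have hD : Nat.card (Subgroup.centralizer ({σ ^ 2, τ} : Set G)) = 4 * S.a :=
    S.d.toCore.card_centralizer_pair
  refine ⟨hD ▸ Subgroup.card_dvd_of_le hle, ?_, ?_, ρ, hρY, hρJ, hρt⟩
  · refine lt_of_le_of_ne (hD ▸ Subgroup.card_le_of_le hle) fun e => ?_
    have := Subgroup.eq_of_le_of_card_ge hle (by rw [hD, e])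
    rw [← this, Subgroup.mem_centralizer_iff] at hρY
    have hc : Commute (σ ^ 2) ρ := hρY _ (Set.mem_insert _ _)
    rw [hc.symm.eq, mul_inv_cancel_right] at hρJ
    exact S.tau_ne_one (left_eq_mul.1 hρJ)
  · rw [card_eq_orbit_mul S.Y (σ ^ 2)]
    refine Nat.mul_le_mul ?_ (hD ▸ Subgroup.card_le_of_le ?_)
    · refine (Set.ncard_le_ncard (t := (({σ ^ 2, τ, σ ^ 2 * τ} : Finset G) : Set G)) ?_
        (Finset.finite_toSet _)).trans (by rw [Set.ncard_coe_finset]; exact Finset.card_le_three)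
      rintro _ ⟨y, hy, rfl⟩
      have h : y * σ ^ 2 * y⁻¹ ∈ S.four :=
        (Subgroup.mem_normalizer_iff.1 hy.2 _).1 (Or.inr (Or.inl rfl))
      rcases h with h | h | h | h
      · exact absurd (conj_eq_one_iff.1 h) S.J_ne
      all_goals simp [h]
    · rw [← S.CV_inf_cent hb hw hw1]
      exact inf_le_inf_right _ inf_le_left

/-- `C(J) ≤ N(V)`. -/
theorem cent_J_le_normalizer :
    Subgroup.centralizer ({σ ^ 2} : Set G) ≤ Subgroup.normalizer (S.V : Set G) := fun _ hc =>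
  mem_normalizer_of_maps fun _ hv => S.normV (mem_cent_iff.1 hc) hv

theorem card_cent_J (hb : S.b = 1) :
    Nat.card (Subgroup.centralizer ({σ ^ 2} : Set G)) = 8 * S.a := by
  rw [S.d.toCore.card_centralizer_J, S.d.toCore.card_K, show Nat.card S.d.V = S.a from S.card_V_of_b_one hb]
  ring

theorem sigma_notin_CV {w : G} (hw : w ∈ S.V) (hw1 : w ≠ 1) : σ ∉ S.CV := fun h =>
  hw1 (S.eq_one_of_cent hw (S.mem_CV.1 h w hw).symm)

end Setup

end Cfsg.Agent.SmallCent
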