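import Mathlib

/-!
# Arithmetic of the character equations
-/

set_option autoImplicit false

namespace Cfsg.Agent.SmallCent

theorem bound_p {p : ℤ} (h : 9 ≤ p ∨ p ≤ -7) :
    0 < p * (p + 1) ∧ 9 * (p + 1) ^ 2 ≤ 10 * (p * (p + 1)) ∧ 6 * (p * (p + 1)) ≤ 7 * (p + 1) ^ 2 ∧
      0 < (p + 1) ^ 2 := by
  rcases h with h | h <;> refine ⟨?_, ?_, ?_, ?_⟩ <;> nlinarith

theorem bound_q {q : ℤ} (h : 3 ≤ q ∨ q ≤ -5) :
    0 < q * (q + 1) ∧ 3 * (q + 1) ^ 2 ≤ 4 * (q * (q + 1)) ∧ 4 * (q * (q + 1)) ≤ 5 * (q + 1) ^ 2 ∧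
      0 < (q + 1) ^ 2 := by
  rcases h with h | h <;> refine ⟨?_, ?_, ?_, ?_⟩ <;> nlinarith

/-- The order is between `128 K` and `512 K`. -/
theorem order_bounds {N K p q r : ℤ} (hK : 0 < K) (hp : p % 8 = 1) (hp1 : p ≠ 1) (hq : q % 8 = 3)
    (hr : r % 8 = 3) (hA : N * ((1 + p) * (1 + q) * (1 + r)) = 256 * K * (p * q * r)) :
    128 * K < N ∧ N < 512 * K := by
  obtain ⟨hp0, hpl, hpu, hpd⟩ := bound_p (p := p) (by omega)
  obtain ⟨hq0, hql, hqu, hqd⟩ := bound_q (q := q) (by omega)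
  obtain ⟨hr0, hrl, hru, hrd⟩ := bound_q (q := r) (by omega)
  set A := p * (p + 1)
  set B := q * (q + 1)
  set C := r * (r + 1)
  set D := (p + 1) ^ 2
  set E := (q + 1) ^ 2
  set F := (r + 1) ^ 2
  have hDEF : 0 < D * E * F := by positivity
  have hmain : N * (D * E * F) = 256 * K * (A * B * C) := by
    calc N * (D * E * F)
        = N * ((1 + p) * (1 + q) * (1 + r)) * ((1 + p) * (1 + q) * (1 + r)) := by
          simp only [D, E, F]; ring
      _ = _ := by rw [hA]; simp only [A, B, C]; ring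
  have h1 : 81 * (D * E * F) ≤ 160 * (A * B * C) := by
    have h := mul_le_mul (mul_le_mul hpl hql (by positivity) (by positivity)) hrl (by positivity)
      (by positivity)
    nlinarith
  have h2 : 96 * (A * B * C) ≤ 175 * (D * E * F) := by
    have h := mul_le_mul (mul_le_mul hpu hqu (by positivity) (by positivity)) hru (by positivity)
      (by positivity)
    nlinarith
  constructor
  · refine lt_of_mul_lt_mul_right (a := D * E * F) ?_ hDEF.le
    rw [hmain]
    nlinarith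
  · refine lt_of_mul_lt_mul_right (a := D * E * F) ?_ hDEF.le
    rw [hmain]
    nlinarith

theorem seven_le {a : ℤ} (h : 7 ≤ a) : 80 * a < 9 * (a + 1) ^ 2 ∧ 25 * a < 4 * (a + 1) ^ 2 := by
  constructor <;> nlinarith

theorem shift_sq_le {p : ℤ} :
    (9 ≤ p → (p - 1) ^ 2 ≤ (p + 1) ^ 2) ∧ (p ≤ -7 → 9 * (p - 1) ^ 2 ≤ 16 * (p + 1) ^ 2) :=
  ⟨fun h => by nlinarith, fun h => by nlinarith⟩

theorem self_mul_le {q : ℤ} (h : 0 ≤ q) : q * (q + 1) ≤ (q + 1) ^ 2 := by nlinarith

/-- The possible orders when `C_V(στ) = 1`. -/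
theorem orders_of_b_one {N a p q r : ℤ} (ha : 0 < a) (ha2 : a % 2 = 1) (hp : p % 8 = 1)
    (hp1 : p ≠ 1) (hq : q % 8 = 3) (hr : r % 8 = 3) (hsum : 1 + p + q + r = 0)
    (hA : N * ((1 + p) * (1 + q) * (1 + r)) = 256 * a ^ 2 * (p * q * r))
    (hC : N * (p - 1) ^ 2 = 64 * a * (a + 1) ^ 2 * (p * (p + 1))) :
    a = 1 ∧ (N = 168 ∨ N = 360) ∨ a = 3 ∧ N = 2520 ∨ a = 5 ∧ N = 7560 := by
  have hR : 4 * a * (q * r) * (p - 1) ^ 2 = (a + 1) ^ 2 * (p + 1) ^ 2 * ((1 + q) * (1 + r)) := by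
    refine mul_left_cancel₀ (a := 64 * a * p) (by
      refine mul_ne_zero (mul_ne_zero (by norm_num) (by omega)) (by omega)) ?_
    linear_combination -(p - 1) ^ 2 * hA + ((1 + p) * (1 + q) * (1 + r)) * hC
  have hR' : q * r * (4 * a * (p - 1) ^ 2 - (a + 1) ^ 2 * (p + 1) ^ 2) =
      -(p * (a + 1) ^ 2 * (p + 1) ^ 2) := by
    linear_combination hR + (a + 1) ^ 2 * (p + 1) ^ 2 * hsum
  rcases le_or_gt 7 a with ha7 | ha7
  · exfalso
    obtain ⟨hq0, hql, hqu, hqd⟩ := bound_q (q := q) (by omega)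
    obtain ⟨hr0, hrl, hru, hrd⟩ := bound_q (q := r) (by omega)
    have hY : 0 < (q + 1) ^ 2 * (r + 1) ^ 2 := by positivity
    have key : 4 * a * (p - 1) ^ 2 * (q * (q + 1) * (r * (r + 1))) =
        (a + 1) ^ 2 * (p + 1) ^ 2 * ((q + 1) ^ 2 * (r + 1) ^ 2) := by
      linear_combination ((1 + q) * (1 + r)) * hR
    rcases le_or_gt 9 p with hp9 | hp9
    · have h1 := (shift_sq_le (p := p)).1 hp9
      have h2 : 16 * (q * (q + 1) * (r * (r + 1))) ≤ 25 * ((q + 1) ^ 2 * (r + 1) ^ 2) := by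
        have h := mul_le_mul hqu hru (by positivity) (by positivity)
        linarith
      have h3 := mul_le_mul h1 h2 (by positivity) (by positivity)
      have h4 := (seven_le ha7).2
      have h5 : 0 < (p + 1) ^ 2 * ((q + 1) ^ 2 * (r + 1) ^ 2) := by
        have := (bound_p (p := p) (by omega)).2.2.2
        positivity
      linarith [mul_lt_mul_of_pos_right h4 h5, mul_le_mul_of_nonneg_left h3 ha.le]
    · have h1 := (shift_sq_le (p := p)).2 (by omega)
      have h2 : 4 * (q * (q + 1) * (r * (r + 1))) ≤ 5 * ((q + 1) ^ 2 * (r + 1) ^ 2) := by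
        rcases le_or_gt 0 q with h0 | h0
        · have hqle := self_mul_le h0
          have h := mul_le_mul hqle hru (by positivity) (by positivity)
          linarith
        · have hrle := self_mul_le (show 0 ≤ r by omega)
          have h := mul_le_mul hqu hrle (by positivity) (by positivity)
          linarith
      have h3 := mul_le_mul h1 h2 (by positivity) (by positivity)
      have h4 := (seven_le ha7).1
      have h5 : 0 < (p + 1) ^ 2 * ((q + 1) ^ 2 * (r + 1) ^ 2) := by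
        have := (bound_p (p := p) (by omega)).2.2.2
        positivity
      linarith [mul_lt_mul_of_pos_right h4 h5, mul_le_mul_of_nonneg_left h3 ha.le]
  have : a = 1 ∨ a = 3 ∨ a = 5 := by omega
  rcases this with rfl | rfl | rfl
  · left
    refine ⟨rfl, ?_⟩
    have h4 : 4 * (q * r) = (p + 1) ^ 2 := by
      refine mul_left_cancel₀ (a := -(4 * p)) (by omega) ?_
      linear_combination hR'
    have hqr : q = r := by
      have : (q - r) ^ 2 = 0 := by
        linear_combination (q + r - p - 1) * hsum - h4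
      have := pow_eq_zero_iff (by norm_num : 2 ≠ 0) |>.1 this
      omega
    obtain ⟨k, hk, hk2⟩ : ∃ k : ℤ, p = 1 - 8 * k ∧ k % 2 = 1 := ⟨(1 - p) / 8, by omega, by omega⟩
    subst hk
    have hN : N * k ^ 2 = 8 * ((1 - 8 * k) * (1 - 4 * k)) := by
      refine mul_left_cancel₀ (a := (64 : ℤ)) (by norm_num) ?_
      linear_combination hC
    have hu : IsUnit k := by
      refine IsCoprime.isUnit_of_dvd' (?_ : IsCoprime k (8 * ((1 - 8 * k) * (1 - 4 * k)))) dvd_rfl
        ⟨N * k, by rw [← hN]; ring⟩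
      refine IsCoprime.mul_right ?_ (IsCoprime.mul_right ⟨8, 1, by ring⟩ ⟨4, 1, by ring⟩)
      have h2 : IsCoprime k 2 := ⟨1, -(k / 2), by omega⟩
      exact (h2.pow_right (n := 3) : IsCoprime k (2 ^ 3))
    rcases Int.isUnit_iff.1 hu with rfl | rfl
    · left; linarith
    · right; linarith
  · right; left
    refine ⟨rfl, ?_⟩
    set D := p ^ 2 + 14 * p + 1 with hD
    have h1 : q * r * D = 4 * p * (p + 1) ^ 2 := by
      refine mul_left_cancel₀ (a := (-4 : ℤ)) (by norm_num) ?_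
      linear_combination hR'
    have h2 : D ∣ 48 * p ^ 2 := ⟨4 * p - q * r, by linear_combination h1⟩
    have hcop : IsCoprime D (p ^ 2) :=
      IsCoprime.pow_right (⟨1, -(p + 14), by rw [hD]; ring⟩ : IsCoprime D p)
    have h3 : D ∣ 48 := hcop.dvd_of_dvd_mul_right h2
    have h4 : D ≤ 48 := Int.le_of_dvd (by norm_num) h3
    have hlo : -17 ≤ p := by nlinarith
    have hhi : p ≤ 3 := by nlinarith
    have hp' : p = -15 ∨ p = -7 := by omega
    rcases hp' with rfl | rfl
    · linarith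
    · exfalso
      have hs : q + r = 6 := by linarith
      have : q * r = 21 := by norm_num [hD] at h1; linarith
      nlinarith [mul_self_nonneg (q - r)]
  · right; right
    refine ⟨rfl, ?_⟩
    set D := p ^ 2 + 7 * p + 1 with hD
    have h1 : 4 * (q * r) * D = 9 * p * (p + 1) ^ 2 := by
      refine mul_left_cancel₀ (a := (-4 : ℤ)) (by norm_num) ?_
      linear_combination hR'
    have h2 : D ∣ 45 * p ^ 2 := ⟨9 * p - 4 * (q * r), by linear_combination h1⟩
    have hcop : IsCoprime D (p ^ 2) :=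
      IsCoprime.pow_right (⟨1, -(p + 7), by rw [hD]; ring⟩ : IsCoprime D p)
    have h3 : D ∣ 45 := hcop.dvd_of_dvd_mul_right h2
    have h4 : D ≤ 45 := Int.le_of_dvd (by norm_num) h3
    have hlo : -12 ≤ p := by nlinarith
    have hhi : p ≤ 5 := by nlinarith
    have hp' : p = -7 := by omega
    subst hp'
    linarith

end Cfsg.Agent.SmallCent
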