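import Cfsg.Agent.Lib.DihedralBlock.Pairs

/-!
# An element of order four with centralizer of order four

`Setup σ τ`: a dihedral Sylow 2-subgroup `⟨σ, τ⟩` of order eight, one class of involutions and
`C(σ) = ⟨σ⟩`.  Then `σ` inverts the odd part `V` of `C(σ²)`.
-/

set_option autoImplicit false
set_option linter.unusedSectionVars false
set_option linter.style.haveILetI false

namespace Cfsg.Agent.SmallCent

open DihedralBlock

universe u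

variable {G : Type u} [Group G] [Fintype G]

/-- Dihedral Sylow subgroup of order eight, one class of involutions, `σ` self-centralizing. -/
structure Setup (σ τ : G) where
  d : Data σ τ 2
  P : Sylow 2 G
  hσ : σ ∈ (P : Subgroup G)
  hτ : τ ∈ (P : Subgroup G)
  hform : ∀ x ∈ (P : Subgroup G), ∃ i : ℕ, x = σ ^ i ∨ x = σ ^ i * τ
  cent : ∀ g : G, Commute σ g → g ∈ Subgroup.zpowers σ

namespace Setup

variable {σ τ : G} (S : Setup σ τ)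
include S

/-- The odd part of `C(σ²)`. -/
def V : Subgroup G := S.d.V

/-- `|C_V(τ)|`. -/
noncomputable def a : ℕ := Nat.card (S.V ⊓ Subgroup.centralizer ({τ} : Set G) : Subgroup G)

/-- `|C_V(στ)|`. -/
noncomputable def b : ℕ := Nat.card (S.V ⊓ Subgroup.centralizer ({σ * τ} : Set G) : Subgroup G)

theorem sigma_four : σ ^ 4 = 1 := S.d.toCore.sigma_pow_two_mul

theorem J_sq : σ ^ 2 * σ ^ 2 = 1 := S.d.toCore.J_sq

theorem J_inv : (σ ^ 2)⁻¹ = σ ^ 2 := S.d.toCore.J_inv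

theorem J_ne : σ ^ 2 ≠ 1 := S.d.toCore.J_ne_one

theorem tau_sq : τ * τ = 1 := S.d.tsq

theorem tau_inv : τ⁻¹ = τ := S.d.toCore.tinv

theorem tau_sigma : τ * σ = σ⁻¹ * τ := by simpa using S.d.toCore.t_mul_pow 1

theorem tau_sigma_inv : τ * σ⁻¹ = σ * τ := by
  calc τ * σ⁻¹ = σ * (σ⁻¹ * τ) * σ⁻¹ := by group
    _ = σ * (τ * σ) * σ⁻¹ := by rw [S.tau_sigma]
    _ = σ * τ := by group

theorem sigma_conj_tau : σ * τ * σ⁻¹ = σ ^ 2 * τ := by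
  rw [mul_assoc, S.tau_sigma_inv, ← mul_assoc, ← pow_two]

theorem commute_J_tau : Commute (σ ^ 2) τ := S.d.toCore.commute_J_t

theorem commute_J_sigma : Commute (σ ^ 2) σ := Commute.pow_self σ 2

theorem commute_J_sigma_tau : Commute (σ ^ 2) (σ * τ) := S.commute_J_sigma.mul_right S.commute_J_tau

theorem tau_ne_one : τ ≠ 1 := fun e => S.d.toCore.tau_notin_K (by
  generalize S.d.toCore.K = L; rw [e]; exact one_mem L)

theorem tau_ne_J : τ ≠ σ ^ 2 := fun e => by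
  have h := S.d.toCore.J_mem_K
  have h' := S.d.toCore.tau_notin_K
  generalize S.d.toCore.K = L at h h'
  exact h' (e ▸ h)

theorem orderOf_tau : orderOf τ = 2 := orderOf_eq_prime (by rw [pow_two]; exact S.tau_sq) S.tau_ne_one

/-- Exchange `τ` and `στ`. -/
def shift : Setup σ (σ * τ) where
  d := { S.d.toCore.shift with conjAll := S.d.conjAll }
  P := S.P
  hσ := S.hσ
  hτ := mul_mem S.hσ S.hτ
  hform := fun x hx => by
    obtain ⟨i, h | h⟩ := S.hform x hx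
    · exact ⟨i, Or.inl h⟩
    · refine ⟨i + 3, Or.inr ?_⟩
      rw [h, ← mul_assoc, ← pow_succ, show i + 3 + 1 = i + 4 by ring, pow_add, S.sigma_four, mul_one]
  cent := S.cent

theorem shift_V : S.shift.V = S.V := rfl

theorem shift_a : S.shift.a = S.b := rfl

theorem mem_V {v : G} : v ∈ S.V ↔ Commute (σ ^ 2) v ∧ Odd (orderOf v) := S.d.mem_V v

theorem commute_J {v : G} (hv : v ∈ S.V) : Commute (σ ^ 2) v := (S.mem_V.1 hv).1

theorem odd_of_mem {v : G} (hv : v ∈ S.V) : Odd (orderOf v) := (S.mem_V.1 hv).2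

theorem odd_V : Odd (Nat.card S.V) := S.d.oddV

theorem normV {c : G} (hc : Commute (σ ^ 2) c) {v : G} (hv : v ∈ S.V) : c * v * c⁻¹ ∈ S.V :=
  S.d.normV c hc v hv

theorem eq_one_of_sq {v : G} (hv : v ∈ S.V) (h : v * v = 1) : v = 1 := S.d.toCore.eq_one_of_sq hv h

theorem exists_sqrt {v : G} (hv : v ∈ S.V) : ∃ h, (∃ k : ℕ, h = v ^ k) ∧ h ∈ S.V ∧ h * h = v := by
  obtain ⟨t, ht⟩ := S.odd_of_mem hv
  refine ⟨v ^ (t + 1), ⟨_, rfl⟩, pow_mem hv _, ?_⟩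
  rw [← pow_add, show t + 1 + (t + 1) = orderOf v + 1 by omega, pow_succ, pow_orderOf_eq_one, one_mul]

theorem eq_one_of_cent {v : G} (hv : v ∈ S.V) (h : Commute σ v) : v = 1 := by
  obtain ⟨i, hi⟩ := (mem_powers_iff_mem_zpowers).2 (S.cent v h)
  have hi' : σ ^ i = v := hi
  rw [← hi'] at hv ⊢
  exact S.d.toCore.pow_mem_V hv

/-- `σ` inverts `V`. -/
theorem sigma_conj {v : G} (hv : v ∈ S.V) : σ * v * σ⁻¹ = v⁻¹ := by
  let f : S.V → S.V := fun w =>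
    ⟨(w : G)⁻¹ * (σ * w * σ⁻¹), mul_mem (inv_mem w.2) (S.normV S.commute_J_sigma w.2)⟩
  have hf : Function.Injective f := fun w w' h => by
    have h' : (w : G)⁻¹ * (σ * w * σ⁻¹) = (w' : G)⁻¹ * (σ * w' * σ⁻¹) := congrArg Subtype.val h
    have h1 : σ * ((w' : G) * (w : G)⁻¹) * σ⁻¹ = (w' : G) * (w : G)⁻¹ := by
      calc σ * ((w' : G) * (w : G)⁻¹) * σ⁻¹
          = (w' : G) * ((w' : G)⁻¹ * (σ * w' * σ⁻¹)) * (σ * w * σ⁻¹)⁻¹ := by group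
        _ = (w' : G) * ((w : G)⁻¹ * (σ * w * σ⁻¹)) * (σ * w * σ⁻¹)⁻¹ := by rw [h']
        _ = _ := by group
    have h2 := S.eq_one_of_cent (mul_mem w'.2 (inv_mem w.2)) (mul_inv_eq_iff_eq_mul.1 h1)
    exact Subtype.ext (mul_inv_eq_one.1 h2).symm
  obtain ⟨w, hw⟩ := (Finite.injective_iff_surjective.1 hf) ⟨v, hv⟩
  have hw' : (w : G)⁻¹ * (σ * w * σ⁻¹) = v := congrArg Subtype.val hw
  have hJ : σ * (σ * w * σ⁻¹) * σ⁻¹ = w := by
    calc σ * (σ * (w : G) * σ⁻¹) * σ⁻¹ = σ ^ 2 * w * (σ ^ 2)⁻¹ := by rw [pow_two]; group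
      _ = w := by rw [(S.commute_J w.2).eq, mul_inv_cancel_right]
  rw [← hw']
  calc σ * ((w : G)⁻¹ * (σ * w * σ⁻¹)) * σ⁻¹ = (σ * w * σ⁻¹)⁻¹ * (σ * (σ * w * σ⁻¹) * σ⁻¹) := by
        group
    _ = _ := by rw [hJ]; group

theorem V_comm {v w : G} (hv : v ∈ S.V) (hw : w ∈ S.V) : Commute v w := by
  have h : w * v = v * w := by
    calc w * v = (σ * (w * v)⁻¹ * σ⁻¹) := by
          rw [S.sigma_conj (inv_mem (mul_mem hw hv)), inv_inv]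
      _ = (σ * v * σ⁻¹)⁻¹ * (σ * w * σ⁻¹)⁻¹ := by group
      _ = v * w := by rw [S.sigma_conj hv, S.sigma_conj hw, inv_inv, inv_inv]
  exact h.symm

/-- `στ` fixes what `τ` inverts. -/
theorem sigma_tau_fix_iff {v : G} (hv : v ∈ S.V) :
    Commute (σ * τ) v ↔ τ * v * τ⁻¹ = v⁻¹ := by
  have e : σ * τ * v * (σ * τ)⁻¹ = (τ * v * τ⁻¹)⁻¹ := by
    rw [← S.sigma_conj (S.normV S.commute_J_tau hv)]; group
  constructor
  · intro h
    rw [h.eq, mul_inv_cancel_right] at e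
    exact eq_inv_of_mul_eq_one_left (mul_eq_one_iff_eq_inv'.2 e)
  · intro h
    rw [h, inv_inv] at e
    exact mul_inv_eq_iff_eq_mul.1 e

theorem num_zero : S.d.toCore.num 0 = S.b := by
  refine Nat.card_congr
    { toFun := fun x => ⟨(x.1 : G), x.1.2, ?_⟩
      invFun := fun v => ⟨⟨v, v.2.1⟩, ?_⟩
      left_inv := fun x => Subtype.ext (Subtype.ext rfl)
      right_inv := fun x => Subtype.ext rfl }
  · refine Subgroup.mem_centralizer_singleton_iff.2 ((S.sigma_tau_fix_iff x.1.2).2 ?_).symm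
    have h := x.2
    simp only [pow_zero, one_mul] at h
    rw [S.tau_inv]
    refine eq_inv_of_mul_eq_one_right ?_
    calc (x.1 : G) * (τ * x.1 * τ) = x.1 * τ * (x.1 * τ) := by group
      _ = 1 := h
  · have h := (S.sigma_tau_fix_iff v.2.1).1 (Subgroup.mem_centralizer_singleton_iff.1 v.2.2).symm
    rw [S.tau_inv] at h
    simp only [pow_zero, one_mul]
    calc (v : G) * τ * ((v : G) * τ) = v * (τ * v * τ) := by group
      _ = 1 := by rw [h, mul_inv_cancel]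

/-- `|V| = ab`. -/
theorem card_V : Nat.card S.V = S.a * S.b := by
  rw [mul_comm, ← S.num_zero]
  exact S.d.toCore.num_zero_mul.symm

theorem shift_b : S.shift.b = S.a := by
  have h1 := S.shift.card_V
  have h2 := S.card_V
  rw [shift_a] at h1
  have h3 : 0 < S.b := Nat.card_pos
  refine Nat.eq_of_mul_eq_mul_left h3 ?_
  rw [← h1, mul_comm S.b, ← h2]; rfl

theorem a_pos : 0 < S.a := Nat.card_pos

theorem b_pos : 0 < S.b := Nat.card_pos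

theorem odd_a : Odd S.a := S.odd_V.of_dvd_nat (Subgroup.card_dvd_of_le inf_le_left)

theorem odd_b : Odd S.b := S.odd_V.of_dvd_nat (Subgroup.card_dvd_of_le inf_le_left)

theorem decomp {c : G} (hc : Commute (σ ^ 2) c) :
    ∃ v ∈ S.V, ∃ i : ℕ, c = v * σ ^ i ∨ c = v * (σ ^ i * τ) := S.d.decomp c hc

theorem pow_mod_four (i : ℕ) : σ ^ i = σ ^ (i % 4) := by
  conv_lhs => rw [← Nat.div_add_mod i 4, pow_add, pow_mul, S.sigma_four, one_pow, one_mul]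

/-- An involution of `C(J)` other than `J`. -/
theorem exists_outer {u : G} (hu : Commute (σ ^ 2) u) (h2 : u * u = 1) (h1 : u ≠ 1)
    (hJ : u ≠ σ ^ 2) : ∃ v ∈ S.V, ∃ i : ℕ, u = v * (σ ^ i * τ) ∧
      σ ^ i * τ * v * (σ ^ i * τ)⁻¹ = v⁻¹ := by
  obtain ⟨v, hv, i, h | h⟩ := S.decomp hu
  · exact absurd (S.d.toCore.eq_J_of_invol ⟨v, hv, i, h⟩ h2 h1) hJ
  · refine ⟨v, hv, i, h, ?_⟩
    have hw : σ ^ i * τ * (σ ^ i * τ) = 1 := S.d.toCore.mul_tau_sq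
    rw [h] at h2
    rw [inv_eq_of_mul_eq_one_right hw]
    calc σ ^ i * τ * v * (σ ^ i * τ) = v⁻¹ * (v * (σ ^ i * τ) * (v * (σ ^ i * τ))) := by group
      _ = v⁻¹ := by rw [h2, mul_one]

theorem pow_conj_tau (m r : ℕ) : σ ^ m * (σ ^ r * τ) * (σ ^ m)⁻¹ = σ ^ (2 * m + r) * τ := by
  have e : τ * (σ ^ m)⁻¹ = σ ^ m * τ := by
    calc τ * (σ ^ m)⁻¹ = σ ^ m * ((σ ^ m)⁻¹ * τ) * (σ ^ m)⁻¹ := by group
      _ = σ ^ m * (τ * σ ^ m) * (σ ^ m)⁻¹ := by rw [S.d.toCore.t_mul_pow]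
      _ = σ ^ m * τ := by group
  rw [mul_assoc, mul_assoc (σ ^ r), e, ← mul_assoc, ← mul_assoc, ← pow_add, ← pow_add]
  congr 2
  ring

/-- An involution of `C(J)` other than `J` is conjugate in `C(J)` to `τ` or `στ`. -/
theorem exists_conj_outer {u : G} (hu : Commute (σ ^ 2) u) (h2 : u * u = 1) (h1 : u ≠ 1)
    (hJ : u ≠ σ ^ 2) :
    ∃ c : G, Commute (σ ^ 2) c ∧ (u = c * τ * c⁻¹ ∨ u = c * (σ * τ) * c⁻¹) := by
  obtain ⟨v, hv, i, h, hw⟩ := S.exists_outer hu h2 h1 hJ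
  obtain ⟨e, ⟨k, hk⟩, he, he2⟩ := S.exists_sqrt hv
  have hwe : σ ^ i * τ * e * (σ ^ i * τ)⁻¹ = e⁻¹ := by rw [hk, ← conj_pow, hw, inv_pow]
  have hue : u = e * (σ ^ i * τ) * e⁻¹ := by
    rw [h, ← he2]
    calc e * e * (σ ^ i * τ) = e * (e⁻¹)⁻¹ * (σ ^ i * τ) := by rw [inv_inv]
      _ = e * (σ ^ i * τ * e * (σ ^ i * τ)⁻¹)⁻¹ * (σ ^ i * τ) := by rw [hwe]
      _ = _ := by group
  refine ⟨e * σ ^ (i / 2), (S.commute_J he).mul_right (Commute.pow_pow_self σ 2 _), ?_⟩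
  have key : ∀ r, u = e * σ ^ (i / 2) * (σ ^ r * τ) * (e * σ ^ (i / 2))⁻¹ ↔
      u = e * (σ ^ (2 * (i / 2) + r) * τ) * e⁻¹ := fun r => by
    rw [← S.pow_conj_tau (i / 2) r]; simp only [mul_inv_rev, mul_assoc]
  rcases Nat.mod_two_eq_zero_or_one i with hi | hi
  · left
    have := (key 0).2 (by rw [add_zero, show 2 * (i / 2) = i by omega]; exact hue)
    simpa using this
  · right
    have := (key 1).2 (by rw [show 2 * (i / 2) + 1 = i by omega]; exact hue)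
    simpa using this

/-- Some element exchanges `J` and `τ`. -/
theorem exists_swap : ∃ g : G, g * σ ^ 2 * g⁻¹ = τ ∧ g * τ * g⁻¹ = σ ^ 2 := by
  have half : ∀ {t : G}, Commute (σ ^ 2) t → t * t = 1 → t ≠ 1 → t ≠ σ ^ 2 →
      ∃ g : G, g * t * g⁻¹ = σ ^ 2 ∧ (g * σ ^ 2 * g⁻¹ = τ ∨ g * σ ^ 2 * g⁻¹ = σ * τ) := by
    intro t hc ht2 ht1 htJ
    obtain ⟨g, hg⟩ := isConj_iff.1 (S.d.conjAll t (orderOf_eq_prime (by rw [pow_two, ht2]) ht1)).symm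
    have hu : Commute (σ ^ 2) (g * σ ^ 2 * g⁻¹) := by
      have h0 := (Commute.conj_iff g).2 hc.symm
      rwa [hg] at h0
    obtain ⟨c, hc', h⟩ := S.exists_conj_outer hu (by rw [conj_mul, S.J_sq, mul_one, mul_inv_cancel])
      (fun e => S.J_ne (conj_eq_one_iff.1 e)) (fun e => htJ (mul_left_cancel
        (mul_right_cancel (hg.trans e.symm))))
    refine ⟨c⁻¹ * g, ?_, h.imp ?_ ?_⟩
    · calc c⁻¹ * g * t * (c⁻¹ * g)⁻¹ = c⁻¹ * (g * t * g⁻¹) * c := by group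
        _ = c⁻¹ * (σ ^ 2 * c) := by rw [hg, mul_assoc]
        _ = σ ^ 2 := by rw [hc'.eq, inv_mul_cancel_left]
    all_goals
      intro e
      calc c⁻¹ * g * σ ^ 2 * (c⁻¹ * g)⁻¹ = c⁻¹ * (g * σ ^ 2 * g⁻¹) * c := by group
        _ = _ := by rw [e]; group
  have hτJ : τ ≠ σ ^ 2 := fun e => by
    have := S.d.toCore.tau_notin_K
    exact this (e ▸ S.d.toCore.J_mem_K)
  have hτ1 : τ ≠ 1 := fun e => S.d.toCore.tau_notin_K (e ▸ S.d.toCore.K.one_mem)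
  obtain ⟨g, hg, h | h⟩ := half S.commute_J_tau S.tau_sq hτ1 hτJ
  · exact ⟨g, h, hg⟩
  have hgs : g⁻¹ * (σ * τ) * g = σ ^ 2 := by rw [← h]; group
  have hgJ : g⁻¹ * σ ^ 2 * g = τ := by rw [← hg]; group
  set k := σ * g * σ * g⁻¹ * σ⁻¹ with hk
  have e3 : σ * (σ ^ 2 * τ) * σ⁻¹ = τ := by
    calc σ * (σ ^ 2 * τ) * σ⁻¹ = σ ^ 2 * (σ * τ * σ⁻¹) := by group
      _ = τ := by rw [S.sigma_conj_tau, ← mul_assoc, S.J_sq, one_mul]
  have e4 : σ⁻¹ * (σ * τ) * σ = σ ^ 2 * (σ * τ) := by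
    rw [inv_mul_cancel_left, S.tau_sigma, ← mul_assoc (σ ^ 2), ← S.J_inv, pow_two]; group
  have hkJ : k * σ ^ 2 * k⁻¹ = σ * τ := by
    calc k * σ ^ 2 * k⁻¹ = σ * g * σ * (g⁻¹ * σ ^ 2 * g) * σ⁻¹ * g⁻¹ * σ⁻¹ := by rw [hk]; group
      _ = σ * g * (σ * τ * σ⁻¹) * g⁻¹ * σ⁻¹ := by rw [hgJ]; group
      _ = σ * ((g * σ ^ 2 * g⁻¹) * (g * τ * g⁻¹)) * σ⁻¹ := by rw [S.sigma_conj_tau]; group
      _ = σ * (σ * τ * σ ^ 2) * σ⁻¹ := by rw [h, hg]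
      _ = σ ^ 2 * (τ * σ) := by rw [pow_two]; group
      _ = _ := by rw [S.tau_sigma, ← mul_assoc, pow_two]; group
  have hks : k * (σ * τ) * k⁻¹ = σ ^ 2 := by
    calc k * (σ * τ) * k⁻¹ = σ * g * σ * (g⁻¹ * (σ⁻¹ * (σ * τ) * σ) * g) * σ⁻¹ * g⁻¹ * σ⁻¹ := by
          rw [hk]; group
      _ = σ * g * σ * ((g⁻¹ * σ ^ 2 * g) * (g⁻¹ * (σ * τ) * g)) * σ⁻¹ * g⁻¹ * σ⁻¹ := by
          rw [e4]; group
      _ = σ * g * (σ * (σ ^ 2 * τ) * σ⁻¹) * g⁻¹ * σ⁻¹ := by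
          rw [hgJ, hgs, S.commute_J_tau.eq]; group
      _ = σ * (g * τ * g⁻¹) * σ⁻¹ := by rw [e3]; group
      _ = σ ^ 2 := by rw [hg]; group
  refine ⟨g⁻¹ * k * g, ?_, ?_⟩
  · calc g⁻¹ * k * g * σ ^ 2 * (g⁻¹ * k * g)⁻¹ = g⁻¹ * (k * (g * σ ^ 2 * g⁻¹) * k⁻¹) * g := by
          group
      _ = τ := by rw [h, hks, hgJ]
  · calc g⁻¹ * k * g * τ * (g⁻¹ * k * g)⁻¹ = g⁻¹ * (k * (g * τ * g⁻¹) * k⁻¹) * g := by group
      _ = σ ^ 2 := by rw [hg, hkJ, hgs]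

/-- An element permuting `{J, τ, Jτ}` cyclically and centralizing `C_V(τ)`. -/
theorem exists_rho : ∃ ρ : G, ρ * σ ^ 2 * ρ⁻¹ = σ ^ 2 * τ ∧ ρ * τ * ρ⁻¹ = σ ^ 2 ∧
    ∀ v ∈ S.V, Commute τ v → Commute ρ v := by
  obtain ⟨g, hgJ, hgt⟩ := S.exists_swap
  have hgJ' : g⁻¹ * σ ^ 2 * g = τ := by rw [← hgt]; group
  have hgt' : g⁻¹ * τ * g = σ ^ 2 := by rw [← hgJ]; group
  refine ⟨g * σ * g⁻¹ * σ⁻¹, ?_, ?_, fun v hv hτv => ?_⟩
  · calc g * σ * g⁻¹ * σ⁻¹ * σ ^ 2 * (g * σ * g⁻¹ * σ⁻¹)⁻¹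
        = g * σ * (g⁻¹ * (σ⁻¹ * σ ^ 2 * σ) * g) * σ⁻¹ * g⁻¹ := by group
      _ = g * σ * (g⁻¹ * σ ^ 2 * g) * σ⁻¹ * g⁻¹ := by group
      _ = g * (σ * τ * σ⁻¹) * g⁻¹ := by rw [hgJ']; group
      _ = (g * σ ^ 2 * g⁻¹) * (g * τ * g⁻¹) := by rw [S.sigma_conj_tau]; group
      _ = τ * σ ^ 2 := by rw [hgJ, hgt]
      _ = _ := S.commute_J_tau.symm.eq
  · have e1 : σ⁻¹ * τ * σ = σ ^ 2 * τ := by
      rw [mul_assoc, S.tau_sigma, ← mul_assoc, ← S.J_inv, pow_two]; group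
    have e2 : g⁻¹ * (σ ^ 2 * τ) * g = σ ^ 2 * τ := by
      calc g⁻¹ * (σ ^ 2 * τ) * g = (g⁻¹ * σ ^ 2 * g) * (g⁻¹ * τ * g) := by group
        _ = τ * σ ^ 2 := by rw [hgJ', hgt']
        _ = _ := S.commute_J_tau.symm.eq
    have e3 : σ * (σ ^ 2 * τ) * σ⁻¹ = τ := by
      calc σ * (σ ^ 2 * τ) * σ⁻¹ = σ ^ 2 * (σ * τ * σ⁻¹) := by group
        _ = τ := by rw [S.sigma_conj_tau, ← mul_assoc, S.J_sq, one_mul]
    calc g * σ * g⁻¹ * σ⁻¹ * τ * (g * σ * g⁻¹ * σ⁻¹)⁻¹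
        = g * (σ * (g⁻¹ * (σ⁻¹ * τ * σ) * g) * σ⁻¹) * g⁻¹ := by group
      _ = g * τ * g⁻¹ := by rw [e1, e2, e3]
      _ = _ := hgt
  · have hw : g⁻¹ * v⁻¹ * g ∈ S.V := by
      refine S.mem_V.2 ⟨?_, ?_⟩
      · rw [← hgt']
        have := (Commute.conj_iff g⁻¹).2 (hτv.inv_right)
        rwa [inv_inv] at this
      · have := MulEquiv.orderOf_eq (MulAut.conj g⁻¹) v⁻¹
        simp only [MulAut.conj_apply, inv_inv] at this
        rw [this, orderOf_inv]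
        exact S.odd_of_mem hv
    refine mul_inv_eq_iff_eq_mul.1 ?_
    calc g * σ * g⁻¹ * σ⁻¹ * v * (g * σ * g⁻¹ * σ⁻¹)⁻¹
        = g * (σ * (g⁻¹ * (σ⁻¹ * v * σ) * g) * σ⁻¹) * g⁻¹ := by group
      _ = g * (σ * (g⁻¹ * v⁻¹ * g) * σ⁻¹) * g⁻¹ := by
          have e : σ⁻¹ * v * σ = v⁻¹ := by
            calc σ⁻¹ * v * σ = σ⁻¹ * (v⁻¹)⁻¹ * σ := by rw [inv_inv]
              _ = σ⁻¹ * (σ * v⁻¹ * σ⁻¹) * σ := by rw [S.sigma_conj (inv_mem hv)]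
              _ = v⁻¹ := by group
          rw [e]
      _ = g * (g⁻¹ * v⁻¹ * g)⁻¹ * g⁻¹ := by rw [S.sigma_conj hw]
      _ = v := by group

end Setup

end Cfsg.Agent.SmallCent
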