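import Cfsg.Agent.Lib.SmallCent.Odd

/-!
# Both parts of `V` nontrivial: the normalizer of the odd core of `C(V)`
-/

set_option autoImplicit false
set_option linter.unusedSectionVars false
set_option linter.style.haveILetI false

namespace Cfsg.Agent.SmallCent

open DihedralBlock

universe u

variable {G : Type u} [Group G] [Fintype G]

omit [Fintype G] in
theorem commute_of_conj_eq {g w : G} (h : g * w * g⁻¹ = w) : Commute g w :=
  mul_inv_eq_iff_eq_mul.1 h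

/-- The central involution of a dihedral group. -/
theorem exists_half {x y : G} (hx : x * x = 1) (hy : y * y = 1) (h : ¬ Odd (orderOf (x * y))) :
    ∃ k, (x * y) ^ k ≠ 1 ∧ (x * y) ^ k * (x * y) ^ k = 1 ∧ Commute x ((x * y) ^ k) ∧
      Commute y ((x * y) ^ k) := by
  obtain ⟨k, hk⟩ := Nat.not_odd_iff_even.1 h
  have hpos := orderOf_pos (x * y)
  have hsq : (x * y) ^ k * (x * y) ^ k = 1 := by rw [← pow_add, ← hk]; exact pow_orderOf_eq_one _
  have hxi := inv_eq_of_mul_eq_one_right hx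
  have hyi := inv_eq_of_mul_eq_one_right hy
  have key : ∀ z, z * (x * y) * z⁻¹ = (x * y)⁻¹ → Commute z ((x * y) ^ k) := fun z hz => by
    refine commute_of_conj_eq ?_
    rw [← conj_pow, hz, inv_pow]
    exact inv_eq_of_mul_eq_one_right hsq
  refine ⟨k, fun e => ?_, hsq, key x ?_, key y ?_⟩
  · have := Nat.le_of_dvd (by omega) (orderOf_dvd_of_pow_eq_one e)
    omega
  · rw [mul_inv_rev, hxi, hyi, ← mul_assoc, hx, one_mul]
  · rw [mul_inv_rev, hxi, hyi, mul_assoc, mul_assoc x y y, hy, mul_one]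

omit [Fintype G] in
theorem conj_commute_iff (g x y : G) : Commute (g * x * g⁻¹) (g * y * g⁻¹) ↔ Commute x y :=
  Commute.conj_iff g

theorem orderOf_conj_eq (g x : G) : orderOf (g * x * g⁻¹) = orderOf x := by
  rw [← MulAut.conj_apply, MulEquiv.orderOf_eq]

namespace Setup

variable {σ τ : G} (S : Setup σ τ)
include S

/-- Centralizing `C_V(τ)`. -/
def InK (x : G) : Prop := ∀ w ∈ S.V, Commute τ w → Commute x w

theorem InK_sigma_conj {x : G} (hx : S.InK x) : S.InK (σ * x * σ⁻¹) := fun w hw hτw => by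
  have h := (conj_commute_iff σ x w⁻¹).2 (hx w⁻¹ (inv_mem hw) hτw.inv_right)
  rwa [S.sigma_conj (inv_mem hw), inv_inv] at h

theorem InK_mul {x y : G} (hx : S.InK x) (hy : S.InK y) : S.InK (x * y) := fun w hw h =>
  (hx w hw h).mul_left (hy w hw h)

theorem InK_pow {x : G} (hx : S.InK x) (k : ℕ) : S.InK (x ^ k) := fun w hw h =>
  (hx w hw h).pow_left k

theorem InK_tau : S.InK τ := fun _ _ h => h

theorem InK_J : S.InK (σ ^ 2) := fun _ hw _ => S.commute_J hw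

theorem InK_of_mem {v : G} (hv : v ∈ S.V) : S.InK v := fun _ hw _ => S.V_comm hv hw

/-- An element of `C(στ)` of odd order centralizing `C_V(τ)` lies in `E`. -/
theorem InE_of_InK {m : G} (hm : S.InK m) (hc : Commute (σ * τ) m) (ho : Odd (orderOf m)) :
    S.InE m := by
  refine ⟨fun v hv => S.commute_V hm (fun w hw hτw => ?_) hv, ho⟩
  exact S.odd_comm (orderOf_eq_prime (by rw [pow_two]; exact S.shift.d.tsq)
    fun e => S.shift.d.toCore.tau_notin_K (by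
      generalize S.shift.d.toCore.K = L; rw [e]; exact one_mem L))
    hc ho ((S.sigma_tau_fix_iff hw).2 hτw) (S.odd_of_mem hw)

/-- An involution of `C(J) ∩ C(στ)` centralizing `C_V(τ)` is `J`. -/
theorem eq_J_of_InK {z w : G} (hw : w ∈ S.V) (hw1 : w ≠ 1) (hτw : Commute τ w)
    (hz : S.InK z) (hz2 : z * z = 1) (hz1 : z ≠ 1) (hJ : Commute (σ ^ 2) z)
    (hs : Commute (σ * τ) z) : z = σ ^ 2 := by
  by_contra hne
  obtain ⟨v, hv, i, h, -⟩ := S.exists_outer hJ hz2 hz1 hne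
  -- then `στ` centralizes `τ` modulo `V`
  obtain ⟨v', hv', h' | h' | h' | h'⟩ := S.cent_fixed hJ hw hw1 hτw (hz w hw hτw)
  · exact hne (S.d.toCore.eq_J_of_invol ⟨v', hv', 0, by rw [h', pow_zero, mul_one]⟩ hz2 hz1)
  · exact hne (S.d.toCore.eq_J_of_invol ⟨v', hv', 2, h'⟩ hz2 hz1)
  all_goals
    have hv'' : σ * τ * v' * (σ * τ)⁻¹ ∈ S.V := S.normV S.commute_J_sigma_tau hv'
    have e1 : σ * τ * z * (σ * τ)⁻¹ = z := by rw [hs.eq, mul_inv_cancel_right]
  · have e2 : σ * τ * τ * (σ * τ)⁻¹ = σ ^ 2 * τ := by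
      rw [mul_assoc σ τ τ, S.tau_sq, mul_one, mul_inv_rev, S.tau_inv, S.tau_sigma_inv, pow_two]
      group
    have e3 : v' * (σ ^ 0 * τ) = (σ * τ * v' * (σ * τ)⁻¹) * (σ ^ 2 * τ) := by
      rw [pow_zero, one_mul, ← h', ← e1, h', ← e2]; group
    rw [← mul_assoc, ← mul_assoc, mul_left_inj] at e3
    obtain ⟨-, e4⟩ := S.d.toCore.mul_pow_inj hv' hv'' e3
    exact S.J_ne (by rw [← e4, pow_zero])
  · have e2 : σ * τ * (σ ^ 2 * τ) * (σ * τ)⁻¹ = τ := by
      have h0 : σ * τ * τ * (σ * τ)⁻¹ = σ ^ 2 * τ := by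
        rw [mul_assoc σ τ τ, S.tau_sq, mul_one, mul_inv_rev, S.tau_inv, S.tau_sigma_inv, pow_two]
        group
      rw [← conj_mul, h0, S.commute_J_sigma_tau.symm.eq, mul_inv_cancel_right, ← mul_assoc, S.J_sq,
        one_mul]
    have e3 : v' * (σ ^ 2 * τ) = (σ * τ * v' * (σ * τ)⁻¹) * (σ ^ 0 * τ) := by
      calc v' * (σ ^ 2 * τ) = σ * τ * z * (σ * τ)⁻¹ := by rw [e1, h']
        _ = σ * τ * v' * (σ * τ)⁻¹ * (σ * τ * (σ ^ 2 * τ) * (σ * τ)⁻¹) := by rw [h']; group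
        _ = _ := by rw [e2, pow_zero, one_mul]
    rw [← mul_assoc, ← mul_assoc, mul_left_inj] at e3
    obtain ⟨-, e4⟩ := S.d.toCore.mul_pow_inj hv' hv'' e3
    exact S.J_ne (by rw [e4, pow_zero])

/-- `C_E(στ)` is larger than `C_V(στ)`. -/
theorem exists_extra (ha : 1 < S.a) (hb : 1 < S.b) :
    ∃ e, S.InE e ∧ Commute (σ * τ) e ∧ ¬ Commute (σ ^ 2) e := by
  obtain ⟨w, hw, hw1, hτw⟩ := S.exists_fixed_ne ha
  obtain ⟨u, hu, hu1, hτu⟩ := S.exists_inverted_ne hb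
  obtain ⟨ρ, hρJ, hρt, hρV⟩ := S.exists_rho
  have hwi : σ * τ * w * (σ * τ)⁻¹ = w⁻¹ := by
    rw [show σ * τ * w * (σ * τ)⁻¹ = σ * (τ * w * τ⁻¹) * σ⁻¹ by group, hτw.eq, mul_inv_cancel_right,
      S.sigma_conj hw]
  -- an involution of `K` centralizing `στ` but not `J` suffices
  have found : ∀ x', x' * x' = 1 → S.InK x' → Commute (σ * τ) x' → ¬ Commute (σ ^ 2) x' →
      ∃ e, S.InE e ∧ Commute (σ * τ) e ∧ ¬ Commute (σ ^ 2) e := by
    intro x' hx2 hxK hxs hxJ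
    set m := x' * σ ^ 2 with hm
    have hmK : S.InK m := S.InK_mul hxK S.InK_J
    have hms : Commute (σ * τ) m := hxs.mul_right S.commute_J_sigma_tau.symm
    refine ⟨m, S.InE_of_InK hmK hms ?_, hms, fun h => hxJ ?_⟩
    · by_contra ho
      obtain ⟨k, hk1, hk2, hkx, hkJ⟩ := exists_half hx2 S.J_sq ho
      have hz := S.eq_J_of_InK hw hw1 hτw (S.InK_pow hmK k) hk2 hk1 hkJ (hms.pow_right k)
      rw [hz] at hkx
      exact hxJ hkx.symm
    · have := h.mul_right (Commute.refl (σ ^ 2))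
      rwa [hm, mul_assoc, S.J_sq, mul_one] at this
  set x := ρ * (u * τ) * ρ⁻¹ with hxdef
  have hut2 : u * τ * (u * τ) = 1 := by
    calc u * τ * (u * τ) = u * (τ * u * τ) := by group
      _ = 1 := by rw [show τ * u * τ = u⁻¹ by rw [← hτu, S.tau_inv], mul_inv_cancel]
  have hx2 : x * x = 1 := by rw [hxdef, conj_mul, hut2, mul_one, mul_inv_cancel]
  have hxK : S.InK x := fun v hv hτv =>
    ((hρV v hv hτv).mul_left ((S.InK_mul (S.InK_of_mem hu) S.InK_tau) v hv hτv)).mul_left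
      (hρV v hv hτv).inv_left
  have hxJ : ¬ Commute (σ ^ 2) x := by
    rw [← hρt, hxdef, conj_commute_iff]
    intro h
    have h' := h.mul_right (Commute.refl τ)
    rw [mul_assoc, S.tau_sq, mul_one] at h'
    rw [h'.eq, mul_inv_cancel_right] at hτu
    exact hu1 (S.eq_one_of_inv_self hu hτu.symm)
  set y := σ * τ with hy
  have hy2 : y * y = 1 := S.shift.d.tsq
  set m := x * y with hm
  have hmw : ∀ v ∈ S.V, Commute τ v → m * v * m⁻¹ = v⁻¹ := by
    intro v hv hτv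
    have hyv : y * v * y⁻¹ = v⁻¹ := by
      rw [hy, show σ * τ * v * (σ * τ)⁻¹ = σ * (τ * v * τ⁻¹) * σ⁻¹ by group, hτv.eq,
        mul_inv_cancel_right, S.sigma_conj hv]
    calc m * v * m⁻¹ = x * (y * v * y⁻¹) * x⁻¹ := by rw [hm]; group
      _ = v⁻¹ := by rw [hyv, (hxK v hv hτv).inv_right.eq, mul_inv_cancel_right]
  have hm2K : S.InK (m * m) := fun v hv hτv => by
    refine commute_of_conj_eq ?_
    calc m * m * v * (m * m)⁻¹ = m * (m * v * m⁻¹) * m⁻¹ := by group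
      _ = v := by rw [hmw v hv hτv, ← conj_inv, hmw v hv hτv, inv_inv]
  have ho : ¬ Odd (orderOf m) := by
    rintro ⟨t, ht⟩
    have e : (m * m) ^ (t + 1) = m := by
      rw [← pow_two, ← pow_mul, show 2 * (t + 1) = orderOf m + 1 by omega, pow_succ,
        pow_orderOf_eq_one, one_mul]
    have hc := (hm2K w hw hτw).pow_left (t + 1)
    rw [e] at hc
    have := hmw w hw hτw
    rw [hc.eq, mul_inv_cancel_right] at this
    exact hw1 (S.eq_one_of_inv_self hw this.symm)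
  obtain ⟨k, hz1, hz2, hzx, hzy⟩ := exists_half hx2 hy2 ho
  rw [← hm] at hz1 hz2 hzx hzy
  rcases Nat.even_or_odd k with ⟨l, hl⟩ | ⟨l, hl⟩
  · have hzK : S.InK (m ^ k) := by
      rw [hl, ← two_mul, pow_mul, pow_two]; exact S.InK_pow hm2K l
    refine found _ hz2 hzK hzy fun hJ => hxJ ?_
    rw [S.eq_J_of_InK hw hw1 hτw hzK hz2 hz1 hJ hzy] at hzx
    exact hzx.symm
  · set z := m ^ k with hz
    have hzyK : S.InK (z * y) := by
      have e : z * y = (m * m) ^ l * x := by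
        rw [hz, hl, pow_succ, pow_mul, pow_two, mul_assoc, hm, mul_assoc x y y, hy2, mul_one]
      rw [e]
      exact S.InK_mul (S.InK_pow hm2K l) hxK
    have hsy : Commute y (z * y) := hzy.mul_right (Commute.refl y)
    have hzy2 : z * y * (z * y) = 1 := by
      rw [hzy.mul_mul_mul_comm, hz2, hy2, one_mul]
    by_cases h1 : z * y = 1
    · have hzy' : z = y := by rw [eq_inv_of_mul_eq_one_left h1, inv_eq_of_mul_eq_one_right hy2]
      exact found x hx2 hxK (hzy' ▸ hzx).symm hxJ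
    by_cases hJ : Commute (σ ^ 2) (z * y)
    · have hzyJ := S.eq_J_of_InK hw hw1 hτw hzyK hzy2 h1 hJ hsy
      have hzJ : z = σ ^ 2 * y := by
        rw [← hzyJ, mul_assoc, hy2, mul_one]
      refine found (σ * x * σ⁻¹) (by rw [conj_mul, hx2, mul_one, mul_inv_cancel])
        (S.InK_sigma_conj hxK) ?_ fun h => hxJ ?_
      · have e : σ * (σ ^ 2 * y) * σ⁻¹ = y := by
          have e0 : σ * y * σ⁻¹ = σ ^ 2 * y := by
            rw [hy, show σ * (σ * τ) * σ⁻¹ = σ * (σ * τ * σ⁻¹) by group, S.sigma_conj_tau,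
              ← mul_assoc, ← mul_assoc, S.commute_J_sigma.eq]
          rw [← conj_mul, e0, S.commute_J_sigma.symm.eq, mul_inv_cancel_right, ← mul_assoc,
            S.J_sq, one_mul]
        have h := (conj_commute_iff σ x z).2 hzx
        rw [hzJ, e] at h
        exact h.symm
      · rw [← conj_commute_iff σ]
        rwa [S.commute_J_sigma.symm.eq, mul_inv_cancel_right]
    · exact found _ hzy2 hzyK hsy hJ

variable (E : Subgroup G) (hodd : Odd (Nat.card E)) (hE : ∀ x, x ∈ E ↔ S.InE x)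
include hE

theorem E_conj {c x : G} (hc : Commute (σ ^ 2) c) (hx : x ∈ E) : c * x * c⁻¹ ∈ E :=
  (hE _).2 (S.InE_conj hc ((hE _).1 hx))

theorem mem_V_of_E {x : G} (hx : x ∈ E) (hJ : Commute (σ ^ 2) x) : x ∈ S.V :=
  S.mem_V.2 ⟨hJ, ((hE _).1 hx).2⟩

theorem V_le_E : S.V ≤ E := fun _ hv =>
  (hE _).2 ⟨fun _ hw => S.V_comm hw hv, S.odd_of_mem hv⟩

/-- `E = V · {x | J x J = x⁻¹}`. -/
theorem exists_inverted {e : G} (he : e ∈ E) :
    ∃ v ∈ S.V, ∃ i ∈ E, σ ^ 2 * i * (σ ^ 2)⁻¹ = i⁻¹ ∧ e = v * i := by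
  classical
  let I : Type u := {i : E // σ ^ 2 * (i : G) * (σ ^ 2)⁻¹ = ((i : G))⁻¹}
  have hJJ : ∀ z : G, σ ^ 2 * (σ ^ 2 * z * (σ ^ 2)⁻¹) * (σ ^ 2)⁻¹ = z := fun z => by
    rw [S.J_inv, show σ ^ 2 * (σ ^ 2 * z * σ ^ 2) * σ ^ 2 = (σ ^ 2 * σ ^ 2) * z * (σ ^ 2 * σ ^ 2) by
      group, S.J_sq, one_mul, mul_one]
  let g : E → I := fun e => ⟨⟨(e : G)⁻¹ * (σ ^ 2 * e * (σ ^ 2)⁻¹),
    mul_mem (inv_mem e.2) (S.E_conj E hE (Commute.refl _) e.2)⟩, by
      show σ ^ 2 * ((e : G)⁻¹ * (σ ^ 2 * e * (σ ^ 2)⁻¹)) * (σ ^ 2)⁻¹ = _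
      rw [← conj_mul, hJJ, mul_inv_rev, inv_inv, ← conj_inv]⟩
  -- a section of `g`
  let rep : I → E := Function.invFun g
  have hfix : ∀ e : E, ((e : G) * (rep (g e) : G)⁻¹) ∈ S.V := fun e => by
    refine S.mem_V_of_E E hE (mul_mem e.2 (inv_mem (rep (g e)).2)) (commute_of_conj_eq ?_)
    have h : g (rep (g e)) = g e := Function.invFun_eq ⟨e, rfl⟩
    have h' : (rep (g e) : G)⁻¹ * (σ ^ 2 * (rep (g e) : G) * (σ ^ 2)⁻¹) =
        (e : G)⁻¹ * (σ ^ 2 * e * (σ ^ 2)⁻¹) := congrArg (fun i : I => ((i.1 : E) : G)) h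
    rw [← conj_mul, ← conj_inv]
    calc σ ^ 2 * (e : G) * (σ ^ 2)⁻¹ * (σ ^ 2 * (rep (g e) : G) * (σ ^ 2)⁻¹)⁻¹
        = (e : G) * ((e : G)⁻¹ * (σ ^ 2 * e * (σ ^ 2)⁻¹)) *
            (σ ^ 2 * (rep (g e) : G) * (σ ^ 2)⁻¹)⁻¹ := by group
      _ = _ := by rw [← h']; group
  let f : S.V × I → E := fun p => ⟨(p.1 : G) * (p.2.1 : G), mul_mem (S.V_le_E E hE p.1.2) p.2.1.2⟩
  have hinj : Function.Injective f := by
    rintro ⟨⟨v, hv⟩, ⟨⟨i, hiE⟩, hi⟩⟩ ⟨⟨v', hv'⟩, ⟨⟨i', hiE'⟩, hi'⟩⟩ h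
    have h1 : v * i = v' * i' := congrArg Subtype.val h
    have h2 : v * i⁻¹ = v' * i'⁻¹ := by
      have h3 : σ ^ 2 * (v * i) * (σ ^ 2)⁻¹ = σ ^ 2 * (v' * i') * (σ ^ 2)⁻¹ := by rw [h1]
      rwa [← conj_mul, ← conj_mul, hi, hi', (S.commute_J hv).eq, (S.commute_J hv').eq,
        mul_inv_cancel_right, mul_inv_cancel_right] at h3
    have hc : Commute v i := ((hE _).1 hiE).1 v hv
    have hc' : Commute v' i' := ((hE _).1 hiE').1 v' hv'
    have h3 : v * v = v' * v' := by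
      have : v * i * (v * i⁻¹) = v' * i' * (v' * i'⁻¹) := by rw [h1, h2]
      rwa [hc.symm.mul_mul_mul_comm, hc'.symm.mul_mul_mul_comm, mul_inv_cancel, mul_inv_cancel,
        mul_one, mul_one] at this
    have hvv : v = v' := by
      refine mul_inv_eq_one.1 (S.eq_one_of_sq (mul_mem hv (inv_mem hv')) ?_)
      rw [(S.V_comm (inv_mem hv') hv).mul_mul_mul_comm, h3]; group
    subst hvv
    exact Prod.ext rfl (Subtype.ext (Subtype.ext (mul_left_cancel h1)))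
  have hle : Nat.card E ≤ Nat.card (S.V × I) := Nat.card_le_card_of_injective
    (fun e => (⟨_, hfix e⟩, g e)) fun e e' h => by
      obtain ⟨h1, h2⟩ := Prod.ext_iff.1 h
      have h1' : (e : G) * (rep (g e) : G)⁻¹ = e' * (rep (g e') : G)⁻¹ := congrArg Subtype.val h1
      rw [show rep (g e') = rep (g e) by rw [show g e' = g e from h2.symm]] at h1'
      exact Subtype.ext (mul_right_cancel h1')
  obtain ⟨⟨v, i⟩, h⟩ := (hinj.bijective_of_nat_card_le hle).2 ⟨e, he⟩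
  exact ⟨v, v.2, i.1, i.1.2, i.2, (congrArg Subtype.val h).symm⟩

open scoped commutatorElement in
theorem commutator_mem_V {x y : G} (hx : x ∈ E) (hy : y ∈ E) : ⁅x, y⁆ ∈ S.V := by
  obtain ⟨v, hv, i, hi, hiJ, rfl⟩ := S.exists_inverted E hE hx
  obtain ⟨v', hv', i', hi', hiJ', rfl⟩ := S.exists_inverted E hE hy
  obtain ⟨w, hw, k, hk, hkJ, hik⟩ := S.exists_inverted E hE (mul_mem hi hi')
  have hwk : Commute w k := ((hE _).1 hk).1 w hw
  have h2 : i' * i = w⁻¹ * k := by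
    have h3 : σ ^ 2 * (i * i') * (σ ^ 2)⁻¹ = σ ^ 2 * (w * k) * (σ ^ 2)⁻¹ := by rw [hik]
    rw [← conj_mul, ← conj_mul, hiJ, hiJ', hkJ, (S.commute_J hw).eq, mul_inv_cancel_right] at h3
    calc i' * i = (i⁻¹ * i'⁻¹)⁻¹ := by group
      _ = k * w⁻¹ := by rw [h3]; group
      _ = _ := hwk.inv_left.eq.symm
  have e : ⁅v * i, v' * i'⁆ = ⁅i, i'⁆ := by
    have c1 : Commute v i' := ((hE _).1 hi').1 v hv
    have c2 : Commute v' i := ((hE _).1 hi).1 v' hv'
    have c3 := S.V_comm hv hv'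
    have c4 : Commute v i := ((hE _).1 hi).1 v hv
    have c5 : Commute v' i' := ((hE _).1 hi').1 v' hv'
    rw [commutatorElement_def, commutatorElement_def]
    have h1 : v * i * (v' * i') = v * v' * (i * i') := c2.symm.mul_mul_mul_comm _ _
    have h2 : v' * i' * (v * i) = v * v' * (i' * i) := by
      rw [c1.symm.mul_mul_mul_comm, c3.symm.eq]
    calc v * i * (v' * i') * (v * i)⁻¹ * (v' * i')⁻¹
        = v * i * (v' * i') * (v' * i' * (v * i))⁻¹ := by group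
      _ = v * v' * (i * i' * (i' * i)⁻¹) * (v * v')⁻¹ := by rw [h1, h2]; group
      _ = i * i' * (i' * i)⁻¹ := by
          refine mul_inv_eq_iff_eq_mul.2 ?_
          exact (((hE _).1 (mul_mem (mul_mem hi hi') (inv_mem (mul_mem hi' hi)))).1 _
            (mul_mem hv hv')).eq
      _ = _ := by group
  rw [e, show ⁅i, i'⁆ = i * i' * (i' * i)⁻¹ by rw [commutatorElement_def]; group, hik, h2,
    show w * k * (w⁻¹ * k)⁻¹ = w * w by group]
  exact mul_mem hw hw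

omit hE in
/-- The four group `⟨J, t⟩` generates. -/
theorem le_of_four {t : G} {K T : Subgroup G} (hJt : Commute (σ ^ 2) t) (ht : t * t = 1)
    (ht1 : t ≠ 1) (htJ : t ≠ σ ^ 2)
    (hK : Odd (Nat.card K)) (hnJ : ∀ x ∈ K, σ ^ 2 * x * (σ ^ 2)⁻¹ ∈ K)
    (hnt : ∀ x ∈ K, t * x * t⁻¹ ∈ K)
    (h1 : ∀ x ∈ K, Commute (σ ^ 2) x → x ∈ T) (h2 : ∀ x ∈ K, Commute t x → x ∈ T)
    (h3 : ∀ x ∈ K, Commute (σ ^ 2 * t) x → x ∈ T) : K ≤ T := by
  classical
  have hmemN : ∀ s : G, (∀ x ∈ K, s * x * s⁻¹ ∈ K) → s * s = 1 → s ∈ Subgroup.normalizer (K : Set G) :=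
    fun s hs h2 => by
      refine Subgroup.mem_normalizer_iff.2 fun x => ⟨hs x, fun h => ?_⟩
      have h' := hs _ h
      rwa [inv_eq_of_mul_eq_one_right h2, show s * (s * x * s) * s = (s * s) * x * (s * s) by group,
        h2, one_mul, mul_one] at h'
  let A : Subgroup G :=
    { carrier := {a | a = 1 ∨ a = σ ^ 2 ∨ a = t ∨ a = σ ^ 2 * t}
      one_mem' := Or.inl rfl
      mul_mem' := by
        have e1 : ∀ z, σ ^ 2 * (σ ^ 2 * z) = z := fun z => by rw [← mul_assoc, S.J_sq, one_mul]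
        have e2 : ∀ z, t * (t * z) = z := fun z => by rw [← mul_assoc, ht, one_mul]
        have e3 : t * σ ^ 2 = σ ^ 2 * t := hJt.symm.eq
        have e4 : ∀ z, t * (σ ^ 2 * z) = σ ^ 2 * (t * z) := fun z => by
          rw [← mul_assoc, e3, mul_assoc]
        rintro a b (rfl | rfl | rfl | rfl) (rfl | rfl | rfl | rfl) <;>
          simp [mul_assoc, e1, e2, e3, e4, S.J_sq, ht]
      inv_mem' := by
        rintro a (rfl | rfl | rfl | rfl)
        · exact Or.inl inv_one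
        · exact Or.inr (Or.inl S.J_inv)
        · exact Or.inr (Or.inr (Or.inl (inv_eq_of_mul_eq_one_right ht)))
        · refine Or.inr (Or.inr (Or.inr ?_))
          rw [mul_inv_rev, S.J_inv, inv_eq_of_mul_eq_one_right ht, hJt.eq] }
  have hmem : ∀ a, a ∈ A ↔ a = 1 ∨ a = σ ^ 2 ∨ a = t ∨ a = σ ^ 2 * t := fun a => Iff.rfl
  have hsq : ∀ a ∈ A, a * a = 1 := by
    intro a ha
    rcases (hmem a).1 ha with rfl | rfl | rfl | rfl
    · exact one_mul 1
    · exact S.J_sq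
    · exact ht
    · rw [hJt.symm.mul_mul_mul_comm, S.J_sq, ht, one_mul]
  haveI : IsMulCommutative A := ⟨⟨fun a b => Subtype.ext (by
    have hi : ∀ c ∈ A, c⁻¹ = c := fun c hc => inv_eq_of_mul_eq_one_right (hsq c hc)
    calc (a : G) * b = ((a : G) * b)⁻¹ := (hi _ (mul_mem a.2 b.2)).symm
      _ = b * a := by rw [mul_inv_rev, hi _ a.2, hi _ b.2])⟩⟩
  have hp : IsPGroup 2 A := fun a => ⟨1, Subtype.ext (by rw [pow_one, pow_two]; exact hsq a a.2)⟩
  have hA : ¬ IsCyclic A := fun hc => by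
    obtain ⟨g, hg⟩ := hc.exists_generator
    have hg2 : ∀ a : A, a = 1 ∨ a = g := fun a => by
      obtain ⟨n, rfl⟩ := Subgroup.mem_zpowers_iff.1 (hg a)
      have e : g ^ (2 : ℤ) = 1 := Subtype.ext (by
        rw [zpow_two]; exact hsq g g.2)
      rcases Int.even_or_odd n with ⟨m, rfl⟩ | ⟨m, rfl⟩
      · left; rw [← two_mul, zpow_mul, e, one_zpow]
      · right; rw [zpow_add, zpow_mul, e, one_zpow, one_mul, zpow_one]
    rcases hg2 ⟨σ ^ 2, Or.inr (Or.inl rfl)⟩ with h | h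
    · exact S.J_ne (congrArg Subtype.val h)
    rcases hg2 ⟨t, Or.inr (Or.inr (Or.inl rfl))⟩ with h' | h'
    · exact ht1 (congrArg Subtype.val h')
    · exact htJ (congrArg Subtype.val (h'.trans h.symm))
  have hAK : A ≤ Subgroup.normalizer (K : Set G) := by
    intro a ha
    rcases (hmem a).1 ha with rfl | rfl | rfl | rfl
    · exact one_mem _
    · exact hmemN _ hnJ S.J_sq
    · exact hmemN _ hnt ht
    · exact mul_mem (hmemN _ hnJ S.J_sq) (hmemN _ hnt ht)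
  have hcop : (Nat.card A).Coprime (Nat.card K) := by
    obtain ⟨k, hk⟩ := IsPGroup.iff_card.1 hp
    rw [hk]
    exact (Nat.coprime_two_left.2 hK).pow_left k
  rw [← Coprime.iSup_centralizer_eq hA hAK hcop]
  refine iSup₂_le fun a ha x hx => ?_
  obtain ⟨hxK, hxa⟩ := hx
  rcases (hmem a).1 ha.1 with e | e | e | e <;> subst e
  · exact absurd rfl ha.2
  · exact h1 x hxK (mem_cent_iff.1 hxa)
  · exact h2 x hxK (mem_cent_iff.1 hxa)
  · exact h3 x hxK (mem_cent_iff.1 hxa)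

end Setup

end Cfsg.Agent.SmallCent
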