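import Cfsg.Agent.Lib.SmallCent.Basic
import Cfsg.Agent.Lib.DihedralBlock.Principal
import Cfsg.Agent.Lib.DihedralBlock.Order
import Cfsg.Agent.Lib.CharInt.Kazarin

/-!
# The character equations for a self-centralizing element of order four
-/

set_option autoImplicit false
set_option linter.unusedSectionVars false
set_option linter.style.haveILetI false

namespace Cfsg.Agent.SmallCent

open Cfsg DihedralBlock
open scoped ComplexConjugate

universe u

variable {G : Type u} [Group G] [Fintype G] {σ τ : G}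

namespace Setup

variable (S : Setup σ τ)
include S

theorem sigma_pow_ne {i : ℕ} (h0 : 0 < i) (h4 : i < 4) : σ ^ i ≠ 1 :=
  fun h => by
    have := Nat.le_of_dvd h0 (orderOf_dvd_of_pow_eq_one h)
    rw [S.d.hord] at this
    omega

theorem orderOf_sigma : orderOf σ = 4 := S.d.hord

theorem card_cent_sigma : Nat.card (Subgroup.centralizer ({σ} : Set G)) = 4 := by
  rw [← S.orderOf_sigma, ← Nat.card_zpowers]
  rw [show Subgroup.centralizer ({σ} : Set G) = Subgroup.zpowers σ from le_antisymm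
    (fun g hg => S.cent g (Subgroup.mem_centralizer_singleton_iff.1 hg).symm)
    (Subgroup.zpowers_le.2 (Subgroup.mem_centralizer_singleton_iff.2 rfl))]

theorem outer_isConj (i : ℕ) : IsConj (σ ^ 2) (σ ^ i * τ) :=
  S.d.conjAll _ (orderOf_eq_prime (by rw [pow_two]; exact S.d.toCore.mul_tau_sq)
    fun h => S.d.toCore.mul_tau_notin_K (S.d.toCore.mul_pow_mem_K S.d.toCore.V.one_mem i)
      (by rw [one_mul, h]; exact Subgroup.one_mem _))

/-- Restriction to the Sylow subgroup. -/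
theorem dvd_restrict (χ : IrrCharacter G) {v w : ℤ} (hv : χ.1 (σ ^ 2) = v) (hw : χ.1 σ = w) :
    (8 : ℤ) ∣ charDegree χ.1 + 5 * v + 2 * w := by
  classical
  set P : Subgroup G := (S.P : Subgroup G) with hP
  haveI := Fintype.ofFinite P
  have hmem : ∀ (i : ℕ) (c : Bool), σ ^ i * (if c then τ else 1) ∈ P := fun i c =>
    mul_mem (pow_mem S.hσ i) (by cases c <;> simp [hP, S.hτ, Subgroup.one_mem])
  let f : Fin 4 × Bool → P := fun x => ⟨_, hmem x.1 x.2⟩
  have hf : Function.Bijective f := by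
    constructor
    · rintro ⟨i, c⟩ ⟨j, c'⟩ h
      have h' : σ ^ (i : ℕ) * (if c then τ else 1) = σ ^ (j : ℕ) * (if c' then τ else 1) :=
        congrArg Subtype.val h
      have key : ∀ i' j' : ℕ, σ ^ i' ≠ σ ^ j' * τ := fun i' j' e =>
        S.d.toCore.mul_pow_ne S.d.toCore.V.one_mem S.d.toCore.V.one_mem i' j'
          (by rw [one_mul, one_mul, e])
      have hij : σ ^ (i : ℕ) = σ ^ (j : ℕ) → i = j := fun e => by
        refine Fin.ext (pow_injOn_Iio_orderOf ?_ ?_ e) <;>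
          simp [S.orderOf_sigma, i.2, j.2]
      cases c <;> cases c' <;> simp only [Bool.false_eq_true, if_false, if_true, mul_one,
        mul_left_inj] at h'
      · rw [hij h']
      · exact absurd h' (key _ _)
      · exact absurd h'.symm (key _ _)
      · rw [hij h']
    · rintro ⟨x, hx⟩
      obtain ⟨i, hi | hi⟩ := S.hform x hx
      · exact ⟨(⟨i % 4, Nat.mod_lt _ (by norm_num)⟩, false),
          Subtype.ext (by simp [f, hi, ← S.pow_mod_four i])⟩
      · exact ⟨(⟨i % 4, Nat.mod_lt _ (by norm_num)⟩, true),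
          Subtype.ext (by simp [f, hi, ← S.pow_mod_four i])⟩
  have hcard : Nat.card P = 8 := by
    rw [← Nat.card_congr (Equiv.ofBijective f hf), Nat.card_prod, Nat.card_eq_fintype_card,
      Nat.card_eq_fintype_card, Fintype.card_fin, Fintype.card_bool]
  obtain ⟨k, hk⟩ := Char.IsCharacter.exists_nat_classInner
    (Char.IsCharacter.comp (Char.irr_isCharacter χ) P.subtype)
    (Char.irr_isCharacter (Char.trivialChar P))
  rw [classInner, hcard, ← Fintype.sum_bijective f hf (fun x => χ.1 (f x : G)) _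
    (fun x => by simp), Fintype.sum_prod_type] at hk
  have hcl := Char.IsCharacter.isClassFunction (Char.irr_isCharacter χ)
  have houter : ∀ i : ℕ, χ.1 (σ ^ i * τ) = v := fun i => by
    rw [← hv]
    exact (CharInt.char_eq_of_isConj (Char.irr_isCharacter χ) (S.outer_isConj i)).symm
  have h3 : χ.1 (σ ^ 3) = w := by
    rw [← hw]
    refine CharInt.char_eq_of_isConj (Char.irr_isCharacter χ) (IsConj.symm (isConj_iff.2 ⟨τ, ?_⟩))
    rw [S.d.inv]
    exact inv_eq_of_mul_eq_one_right (by rw [← pow_succ']; exact S.sigma_four)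
  simp only [Fin.sum_univ_four, Fintype.sum_bool, f, if_true, Bool.false_eq_true, if_false,
    mul_one, Fin.val_zero, Fin.val_one, Fin.val_two, pow_one, pow_zero, one_mul,
    show ((3 : Fin 4) : ℕ) = 3 from rfl] at hk
  have h0 : χ.1 τ = v := by simpa using houter 0
  have h1 : χ.1 (σ * τ) = v := by simpa using houter 1
  rw [h0, h1, houter 2, houter 3, hv, hw, h3, ← Char.charDegree_cast χ] at hk
  refine ⟨k, ?_⟩
  have : ((charDegree χ.1 : ℤ) : ℂ) + 5 * v + 2 * w = 8 * (k : ℂ) := by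
    rw [← hk]; push_cast; ring
  exact_mod_cast this

open Classical in
/-- Pairs of involutions with product `σ`. -/
theorem card_pairs :
    Nat.card {p : G × G // p.1 * σ ^ 2 * p.1⁻¹ * (p.2 * σ ^ 2 * p.2⁻¹) = σ} =
      4 * Nat.card (Subgroup.centralizer ({σ ^ 2} : Set G)) ^ 2 := by
  set c := Nat.card (Subgroup.centralizer ({σ ^ 2} : Set G))
  rw [Nat.card_eq_fintype_card, Fintype.card_subtype]
  set T := (Finset.range 4).image fun i => σ ^ i * τ with hT
  have hTc : T.card = 4 := by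
    rw [hT, Finset.card_image_of_injOn, Finset.card_range]
    intro i hi j hj h
    simp only [Finset.coe_range, Set.mem_Iio] at hi hj
    refine pow_injOn_Iio_orderOf ?_ ?_ (mul_right_cancel h) <;> simp [S.orderOf_sigma, hi, hj]
  have hmaps : ∀ p ∈ (Finset.univ : Finset (G × G)).filter
      (fun p => p.1 * σ ^ 2 * p.1⁻¹ * (p.2 * σ ^ 2 * p.2⁻¹) = σ),
      p.1 * σ ^ 2 * p.1⁻¹ ∈ T := by
    intro p hp
    have h := (Finset.mem_filter.1 hp).2
    set s := p.1 * σ ^ 2 * p.1⁻¹ with hs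
    set t := p.2 * σ ^ 2 * p.2⁻¹ with ht
    have hs2 : s * s = 1 := by rw [hs, conj_mul, S.J_sq, mul_one, mul_inv_cancel]
    have ht2 : t * t = 1 := by rw [ht, conj_mul, S.J_sq, mul_one, mul_inv_cancel]
    clear_value s t
    have hinv : s * σ * s⁻¹ = σ⁻¹ := by
      rw [← h, inv_eq_of_mul_eq_one_right hs2, mul_inv_rev s t, inv_eq_of_mul_eq_one_right hs2,
        inv_eq_of_mul_eq_one_right ht2, ← mul_assoc, hs2, one_mul]
    have hc : Commute σ (τ * s) := by
      refine (mul_inv_eq_iff_eq_mul.1 ?_).symm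
      calc τ * s * σ * (τ * s)⁻¹ = τ * (s * σ * s⁻¹) * τ⁻¹ := by group
        _ = σ := by rw [hinv, ← conj_inv, S.d.inv, inv_inv]
    obtain ⟨i, hi⟩ := (mem_powers_iff_mem_zpowers).2 (S.cent _ hc)
    have hs' : s = τ * σ ^ i := by
      rw [show σ ^ i = τ * s from hi, ← mul_assoc, S.tau_sq, one_mul]
    rw [hs', S.d.toCore.t_mul_pow]
    obtain ⟨j, hj⟩ := S.d.toCore.exists_pow_inv i
    rw [← hj, S.pow_mod_four j]
    exact Finset.mem_image.2 ⟨j % 4, Finset.mem_range.2 (Nat.mod_lt _ (by norm_num)), rfl⟩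
  rw [Finset.card_eq_sum_card_fiberwise hmaps, Finset.sum_const_nat (m := c ^ 2), hTc]
  intro s hs
  obtain ⟨i, -, rfl⟩ := Finset.mem_image.1 hs
  have hinv : (σ ^ i * τ)⁻¹ * σ = σ ^ (i + 3) * τ := by
    rw [inv_eq_of_mul_eq_one_right S.d.toCore.mul_tau_sq, mul_assoc, S.tau_sigma, ← mul_assoc,
      pow_add]
    congr 2
    exact inv_eq_of_mul_eq_one_right (by rw [← pow_succ']; exact S.sigma_four)
  have e : ((Finset.univ : Finset (G × G)).filter
      (fun p => p.1 * σ ^ 2 * p.1⁻¹ * (p.2 * σ ^ 2 * p.2⁻¹) = σ)).filter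
      (fun p => p.1 * σ ^ 2 * p.1⁻¹ = σ ^ i * τ) =
      (Finset.univ.filter fun a : G => a * σ ^ 2 * a⁻¹ = σ ^ i * τ) ×ˢ
      (Finset.univ.filter fun a : G => a * σ ^ 2 * a⁻¹ = σ ^ (i + 3) * τ) := by
    ext p
    simp only [Finset.mem_filter, Finset.mem_univ, true_and, Finset.mem_product]
    constructor
    · rintro ⟨h, h'⟩
      refine ⟨h', ?_⟩
      rw [h'] at h
      rw [← hinv]
      exact eq_inv_mul_iff_mul_eq.2 h
    · rintro ⟨h, h'⟩
      refine ⟨?_, h⟩
      rw [h, h', ← hinv, mul_inv_cancel_left]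
  rw [e, Finset.card_product, S.d.toCore.card_conj_fiber _ (S.outer_isConj i),
    S.d.toCore.card_conj_fiber _ (S.outer_isConj (i + 3)), ← pow_two]

/-- The principal block numbers. -/
theorem exists_eqs : ∃ p q r : ℤ, p % 8 = 1 ∧ p ≠ 1 ∧ q % 8 = 3 ∧ r % 8 = 3 ∧
    1 + p + q + r = 0 ∧
    (Nat.card G : ℤ) * ((1 + p) * (1 + q) * (1 + r)) =
      256 * (S.a : ℤ) ^ 2 * (S.b : ℤ) ^ 2 * (p * q * r) ∧
    (Nat.card G : ℤ) * (p - 1) ^ 2 =
      64 * (S.a : ℤ) * S.b * ((S.a : ℤ) + S.b) ^ 2 * (p * (p + 1)) := by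
  classical
  obtain ⟨M, hM⟩ := CharInt.exists_isPModular_of_prime Nat.prime_two
  obtain ⟨-, χ₁, χ₂, χ₃, χ', δ₁, δ₂, δ₃, hδ₁, hδ₂, hδ₃, -, h1t, h2t, h3t, h12, h13, h23, -, hset,
    hval, hodd⟩ := S.d.toCore.principal_block S.d.toCore.isPrimitiveRoot_zeta S.P S.hσ S.hτ
      S.hform hM
  have hχ₁B : χ₁ ∈ principalBlock M G := by rw [hset]; exact Or.inr (Or.inl rfl)
  obtain ⟨hne, hord⟩ := S.d.order_formula hM hχ₁B h1t hδ₁ fun l h0 h1 => (hval l h0 h1).1
  obtain ⟨e11, e12, e13, -⟩ := hval 1 one_pos (by norm_num)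
  obtain ⟨e21, e22, e23, -⟩ := hval 2 two_pos (by norm_num)
  norm_num at e12 e13 e22 e23
  rw [pow_one] at e11
  -- the sum of degrees
  have hsum := (hodd 1 (by simp) ⟨0, by norm_num⟩).1
  rw [← Char.charDegree_cast χ₁, ← Char.charDegree_cast χ₂, ← Char.charDegree_cast χ₃] at hsum
  set x₁ := charDegree χ₁.1
  set x₂ := charDegree χ₂.1
  set x₃ := charDegree χ₃.1
  set p : ℤ := δ₁ * x₁ with hp
  set q : ℤ := δ₂ * x₂ with hq
  set r : ℤ := δ₃ * x₃ with hr
  have hd1 : (δ₁ : ℂ) * δ₁ = 1 := by rcases hδ₁ with rfl | rfl <;> norm_num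
  have hd2 : (δ₂ : ℂ) * δ₂ = 1 := by rcases hδ₂ with rfl | rfl <;> norm_num
  have hd3 : (δ₃ : ℂ) * δ₃ = 1 := by rcases hδ₃ with rfl | rfl <;> norm_num
  have hs0 : 1 + p + q + r = 0 := by
    have h : ((1 + p + q + r : ℤ) : ℂ) = 0 := by
      rw [hp, hq, hr]; push_cast; linear_combination hsum
    exact_mod_cast h
  -- congruences
  have hc1 := S.dvd_restrict χ₁ e21 e11
  have hc2 := S.dvd_restrict χ₂ (v := -δ₂) (by rw [e22]; push_cast; rfl) e12
  have hc3 := S.dvd_restrict χ₃ (v := -δ₃) (by rw [e23]; push_cast; rfl) e13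
  have hmod : p % 8 = 1 ∧ q % 8 = 3 ∧ r % 8 = 3 := by
    rcases hδ₁ with rfl | rfl <;> rcases hδ₂ with rfl | rfl <;> rcases hδ₃ with rfl | rfl <;>
      simp only [hp, hq, hr] <;> omega
  -- the characters not vanishing at `σ`
  set t := Char.trivialChar G
  have htne : ∀ {χ : IrrCharacter G}, (χ : G → ℂ) ≠ (fun _ => 1) → t ≠ χ := fun h e =>
    h (by rw [← e]; rfl)
  set U : Finset (IrrCharacter G) := {t, χ₁, χ₂, χ₃} with hU
  have hUsum : ∀ f : IrrCharacter G → ℂ, ∑ χ ∈ U, f χ = f t + f χ₁ + f χ₂ + f χ₃ := fun f => by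
    rw [hU, Finset.sum_insert (by simp [htne h1t, htne h2t, htne h3t]),
      Finset.sum_insert (by simp [h12, h13]), Finset.sum_pair h23]
    ring
  have hrest : ∀ χ ∉ U, χ.1 σ = 0 := by
    intro χ hχ
    have h4 := Char.sum_irr_mul_conj (G := G) σ σ
    rw [if_pos (IsConj.refl σ), S.card_cent_sigma, ← Finset.sum_add_sum_compl U, hUsum, e11, e12,
      e13, Char.trivialChar_apply, map_one, mul_one, map_intCast, map_intCast,
      map_intCast, hd1, hd2, hd3] at h4
    have h0 : ∑ χ ∈ Uᶜ, χ.1 σ * conj (χ.1 σ) = 0 := by push_cast at h4; linear_combination h4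
    simp only [Complex.mul_conj] at h0
    rw [← Complex.ofReal_sum, Complex.ofReal_eq_zero,
      Finset.sum_eq_zero_iff_of_nonneg fun x _ => Complex.normSq_nonneg _] at h0
    exact Complex.normSq_eq_zero.1 (h0 χ (Finset.mem_compl.2 hχ))
  have hinvval : ∀ χ : IrrCharacter G, χ.1 σ⁻¹ = χ.1 σ := fun χ => by
    rw [← S.d.inv]
    exact CharInt.char_conj_apply (Char.irr_isCharacter χ) σ τ
  have hA := Char.card_conj_mul_conj_eq (G := G) (σ ^ 2) (σ ^ 2) σ
  rw [S.card_pairs, ← Finset.sum_subset (Finset.subset_univ U) (fun χ _ hχ => by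
    rw [hinvval, hrest χ hχ, mul_zero, zero_div]), hUsum] at hA
  have ht1 : ∀ g, t.1 g = 1 := fun _ => rfl
  have hrec : ∀ d x : ℂ, d * d = 1 → d * d * d / x = 1 / (d * x) := fun d x hd => by
    rw [hd, one_mul, one_div, mul_inv, inv_eq_of_mul_eq_one_right hd, div_eq_mul_inv]
  simp only [hinvval, e11, e12, e13, e21, e22, e23, ht1, neg_mul_neg] at hA
  rw [← Char.charDegree_cast χ₁, ← Char.charDegree_cast χ₂, ← Char.charDegree_cast χ₃,
    S.d.toCore.card_centralizer_J, S.d.toCore.card_K, show Nat.card S.d.V = S.a * S.b from S.card_V]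
    at hA
  have hx : (x₁ : ℂ) ≠ 0 ∧ (x₂ : ℂ) ≠ 0 ∧ (x₃ : ℂ) ≠ 0 := by
    refine ⟨?_, ?_, ?_⟩ <;> rw [Char.charDegree_cast] <;>
      exact Char.IsIrrCharacter.apply_one_ne_zero (Subtype.prop _)
  obtain ⟨hx1, hx2, hx3⟩ := hx
  refine ⟨p, q, r, hmod.1, ?_, hmod.2.1, hmod.2.2, hs0, ?_, ?_⟩
  · intro h
    refine hne ?_
    have : ((δ₁ * x₁ : ℤ) : ℂ) = 1 := by rw [← hp, h]; norm_num
    push_cast at this
    linear_combination (δ₁ : ℂ) * this - (x₁ : ℂ) * hd1
  · suffices h : (((Nat.card G : ℤ) * ((1 + p) * (1 + q) * (1 + r)) : ℤ) : ℂ) =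
        ((256 * (S.a : ℤ) ^ 2 * (S.b : ℤ) ^ 2 * (p * q * r) : ℤ) : ℂ) by exact_mod_cast h
    rw [hp, hq, hr]
    rw [hrec _ _ hd1, hrec _ _ hd2, hrec _ _ hd3, one_mul, one_mul, div_one] at hA
    have h1' : (δ₁ : ℂ) * x₁ ≠ 0 := mul_ne_zero (left_ne_zero_of_mul_eq_one hd1) hx1
    have h2' : (δ₂ : ℂ) * x₂ ≠ 0 := mul_ne_zero (left_ne_zero_of_mul_eq_one hd2) hx2
    have h3' : (δ₃ : ℂ) * x₃ ≠ 0 := mul_ne_zero (left_ne_zero_of_mul_eq_one hd3) hx3
    have hsum' : 1 + (δ₁ : ℂ) * x₁ + δ₂ * x₂ + δ₃ * x₃ = 0 := by linear_combination hsum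
    push_cast at hA ⊢
    generalize (δ₁ : ℂ) * x₁ = P at *
    generalize (δ₂ : ℂ) * x₂ = Q at *
    generalize (δ₃ : ℂ) * x₃ = R at *
    field_simp at hA
    linear_combination (Nat.card G : ℂ) * hsum' - hA
  · have h1 := S.d.toCore.card_centralizer_pair
    have h2 := S.shift.d.toCore.card_centralizer_pair
    change _ = 4 * S.a at h1
    change _ = 4 * S.shift.a at h2
    rw [S.shift_a] at h2
    rw [S.d.toCore.card_centralizer_J, S.d.toCore.card_K,
      show Nat.card S.d.V = S.a * S.b from S.card_V, h1, h2] at hord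
    have ha : (S.a : ℂ) ≠ 0 := Nat.cast_ne_zero.2 S.a_pos.ne'
    have hb : (S.b : ℂ) ≠ 0 := Nat.cast_ne_zero.2 S.b_pos.ne'
    suffices h : (((Nat.card G : ℤ) * (p - 1) ^ 2 : ℤ) : ℂ) =
        ((64 * (S.a : ℤ) * S.b * ((S.a : ℤ) + S.b) ^ 2 * (p * (p + 1)) : ℤ) : ℂ) by
      exact_mod_cast h
    rw [hp]
    push_cast at hord ⊢
    field_simp at hord
    rcases hδ₁ with rfl | rfl <;> push_cast at hord ⊢ <;> linear_combination hord

end Setup

end Cfsg.Agent.SmallCent
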