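import Cfsg.Agent.Lib.SmallCent.BothNorm
import Cfsg.Agent.Lib.SmallCent.CharEq
import Cfsg.Agent.Lib.SmallCent.Arith

/-!
# In a simple group one of the two parts of `V` is trivial
-/

set_option autoImplicit false
set_option linter.unusedSectionVars false
set_option linter.style.haveILetI false

namespace Cfsg.Agent.SmallCent

open DihedralBlock

universe u

variable {G : Type u} [Group G] [Fintype G]

/-- A simple group of order divisible by 8 has no proper subgroup of index at most 3. -/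
theorem four_le_index [IsSimpleGroup G] (h8 : 8 ∣ Nat.card G) {N : Subgroup G} (hN : N ≠ ⊤) :
    4 ≤ N.index := by
  by_contra h
  have hker : (MulAction.toPermHom G (G ⧸ N)).ker = ⊥ := by
    rw [← Subgroup.normalCore_eq_ker]
    refine (N.normalCore_normal.eq_bot_or_eq_top).resolve_right fun e => hN ?_
    exact top_le_iff.1 (e ▸ N.normalCore_le)
  have hd : Nat.card G ∣ N.index.factorial := by
    rw [Nat.card_congr (MonoidHom.ofInjective ((MonoidHom.ker_eq_bot_iff _).1 hker)).toEquiv,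
      Subgroup.index_eq_card, ← Nat.card_perm]
    exact Subgroup.card_subgroup_dvd_card _
  have h' := (h8.trans hd)
  have : N.index ≤ 3 := by omega
  have hpos : N.index ≠ 0 := Subgroup.index_ne_zero_of_finite
  have : N.index = 1 ∨ N.index = 2 ∨ N.index = 3 := by omega
  rcases this with e | e | e <;> rw [e] at h' <;> norm_num [Nat.factorial] at h'

namespace Setup

variable {σ τ : G} (S : Setup σ τ)
include S

theorem order_lt_bounds :
    128 * (S.a ^ 2 * S.b ^ 2) < Nat.card G ∧ Nat.card G < 512 * (S.a ^ 2 * S.b ^ 2) := by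
  obtain ⟨p, q, r, hp, hp1, hq, hr, -, hA, -⟩ := S.exists_eqs
  have := S.a_pos
  have := S.b_pos
  have h := order_bounds (N := (Nat.card G : ℤ)) (K := (S.a : ℤ) ^ 2 * (S.b : ℤ) ^ 2) (by positivity) hp hp1 hq hr
    (by linear_combination hA)
  exact_mod_cast h

theorem eight_dvd : 8 ∣ Nat.card G := by
  have h : Nat.card (S.d.toCore.K) ∣ Nat.card (Subgroup.centralizer ({σ ^ 2} : Set G)) :=
    Subgroup.card_dvd_of_le fun x hx => mem_cent_iff.2 (S.d.toCore.commute_J_of_mem_K hx)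
  refine dvd_trans ?_ (Subgroup.card_subgroup_dvd_card (Subgroup.centralizer ({σ ^ 2} : Set G)))
  rw [S.d.toCore.card_centralizer_J, S.d.toCore.card_K]
  exact ⟨Nat.card S.d.V, by ring⟩

theorem a_or_b_one [IsSimpleGroup G] : S.a = 1 ∨ S.b = 1 := by
  classical
  by_contra hab
  rw [not_or] at hab
  have ha : 1 < S.a := by have := S.a_pos; omega
  have hb : 1 < S.b := by have := S.b_pos; omega
  obtain ⟨E, hodd, hE⟩ := S.exists_E ha hb
  obtain ⟨ρ, hρ, hρN⟩ := S.exists_rho_normalizer E hodd hE ha hb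
  obtain ⟨ρ', hρ', hρN'⟩ := S.shift.exists_rho_normalizer E hodd hE hb (by rw [S.shift_b]; exact ha)
  set N := Subgroup.normalizer (E : Set G) with hN
  have hCN : ∀ c, Commute (σ ^ 2) c → c ∈ N := fun c hc =>
    mem_normalizer_of_maps fun x hx => S.E_conj E hE hc hx
  -- `N` is proper
  have hVne : ∃ v ∈ S.V, v ≠ 1 := by
    obtain ⟨w, hw, hw1, -⟩ := S.exists_fixed_ne ha; exact ⟨w, hw, hw1⟩
  have hNne : N ≠ ⊤ := by
    intro h
    haveI : E.Normal := Subgroup.normalizer_eq_top_iff.1 h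
    rcases ‹E.Normal›.eq_bot_or_eq_top with e | e
    · obtain ⟨v, hv, hv1⟩ := hVne
      exact hv1 (Subgroup.mem_bot.1 (e ▸ S.V_le_E E hE hv))
    · rw [e, Subgroup.card_top, ← Nat.not_even_iff_odd] at hodd
      exact hodd (even_iff_two_dvd.2 (dvd_trans (by norm_num) S.eight_dvd))
  have hPN : (S.P : Subgroup G) ≤ N := fun x hx => by
    obtain ⟨i, rfl | rfl⟩ := S.hform x hx
    · exact hCN _ (Commute.pow_pow_self σ 2 i)
    · exact hCN _ ((Commute.pow_pow_self σ 2 i).mul_right S.commute_J_tau)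
  let sN : N := ⟨σ, hPN S.hσ⟩
  let tN : N := ⟨τ, hPN S.hτ⟩
  let PN : Sylow 2 N := S.P.subtype hPN
  have hPmem : ∀ x : N, x ∈ (PN : Subgroup N) ↔ (x : G) ∈ (S.P : Subgroup G) := fun x => by
    simp [PN, Sylow.coe_subtype, Subgroup.mem_subgroupOf]
  have hgen : Subgroup.closure ({sN, tN} : Set N) = (PN : Subgroup N) := by
    refine le_antisymm ((Subgroup.closure_le _).2 ?_) fun x hx => ?_
    · rintro x (rfl | rfl)
      exacts [(hPmem _).2 S.hσ, (hPmem _).2 S.hτ]
    · obtain ⟨i, h | h⟩ := S.hform _ ((hPmem x).1 hx)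
      · rw [show x = sN ^ i from Subtype.ext (by simp [sN, h])]
        exact pow_mem (Subgroup.subset_closure (Set.mem_insert _ _)) i
      · rw [show x = sN ^ i * tN from Subtype.ext (by simp [sN, tN, h])]
        exact mul_mem (pow_mem (Subgroup.subset_closure (Set.mem_insert _ _)) i)
          (Subgroup.subset_closure (Set.mem_insert_of_mem _ rfl))
  obtain ⟨dN, hformN⟩ : ∃ d : Data sN tN 2,
      ∀ x ∈ (PN : Subgroup N), ∃ i : ℕ, x = sN ^ i ∨ x = sN ^ i * tN := by
    refine exists_data (n := 3) le_rfl PN ((hPmem _).2 S.hσ) ((hPmem _).2 S.hτ) ?_ ?_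
      (Subtype.ext S.d.inv) hgen ⟨?_, ?_⟩
    · rw [← Subgroup.orderOf_coe]; exact S.orderOf_sigma
    · rw [← Subgroup.orderOf_coe]; exact S.orderOf_tau
    · refine isConj_iff.2 ⟨(⟨ρ, hρN⟩ : N)⁻¹, Subtype.ext ?_⟩
      show ρ⁻¹ * σ ^ 2 * ρ⁻¹⁻¹ = τ
      rw [← hρ]; group
    · refine isConj_iff.2 ⟨(⟨ρ', hρN'⟩ : N)⁻¹, Subtype.ext ?_⟩
      show ρ'⁻¹ * σ ^ 2 * ρ'⁻¹⁻¹ = σ * τ
      rw [← hρ']; group
  haveI := Fintype.ofFinite N
  let S' : Setup sN tN :=
    { d := dN, P := PN, hσ := (hPmem _).2 S.hσ, hτ := (hPmem _).2 S.hτ, hform := hformN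
      cent := fun g hg => by
        obtain ⟨k, hk⟩ := Subgroup.mem_zpowers_iff.1 (S.cent g (hg.map N.subtype))
        exact Subgroup.mem_zpowers_iff.2 ⟨k, Subtype.ext (by push_cast; exact hk)⟩ }
  have hV : ∀ v : N, v ∈ S'.V ↔ (v : G) ∈ S.V := fun v => by
    rw [S'.mem_V, S.mem_V, Subgroup.orderOf_coe]
    refine and_congr_left' ⟨fun h => h.map N.subtype, fun h => Subtype.ext h.eq⟩
  have hcard : ∀ (t : N), Nat.card (S'.V ⊓ Subgroup.centralizer ({t} : Set N) : Subgroup N) =
      Nat.card (S.V ⊓ Subgroup.centralizer ({(t : G)} : Set G) : Subgroup G) := fun t => by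
    refine Nat.card_congr
      { toFun := fun x => ⟨((x : N) : G), (hV _).1 x.2.1,
          mem_cent_iff.2 ((mem_cent_iff.1 x.2.2).map N.subtype)⟩
        invFun := fun x => ⟨⟨x, hCN _ (S.commute_J x.2.1)⟩, (hV _).2 x.2.1,
          mem_cent_iff.2 (Subtype.ext (mem_cent_iff.1 x.2.2).eq)⟩
        left_inv := fun x => Subtype.ext (Subtype.ext rfl)
        right_inv := fun x => Subtype.ext rfl }
  have ha' : S'.a = S.a := hcard tN
  have hb' : S'.b = S.b := hcard (sN * tN)
  have h1 := S'.order_lt_bounds.1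
  rw [ha', hb'] at h1
  have h2 := S.order_lt_bounds.2
  have h4 := four_le_index S.eight_dvd hNne
  have h5 := N.card_mul_index
  nlinarith

end Setup

end Cfsg.Agent.SmallCent
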