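import Cfsg.Agent.Lib.SmallCent.Both

/-!
# The odd core of `C(V)` is abelian and its normalizer has one class of involutions
-/

set_option autoImplicit false
set_option linter.unusedSectionVars false
set_option linter.style.haveILetI false

namespace Cfsg.Agent.SmallCent

open DihedralBlock
open scoped commutatorElement

universe u

variable {G : Type u} [Group G] [Fintype G]

theorem mem_normalizer_of_maps {E : Subgroup G} {c : G} (h : ∀ x ∈ E, c * x * c⁻¹ ∈ E) :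
    c ∈ Subgroup.normalizer (E : Set G) := by
  have hmap : E.map (MulAut.conj c).toMonoidHom = E := by
    refine Subgroup.eq_of_le_of_card_ge ?_ ?_
    · rintro _ ⟨x, hx, rfl⟩
      exact h x hx
    · rw [Subgroup.card_map_of_injective (MulAut.conj c).injective]
  refine Subgroup.mem_normalizer_iff.2 fun x => ⟨h x, fun hx => ?_⟩
  obtain ⟨y, hy, e⟩ := hmap.ge hx
  have : c * y * c⁻¹ = c * x * c⁻¹ := e
  rwa [← mul_left_cancel (mul_right_cancel this)]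

namespace Setup

variable {σ τ : G} (S : Setup σ τ)
include S

variable (E : Subgroup G) (hodd : Odd (Nat.card E)) (hE : ∀ x, x ∈ E ↔ S.InE x)
include hE

theorem E_mul_left {x y z : G} (hx : x ∈ E) (hy : y ∈ E) (hz : z ∈ E) :
    ⁅x, y * z⁆ = ⁅x, y⁆ * ⁅x, z⁆ := by
  have hc : Commute ⁅x, z⁆ y := ((hE _).1 hy).1 _ (S.commutator_mem_V E hE hx hz)
  calc ⁅x, y * z⁆ = ⁅x, y⁆ * (y * ⁅x, z⁆ * y⁻¹) := by simp only [commutatorElement_def]; group
    _ = _ := by rw [hc.symm.eq, mul_inv_cancel_right]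

theorem E_mul_right {x y z : G} (hx : x ∈ E) (hy : y ∈ E) (hz : z ∈ E) :
    ⁅x * y, z⁆ = ⁅x, z⁆ * ⁅y, z⁆ := by
  have hc : Commute ⁅y, z⁆ x := ((hE _).1 hx).1 _ (S.commutator_mem_V E hE hy hz)
  calc ⁅x * y, z⁆ = x * ⁅y, z⁆ * x⁻¹ * ⁅x, z⁆ := by simp only [commutatorElement_def]; group
    _ = ⁅y, z⁆ * ⁅x, z⁆ := by rw [hc.symm.eq, mul_inv_cancel_right]
    _ = _ := (S.V_comm (S.commutator_mem_V E hE hy hz) (S.commutator_mem_V E hE hx hz)).eq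

omit E hE in
/-- The elements of `V` inverted by `τ`. -/
theorem inverted_mul {c d : G} (hc : c ∈ S.V) (hd : d ∈ S.V) (h1 : τ * c * τ⁻¹ = c⁻¹)
    (h2 : τ * d * τ⁻¹ = d⁻¹) : τ * (c * d) * τ⁻¹ = (c * d)⁻¹ := by
  rw [← conj_mul, h1, h2, mul_inv_rev, (S.V_comm (inv_mem hc) (inv_mem hd)).eq]

theorem inverted_mixed {x y : G} (hx : x ∈ E) (hxt : Commute τ x) (hy : y ∈ E)
    (hyt : Commute (σ ^ 2 * τ) y) : τ * ⁅x, y⁆ * τ⁻¹ = ⁅x, y⁆⁻¹ := by
  obtain ⟨v, hv, k, hk, hkJ, rfl⟩ := S.exists_inverted E hE hy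
  have hvE : v ∈ E := S.V_le_E E hE hv
  have hzero : ∀ z ∈ E, ⁅z, v⁆ = 1 := fun z hz =>
    commutatorElement_eq_one_iff_mul_comm.2 (((hE _).1 hz).1 v hv).symm.eq
  have hτy : τ * (v * k) * τ⁻¹ = v * k⁻¹ := by
    have e : τ * (v * k) * τ⁻¹ = σ ^ 2 * (σ ^ 2 * τ * (v * k) * (σ ^ 2 * τ)⁻¹) * (σ ^ 2)⁻¹ := by
      calc τ * (v * k) * τ⁻¹
          = σ ^ 2 * σ ^ 2 * τ * (v * k) * τ⁻¹ * (σ ^ 2 * σ ^ 2)⁻¹ := by
            rw [S.J_sq, one_mul, inv_one, mul_one]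
        _ = _ := by group
    rw [e, hyt.eq, mul_inv_cancel_right, ← conj_mul, hkJ, (S.commute_J hv).eq, mul_inv_cancel_right]
  have e1 : τ * ⁅x, v * k⁆ * τ⁻¹ = ⁅x, v * k⁻¹⁆ := by
    rw [← hτy, commutatorElement_def, commutatorElement_def]
    calc τ * (x * (v * k) * x⁻¹ * (v * k)⁻¹) * τ⁻¹
        = τ * x * τ⁻¹ * (τ * (v * k) * τ⁻¹) * (τ * x * τ⁻¹)⁻¹ * (τ * (v * k) * τ⁻¹)⁻¹ := by group
      _ = _ := by rw [hxt.eq, mul_inv_cancel_right]
  rw [e1, S.E_mul_left E hE hx hvE (inv_mem hk), S.E_mul_left E hE hx hvE hk, hzero x hx, one_mul,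
    one_mul]
  refine eq_inv_of_mul_eq_one_left ?_
  rw [← S.E_mul_left E hE hx (inv_mem hk) hk, inv_mul_cancel, commutatorElement_one_right]

include hodd in
theorem inverted_commutator {x y : G} (hx : x ∈ E) (hy : y ∈ E) :
    τ * ⁅x, y⁆ * τ⁻¹ = ⁅x, y⁆⁻¹ := by
  let T : ∀ x ∈ E, Subgroup G := fun x hx =>
    { carrier := {y | y ∈ E ∧ τ * ⁅x, y⁆ * τ⁻¹ = ⁅x, y⁆⁻¹}
      one_mem' := ⟨one_mem _, by simp⟩
      mul_mem' := fun {a b} ha hb => ⟨mul_mem ha.1 hb.1, by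
        rw [S.E_mul_left E hE hx ha.1 hb.1]
        exact S.inverted_mul (S.commutator_mem_V E hE hx ha.1) (S.commutator_mem_V E hE hx hb.1)
          ha.2 hb.2⟩
      inv_mem' := fun {a} ha => ⟨inv_mem ha.1, by
        have e : ⁅x, a⁻¹⁆ = ⁅x, a⁆⁻¹ := eq_inv_of_mul_eq_one_left (by
          rw [← S.E_mul_left E hE hx (inv_mem ha.1) ha.1, inv_mul_cancel,
            commutatorElement_one_right])
        rw [e, ← conj_inv, ha.2]⟩ }
  have hzero : ∀ {a b : G}, Commute a b → τ * ⁅a, b⁆ * τ⁻¹ = ⁅a, b⁆⁻¹ := fun h => by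
    rw [commutatorElement_eq_one_iff_mul_comm.2 h.eq]; simp
  have hflip : ∀ {a b : G}, τ * ⁅a, b⁆ * τ⁻¹ = ⁅a, b⁆⁻¹ → τ * ⁅b, a⁆ * τ⁻¹ = ⁅b, a⁆⁻¹ := fun h => by
    rw [← commutatorElement_inv, ← conj_inv, h]
  have ht1 := S.tau_ne_one
  have htJ := S.tau_ne_J
  have hJE : ∀ c ∈ E, σ ^ 2 * c * (σ ^ 2)⁻¹ ∈ E := fun c hc => S.E_conj E hE (Commute.refl _) hc
  have hτE : ∀ c ∈ E, τ * c * τ⁻¹ ∈ E := fun c hc => S.E_conj E hE S.commute_J_tau hc
  have hoJτ : orderOf τ = 2 := orderOf_eq_prime (by rw [pow_two]; exact S.tau_sq) ht1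
  have hoJJτ : orderOf (σ ^ 2 * τ) = 2 :=
    orderOf_eq_prime (by rw [pow_two, S.commute_J_tau.symm.mul_mul_mul_comm, S.J_sq, S.tau_sq,
      one_mul]) fun e => htJ (by rw [← inv_eq_of_mul_eq_one_right e, S.J_inv])
  have hVc : ∀ a ∈ E, ∀ b ∈ E, Commute (σ ^ 2) b → Commute a b := fun a ha b hb hJ =>
    (((hE _).1 ha).1 b (S.mem_V_of_E E hE hb hJ)).symm
  have hsame : ∀ t, orderOf t = 2 → ∀ a ∈ E, Commute t a → ∀ b ∈ E, Commute t b → Commute a b :=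
    fun t ht a ha hta b hb htb => S.odd_comm ht hta ((hE _).1 ha).2 htb ((hE _).1 hb).2
  have stage1 : ∀ a (ha : a ∈ E), Commute τ a ∨ Commute (σ ^ 2 * τ) a → E ≤ T a ha := by
    intro a ha hat
    refine S.le_of_four S.commute_J_tau S.tau_sq ht1 htJ hodd hJE hτE
      (fun b hb h => ⟨hb, hzero (hVc a ha b hb h)⟩) (fun b hb h => ⟨hb, ?_⟩)
      (fun b hb h => ⟨hb, ?_⟩)
    · rcases hat with h' | h'
      · exact hzero (hsame τ hoJτ a ha h' b hb h)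
      · exact hflip (S.inverted_mixed E hE hb h ha h')
    · rcases hat with h' | h'
      · exact S.inverted_mixed E hE ha h' hb h
      · exact hzero (hsame _ hoJJτ a ha h' b hb h)
  have stage2 : E ≤ T y hy := by
    refine S.le_of_four S.commute_J_tau S.tau_sq ht1 htJ hodd hJE hτE
      (fun b hb h => ⟨hb, hzero (hVc y hy b hb h)⟩) (fun b hb h => ⟨hb, ?_⟩)
      (fun b hb h => ⟨hb, ?_⟩)
    · exact hflip (stage1 b hb (Or.inl h) hy).2
    · exact hflip (stage1 b hb (Or.inr h) hy).2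
  exact hflip (stage2 hx).2

include hodd in
/-- `E` is abelian. -/
theorem E_comm {x y : G} (hx : x ∈ E) (hy : y ∈ E) : Commute x y := by
  have h1 := S.inverted_commutator E hodd hE hx hy
  have h2 := S.shift.inverted_commutator E hodd hE hx hy
  have hc := S.commutator_mem_V E hE hx hy
  rw [((S.sigma_tau_fix_iff hc).2 h1).eq, mul_inv_cancel_right] at h2
  exact commutatorElement_eq_one_iff_mul_comm.1 (S.eq_one_of_inv_self hc h2.symm)

include hodd in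
/-- `N(E)` fuses `τ` and `J`. -/
theorem exists_rho_normalizer (ha : 1 < S.a) (hb : 1 < S.b) :
    ∃ ρ, ρ * τ * ρ⁻¹ = σ ^ 2 ∧ ρ ∈ Subgroup.normalizer (E : Set G) := by
  obtain ⟨ρ, hρJ, hρt, hρV⟩ := S.exists_rho
  obtain ⟨w₀, hw₀, hw₀1, hτw₀⟩ := S.exists_fixed_ne ha
  obtain ⟨e₁, he₁, he₁t, he₁J⟩ := S.shift.exists_extra (show 1 < S.shift.a from hb)
    (show 1 < S.shift.b by rw [S.shift_b]; exact ha)
  refine ⟨ρ, hρt, mem_normalizer_of_maps fun x hx => ?_⟩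
  -- an element of `E` centralized by `τ` and inverted by `J`
  set e := σ * e₁ * σ⁻¹ with he
  have heE : e ∈ E := S.E_conj E hE S.commute_J_sigma ((hE _).2 he₁)
  have het : Commute τ e := by
    have h := (conj_commute_iff σ _ _).2 he₁t
    rwa [show σ * (σ * (σ * τ)) * σ⁻¹ = σ * (σ ^ 2 * τ) * σ⁻¹ by rw [pow_two]; group,
      show σ * (σ ^ 2 * τ) * σ⁻¹ = σ ^ 2 * (σ * τ * σ⁻¹) by group, S.sigma_conj_tau, ← mul_assoc,
      S.J_sq, one_mul] at h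
  have heJ : ¬ Commute (σ ^ 2) e := fun h => he₁J (by
    rw [← conj_commute_iff σ, S.commute_J_sigma.symm.eq, mul_inv_cancel_right]; exact h)
  set e' := σ ^ 2 * e * (σ ^ 2)⁻¹ with he'
  have he'E : e' ∈ E := S.E_conj E hE (Commute.refl _) heE
  have he't : Commute τ e' := by
    have h := (conj_commute_iff (σ ^ 2) _ _).2 het
    rwa [S.commute_J_tau.eq, mul_inv_cancel_right] at h
  set w := e * e'⁻¹ with hw
  have hwE : w ∈ E := mul_mem heE (inv_mem he'E)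
  have hwt : Commute τ w := het.mul_right he't.inv_right
  have hJJ : σ ^ 2 * e' * (σ ^ 2)⁻¹ = e := by
    rw [he', S.J_inv, show σ ^ 2 * (σ ^ 2 * e * σ ^ 2) * σ ^ 2 = (σ ^ 2 * σ ^ 2) * e * (σ ^ 2 * σ ^ 2)
      by group, S.J_sq, one_mul, mul_one]
  have hwJ : σ ^ 2 * w * (σ ^ 2)⁻¹ = w⁻¹ := by
    rw [hw, ← conj_mul, ← conj_inv, hJJ, ← he', mul_inv_rev e e'⁻¹, inv_inv]
  have hw1 : w ≠ 1 := fun h => heJ (commute_of_conj_eq (mul_inv_eq_one.1 h).symm)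
  -- its conjugate lies in `V`
  set u := ρ * w * ρ⁻¹ with hu
  have huo : Odd (orderOf u) := by rw [hu, orderOf_conj_eq]; exact ((hE _).1 hwE).2
  have huJ : Commute (σ ^ 2) u := by rw [← hρt, hu]; exact (conj_commute_iff ρ _ _).2 hwt
  have huV : u ∈ S.V := S.mem_V.2 ⟨huJ, huo⟩
  have hu1 : u ≠ 1 := fun h => hw1 (conj_eq_one_iff.1 h)
  have huτ : τ * u * τ⁻¹ = u⁻¹ := by
    have h : σ ^ 2 * τ * u * (σ ^ 2 * τ)⁻¹ = u⁻¹ := by
      have e : (ρ * w * ρ⁻¹)⁻¹ = ρ * (σ ^ 2 * w * (σ ^ 2)⁻¹) * ρ⁻¹ := by rw [hwJ]; group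
      rw [← hρJ, hu, e]; group
    rw [show σ ^ 2 * τ * u * (σ ^ 2 * τ)⁻¹ = σ ^ 2 * (τ * u * τ⁻¹) * (σ ^ 2)⁻¹ by group,
      (S.commute_J (S.normV S.commute_J_tau huV)).eq, mul_inv_cancel_right] at h
    exact h
  -- the odd part of `C_K(u)` is `E`
  set H := Subgroup.centralizer ((S.V ⊓ Subgroup.centralizer ({τ} : Set G) : Subgroup G) : Set G) ⊓
    Subgroup.centralizer ({u} : Set G) with hH
  have hHmem : ∀ z, z ∈ H ↔ S.InK z ∧ Commute u z := fun z => by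
    rw [hH, Subgroup.mem_inf, mem_cent_iff, Subgroup.mem_centralizer_iff]
    refine and_congr_left' ⟨fun h v hv hτv => (h v ⟨hv, mem_cent_iff.2 hτv⟩).symm,
      fun h v hv => (h v hv.1 (mem_cent_iff.1 hv.2)).symm.eq⟩
  obtain ⟨R, hRodd, hR⟩ := exists_odd_subgroup H S.d.toCore.orderOf_J
    ((hHmem _).2 ⟨S.InK_J, huJ.symm⟩) (fun z hz hc hk => by
      obtain ⟨hzK, hzu⟩ := (hHmem z).1 hz
      obtain ⟨v, hv, h | h⟩ := S.cent_two hc hw₀ hw₀1 hτw₀ (hzK _ hw₀ hτw₀) huV hu1 huτ hzu.symm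
      · left
        obtain ⟨k, hk⟩ := hk
        rw [h] at hk ⊢
        exact S.d.toCore.eq_one_of_pow_two_pow hv (k := k) (by rw [← hk, pow_orderOf_eq_one])
      · right
        rw [h] at hk ⊢
        rw [S.two_element_V hv hk, one_mul])
  have hRK : ∀ z ∈ R, S.InK z := fun z hz => ((hHmem z).1 ((hR z).1 hz).1).1
  have hconjR : ∀ s : G, (∀ v ∈ S.V, Commute τ v → s⁻¹ * v * s ∈ S.V ∧ Commute τ (s⁻¹ * v * s)) →
      (s * u * s⁻¹ = u) → ∀ z ∈ R, s * z * s⁻¹ ∈ R := by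
    intro s hs hsu z hz
    obtain ⟨hzH, hzo⟩ := (hR z).1 hz
    obtain ⟨hzK, hzu⟩ := (hHmem z).1 hzH
    refine (hR _).2 ⟨(hHmem _).2 ⟨fun v hv hτv => ?_, ?_⟩, by rwa [orderOf_conj_eq]⟩
    · obtain ⟨h1, h2⟩ := hs v hv hτv
      have h := (conj_commute_iff s _ _).2 (hzK _ h1 h2)
      rwa [show s * (s⁻¹ * v * s) * s⁻¹ = v by group] at h
    · have h := (conj_commute_iff s _ _).2 hzu
      rwa [hsu] at h
  have hstu : σ * τ * u * (σ * τ)⁻¹ = u := by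
    rw [((S.sigma_tau_fix_iff huV).2 huτ).eq, mul_inv_cancel_right]
  have hRle : R ≤ E := by
    refine S.le_of_four (t := σ * τ) S.commute_J_sigma_tau S.shift.d.tsq ?_ ?_ hRodd
      (hconjR _ (fun v hv hτv => ?_) (by rw [huJ.eq, mul_inv_cancel_right]))
      (hconjR _ (fun v hv hτv => ?_) hstu) ?_ ?_ ?_
    · exact S.shift.tau_ne_one
    · exact S.shift.tau_ne_J
    · rw [mul_assoc, (S.commute_J hv).symm.eq, inv_mul_cancel_left]; exact ⟨hv, hτv⟩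
    · have e : (σ * τ)⁻¹ * v * (σ * τ) = v⁻¹ := by
        calc (σ * τ)⁻¹ * v * (σ * τ) = τ⁻¹ * (σ⁻¹ * v * σ) * τ := by group
          _ = τ⁻¹ * v⁻¹ * τ := by
              rw [show σ⁻¹ * v * σ = σ⁻¹ * (σ * v⁻¹ * σ⁻¹) * σ by
                rw [S.sigma_conj (inv_mem hv), inv_inv]]
              group
          _ = v⁻¹ := by rw [mul_assoc, hτv.inv_right.symm.eq, inv_mul_cancel_left]
      rw [e]; exact ⟨inv_mem hv, hτv.inv_right⟩
    · exact fun z hz hJ => S.V_le_E E hE (S.mem_V.2 ⟨hJ, ((hR z).1 hz).2⟩)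
    · exact fun z hz hc => (hE z).2 (S.InE_of_InK (hRK z hz) hc ((hR z).1 hz).2)
    · intro z hz hc
      have h := (conj_commute_iff σ _ _).2 hc
      have e2 : σ * (σ ^ 2 * (σ * τ)) * σ⁻¹ = σ * τ := by
        calc σ * (σ ^ 2 * (σ * τ)) * σ⁻¹ = σ ^ 2 * σ * (σ * τ * σ⁻¹) := by group
          _ = σ ^ 2 * σ ^ 2 * (σ * τ) := by
              rw [S.sigma_conj_tau, ← mul_assoc, mul_assoc (σ ^ 2) σ (σ ^ 2),
                ← S.commute_J_sigma.eq]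
              group
          _ = σ * τ := by rw [S.J_sq, one_mul]
      rw [e2] at h
      have h' : σ * z * σ⁻¹ ∈ E := (hE _).2 (S.InE_of_InK (S.InK_sigma_conj (hRK z hz)) h
        (by rw [orderOf_conj_eq]; exact ((hR z).1 hz).2))
      have h'' := S.E_conj E hE S.commute_J_sigma.inv_right h'
      rwa [inv_inv, show σ⁻¹ * (σ * z * σ⁻¹) * σ = z by group] at h''
  refine hRle ((hR _).2 ⟨(hHmem _).2 ⟨fun v hv hτv => ?_, ?_⟩, ?_⟩)
  · exact ((hρV v hv hτv).mul_left (((hE _).1 hx).1 v hv).symm).mul_left (hρV v hv hτv).inv_left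
  · rw [hu, conj_commute_iff]
    exact S.E_comm E hodd hE hwE hx
  · rw [orderOf_conj_eq]; exact ((hE _).1 hx).2

end Setup

end Cfsg.Agent.SmallCent
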