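import Cfsg.Agent.Lib.SmallCent.Seven

/-!
# Order 2520: two involutions in the centralizer of a third
-/

set_option autoImplicit false
set_option linter.unusedSectionVars false
set_option linter.style.haveILetI false

namespace Cfsg.Agent.SmallCent

open DihedralBlock

universe u

variable {G : Type u} [Group G] [Fintype G]

namespace Setup

variable {σ τ : G} (S : Setup σ τ)
include S

variable {v : G} (hb : S.b = 1) (ha : S.a = 3) (hX : Nat.card S.CV = 36) (hv : v ∈ S.V)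
  (hv1 : v ≠ 1)

include hb ha hX hv hv1 in
theorem cube_eq_J (hG : Nat.card G = 2520) {u f p q : G}
    (hu : Commute (σ ^ 2) u) (hu2 : u * u = 1) (huJ : u ≠ σ ^ 2) (hu1 : u ≠ 1)
    (hf : Commute (σ ^ 2) f) (hf2 : f * f = 1) (hfJ : f ≠ σ ^ 2) (hf1 : f ≠ 1)
    (hp : IsConj v p) (hq : IsConj v q) (hpq : Commute p q) (hne : q ≠ p) (hnei : q ≠ p⁻¹)
    (hpJ : ¬ Commute (σ ^ 2) p) (hqJ : ¬ Commute (σ ^ 2) q) (hup : Commute u p)
    (hfq : Commute f q) : u * f * (u * f) * (u * f) = σ ^ 2 := by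
  obtain ⟨ho, hVz⟩ := S.orderOf_v hb ha hv hv1
  -- both are outer of the second kind
  have hodd : ∀ {t z : G}, Commute (σ ^ 2) t → t * t = 1 → t ≠ 1 → t ≠ σ ^ 2 → IsConj v z →
      Commute t z → ¬ Commute (σ ^ 2) z →
      ∃ w ∈ S.V, ∃ i, Odd i ∧ t = w * (σ ^ i * τ) ∧ σ ^ i * τ * w * (σ ^ i * τ)⁻¹ = w⁻¹ := by
    intro t z htJ ht2 ht1 htne hz htz hzJ
    obtain ⟨w, hw, i, h, hwi⟩ := S.exists_outer htJ ht2 ht1 htne
    refine ⟨w, hw, i, ?_, h, hwi⟩
    by_contra hi
    rw [Nat.not_odd_iff_even] at hi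
    have hto : orderOf t = 2 := orderOf_eq_prime (by rw [pow_two]; exact ht2) ht1
    have htv : Commute t v := by
      refine commute_of_conj_eq ?_
      calc t * v * t⁻¹ = w * (σ ^ i * (τ * v * τ⁻¹) * (σ ^ i)⁻¹) * w⁻¹ := by rw [h]; group
        _ = v := by
          rw [(S.commute_tau_of_b_one hb hv).eq, mul_inv_cancel_right, S.commute_sigma_pow i hv,
            if_pos hi, (S.V_comm hw hv).eq, mul_inv_cancel_right]
    rcases S.three_unique hb ha hv hv1 hto htv ho htz (S.orderOf_class hb ha hv hv1 hz) with e | e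
    · exact hzJ (e ▸ S.commute_J hv)
    · exact hzJ (e ▸ S.commute_J (inv_mem hv))
  obtain ⟨w, hw, i, hi, hu', -⟩ := hodd hu hu2 hu1 huJ hp hup hpJ
  obtain ⟨w', hw', j, hj, hf', hwj⟩ := hodd hf hf2 hf1 hfJ hq hfq hqJ
  set c := w * w'⁻¹ with hc
  have hcV : c ∈ S.V := mul_mem hw (inv_mem hw')
  have hiw : σ ^ i * τ * w' * (σ ^ i * τ)⁻¹ = w'⁻¹ := by
    rw [show σ ^ i * τ * w' * (σ ^ i * τ)⁻¹ = σ ^ i * (τ * w' * τ⁻¹) * (σ ^ i)⁻¹ by group,
      (S.commute_tau_of_b_one hb hw').eq, mul_inv_cancel_right, S.commute_sigma_pow i hw',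
      if_neg (Nat.not_even_iff_odd.2 hi)]
  have huf : u * f = c * (σ ^ i * (σ ^ j)⁻¹) := by
    have e : σ ^ i * τ * (σ ^ j * τ) = σ ^ i * (σ ^ j)⁻¹ := by
      rw [mul_assoc, ← mul_assoc τ, S.d.toCore.t_mul_pow, mul_assoc, S.tau_sq, mul_one]
    calc u * f = w * (σ ^ i * τ * w' * (σ ^ i * τ)⁻¹) * (σ ^ i * τ * (σ ^ j * τ)) := by
          rw [hu', hf']; group
      _ = _ := by rw [hiw, e]
  have hc3 : c * c * c = 1 := by
    have h : c ^ Nat.card S.V = 1 :=
      congrArg Subtype.val (pow_card_eq_one' (x := (⟨c, hcV⟩ : S.V)))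
    rw [S.card_V_of_b_one hb, ha, pow_three', ] at h
    exact h
  have hrot : σ ^ i * (σ ^ j)⁻¹ = 1 ∨ σ ^ i * (σ ^ j)⁻¹ = σ ^ 2 := by
    rw [S.pow_mod_four i, S.pow_mod_four j]
    have hi4 : i % 4 = 1 ∨ i % 4 = 3 := by obtain ⟨k, rfl⟩ := hi; omega
    have hj4 : j % 4 = 1 ∨ j % 4 = 3 := by obtain ⟨k, rfl⟩ := hj; omega
    rcases hi4 with e | e <;> rcases hj4 with e' | e' <;> rw [e, e']
    · left; exact mul_inv_cancel _
    · right
      calc σ ^ 1 * (σ ^ 3)⁻¹ = (σ ^ 2)⁻¹ := by group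
        _ = σ ^ 2 := S.J_inv
    · right; group
    · left; exact mul_inv_cancel _
  rcases hrot with e | e <;> rw [e] at huf
  swap
  · have hcc : Commute (σ ^ 2) c := S.commute_J hcV
    rw [huf, hcc.mul_mul_mul_comm, S.J_sq, mul_one, ← mul_assoc, hc3, one_mul]
  exfalso
  rw [mul_one] at huf
  have hfu : f = u * c := by rw [← huf, ← mul_assoc, hu2, one_mul]
  have huo : orderOf u = 2 := orderOf_eq_prime (by rw [pow_two]; exact hu2) hu1
  have hfo : orderOf f = 2 := orderOf_eq_prime (by rw [pow_two]; exact hf2) hf1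
  have hp3 := S.orderOf_class hb ha hv hv1 hp
  have hq3 := S.orderOf_class hb ha hv hv1 hq
  -- `f` is conjugate to `u` by `c`
  have hcu : u * c * u⁻¹ = c⁻¹ := by
    rw [inv_eq_of_mul_eq_one_right hu2]
    refine eq_inv_of_mul_eq_one_left ?_
    rw [show u * c * u * c = u * c * (u * c) by group, ← hfu, hf2]
  have hfc : f = c * u * c⁻¹ := by
    have e : c * c = c⁻¹ := eq_inv_of_mul_eq_one_left hc3
    calc f = u * c := hfu
      _ = (u * c * u⁻¹) * u := by group
      _ = c⁻¹ * u := by rw [hcu]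
      _ = c * (c * u) := by rw [← e, mul_assoc]
      _ = c * ((c⁻¹)⁻¹ * u) := by rw [inv_inv]
      _ = c * ((u * c * u⁻¹)⁻¹ * u) := by rw [hcu]
      _ = c * u * c⁻¹ := by group
  have hfp : Commute f (c * p * c⁻¹) := hfc ▸ (conj_commute_iff c u p).2 hup
  have hcp : c * p * c⁻¹ = q ∨ c * p * c⁻¹ = q⁻¹ :=
    S.three_unique hb ha hv hv1 hfo hfq hq3 hfp (by rw [orderOf_conj_eq, hp3])
  set q' := c * q * c⁻¹ with hq'
  have hqq' : Commute q q' := by
    have h := (conj_commute_iff c p q).2 hpq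
    rcases hcp with e | e <;> rw [e] at h
    · exact h
    · exact Commute.inv_left_iff.1 h
  have hcq' : c * q' * c⁻¹ = p ∨ c * q' * c⁻¹ = p⁻¹ := by
    have h3 : ∀ z, c * (c * (c * z * c⁻¹) * c⁻¹) * c⁻¹ = z := fun z => by
      calc c * (c * (c * z * c⁻¹) * c⁻¹) * c⁻¹ = (c * c * c) * z * (c * c * c)⁻¹ := by group
        _ = z := by rw [hc3, one_mul, inv_one, mul_one]
    have h := h3 p
    rcases hcp with e | e <;> rw [e] at h
    · exact Or.inl h
    · right
      rw [← h, ← conj_inv, ← conj_inv, inv_inv]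
  have hq'p : Commute q' p := by
    have h := (conj_commute_iff c q q').2 hqq'
    rcases hcq' with e | e <;> rw [e] at h
    · exact h
    · exact Commute.inv_right_iff.1 h
  -- transport to `v`
  obtain ⟨g, hg⟩ := isConj_iff.1 hp.symm
  obtain ⟨-, -, -, -, -, -, -, hthree⟩ := S.sylow_facts hb ha hX hv hv1 hG
  have hconj : ∀ z, IsConj v z → IsConj v (g * z * g⁻¹) := fun z hz =>
    hz.trans (isConj_iff.2 ⟨g, rfl⟩)
  have hinj : ∀ {z z' : G}, g * z * g⁻¹ = g * z' * g⁻¹ → z = z' := fun h =>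
    mul_left_cancel (mul_right_cancel h)
  have h := hthree (g * q * g⁻¹) (g * q' * g⁻¹) (hconj q hq)
    (hconj q' (hq.trans (isConj_iff.2 ⟨c, rfl⟩)))
    (hg ▸ (conj_commute_iff g p q).2 hpq) (hg ▸ (conj_commute_iff g p q').2 hq'p.symm)
    ((conj_commute_iff g q q').2 hqq') (fun e => hne (hinj (e.trans hg.symm)))
    (fun e => hnei (hinj (e.trans (by rw [← hg, conj_inv]))))
  have hq'cases : q' = p ∨ q' = p⁻¹ ∨ q' = q ∨ q' = q⁻¹ := by
    rcases h with e | e | e | e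
    · exact Or.inl (hinj (e.trans hg.symm))
    · exact Or.inr (Or.inl (hinj (e.trans (by rw [← hg, conj_inv]))))
    · exact Or.inr (Or.inr (Or.inl (hinj e)))
    · exact Or.inr (Or.inr (Or.inr (hinj (e.trans (by rw [← conj_inv])))))
  rcases hq'cases with e | e | e | e
  · rw [e] at hcq'
    rcases hcp with e1 | e1 <;> rcases hcq' with e2 | e2 <;> rw [e1] at e2
    · exact hne e2
    · exact hnei e2
    · exact hnei (by rw [← e2, inv_inv])
    · exact hne (inv_inj.1 e2)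
  · rw [e, ← conj_inv] at hcq'
    rcases hcp with e1 | e1 <;> rcases hcq' with e2 | e2 <;> rw [e1] at e2
    · exact hnei (by rw [← e2, inv_inv])
    · exact hne (inv_inj.1 e2)
    · exact hne (by rw [← e2, inv_inv])
    · exact hnei (by rw [← e2, inv_inv])
  · rw [e] at hcq'
    rw [hq'] at e
    rcases hcq' with e2 | e2 <;> rw [e] at e2
    · exact hne e2
    · exact hnei e2
  · rw [e, ← conj_inv, ← hq', e, inv_inv] at hcq'
    rcases hcq' with e2 | e2
    · exact hne e2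
    · exact hnei e2

end Setup

end Cfsg.Agent.SmallCent
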