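import Cfsg.Agent.Lib.SmallCent.BOne

/-!
# There is no simple group of order 7560 in this situation
-/

set_option autoImplicit false
set_option linter.unusedSectionVars false
set_option linter.style.haveILetI false

namespace Cfsg.Agent.SmallCent

open DihedralBlock

universe u

variable {G : Type u} [Group G] [Fintype G]

omit [Fintype G] in
/-- An involution normalizing a subgroup of odd index lies in it. -/
theorem mem_of_sq {H K : Subgroup G} (hK : K ≤ Subgroup.normalizer (H : Set G))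
    (hodd : Odd (H.relIndex K)) {x : G} (hx : x ∈ K) (hx2 : x * x = 1) : x ∈ H := by
  haveI : (H.subgroupOf K).Normal := Subgroup.normal_subgroupOf_of_le_normalizer hK
  have h : (⟨x, hx⟩ : K) ^ H.relIndex K ∈ H.subgroupOf K :=
    (H.subgroupOf K).pow_index_mem ⟨x, hx⟩
  obtain ⟨m, hm⟩ := hodd
  have h2 : (⟨x, hx⟩ : K) ^ 2 = 1 := Subtype.ext (by rw [pow_two]; exact hx2)
  rw [hm, pow_succ, pow_mul, h2, one_pow, one_mul] at h
  exact h

namespace Setup

variable {σ τ : G} (S : Setup σ τ)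
include S

theorem exists_generator {p : ℕ} (hp : p.Prime) (hV : Nat.card S.V = p) :
    ∃ v ∈ S.V, v ≠ 1 ∧ orderOf v = p ∧ S.V = Subgroup.zpowers v := by
  haveI := Fact.mk hp
  obtain ⟨v, hv⟩ := exists_prime_orderOf_dvd_card' (G := S.V) p (dvd_of_eq hV.symm)
  rw [← Subgroup.orderOf_coe] at hv
  refine ⟨v, v.2, fun h => ?_, hv, (Subgroup.eq_of_le_of_card_ge (Subgroup.zpowers_le.2 v.2) ?_).symm⟩
  · rw [h, orderOf_one] at hv; exact hp.one_lt.ne hv
  · rw [Nat.card_zpowers, hv, hV]

theorem CV_eq_cent {v : G} (h : S.V = Subgroup.zpowers v) :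
    S.CV = Subgroup.centralizer ({v} : Set G) := by
  refine le_antisymm (fun x hx => mem_cent_iff.2 (S.mem_CV.1 hx v (h ▸ Subgroup.mem_zpowers v)))
    fun x hx => S.mem_CV.2 fun w hw => ?_
  rw [h] at hw
  obtain ⟨k, rfl⟩ := Subgroup.mem_zpowers_iff.1 hw
  exact (mem_cent_iff.1 hx).zpow_left k

theorem CV_le_normalizer : S.CV ≤ Subgroup.normalizer (S.V : Set G) := fun x hx =>
  mem_normalizer_of_maps fun v hv => by
    rwa [(S.mem_CV.1 hx v hv).symm.eq, mul_inv_cancel_right]

theorem normalizer_ne_top [IsSimpleGroup G] (hV : 1 < Nat.card S.V)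
    (hG : Nat.card S.V < Nat.card G) : Subgroup.normalizer (S.V : Set G) ≠ ⊤ := by
  intro h
  haveI : S.V.Normal := Subgroup.normalizer_eq_top_iff.1 h
  rcases ‹S.V.Normal›.eq_bot_or_eq_top with e | e
  · rw [e, Subgroup.card_bot] at hV; omega
  · rw [e, Subgroup.card_top] at hG; omega

theorem not_order_7560 [IsSimpleGroup G] (hb : S.b = 1) (ha : S.a = 5)
    (hG : Nat.card G = 7560) : False := by
  classical
  haveI : Fact (Nat.Prime 5) := ⟨by norm_num⟩
  have hV : Nat.card S.V = 5 := by rw [S.card_V_of_b_one hb, ha]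
  obtain ⟨v, hv, hv1, hvo, hVz⟩ := S.exists_generator (by norm_num) hV
  set NV := Subgroup.normalizer (S.V : Set G) with hNV
  -- the normalizer of `V`
  have h40 : 40 ∣ Nat.card NV := by
    have := Subgroup.card_dvd_of_le S.cent_J_le_normalizer
    rwa [S.card_cent_J hb, ha] at this
  have hfac : (Nat.card G).factorization 5 = 1 := by
    rw [hG, show (7560 : ℕ) = 5 ^ 1 * 1512 by norm_num,
      Nat.factorization_mul (by norm_num) (by norm_num), Finsupp.add_apply,
      Nat.Prime.factorization_pow (by norm_num), Finsupp.single_eq_same,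
      Nat.factorization_eq_zero_of_not_dvd (by norm_num)]
  let P : Sylow 5 G := Sylow.ofCard S.V (by rw [hV, hfac, pow_one])
  have hn5 : NV.index % 5 = 1 := by
    have h := card_sylow_modEq_one (p := 5) G
    rw [Sylow.card_eq_index_normalizer P] at h
    exact h
  have hidx : NV.index = 21 := by
    obtain ⟨m, hm⟩ := h40
    have h := NV.card_mul_index
    rw [hm, hG] at h
    have hd : NV.index ∣ 189 := ⟨m, by linarith [mul_comm m NV.index]⟩
    have hne : NV.index ≠ 1 := fun e => S.normalizer_ne_top (by omega) (by omega)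
      (Subgroup.index_eq_one.1 e)
    have hmem : NV.index ∈ Nat.divisors 189 := Nat.mem_divisors.2 ⟨hd, by norm_num⟩
    rw [show Nat.divisors 189 = {1, 3, 7, 9, 21, 27, 63, 189} by decide] at hmem
    simp only [Finset.mem_insert, Finset.mem_singleton] at hmem
    omega
  have hNVc : Nat.card NV = 360 := by
    have h := NV.card_mul_index
    rw [hidx, hG] at h
    omega
  -- the centralizer of `V`
  have hXeq : NV ⊓ Subgroup.centralizer ({v} : Set G) = S.CV := by
    rw [← S.CV_eq_cent hVz]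
    exact inf_eq_right.2 S.CV_le_normalizer
  obtain ⟨hYd, hYlt, hYle, ρ, hρY, hρJ, hρt⟩ := S.Y_facts hb hv hv1
  rw [ha] at hYd hYlt hYle
  have h20 : 20 ∣ Nat.card S.CV := hYd.trans (Subgroup.card_dvd_of_le inf_le_left)
  have horb := card_eq_orbit_mul NV v
  rw [hXeq, hNVc] at horb
  set O := (fun y : G => y * v * y⁻¹) '' (NV : Set G) with hO
  have hOle : O.ncard ≤ 4 := by
    refine (Set.ncard_le_ncard (t := (S.V : Set G) \ {1}) ?_ (Set.toFinite _)).trans ?_
    · rintro _ ⟨y, hy, rfl⟩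
      exact ⟨(Subgroup.mem_normalizer_iff.1 hy _).1 hv, fun e => hv1 (conj_eq_one_iff.1 e)⟩
    · rw [Set.ncard_sdiff_singleton_of_mem S.V.one_mem, ← Nat.card_coe_set_eq]
      simp only [SetLike.coe_sort_coe, hV]
      norm_num
  have hOge : 2 ≤ O.ncard := by
    refine Nat.succ_le_of_lt ((Set.one_lt_ncard (Set.toFinite _)).2 ⟨v, ⟨1, one_mem _, by group⟩, v⁻¹,
      ⟨σ, S.cent_J_le_normalizer (mem_cent_iff.2 S.commute_J_sigma), S.sigma_conj hv⟩, ?_⟩)
    exact fun e => hv1 (S.eq_one_of_inv_self hv e.symm)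
  have hX : Nat.card S.CV = 180 := by
    have hk : O.ncard = 2 ∨ O.ncard = 3 ∨ O.ncard = 4 := by omega
    rcases hk with e | e | e <;> rw [e] at horb
    · omega
    · exfalso
      haveI : (S.CV.subgroupOf NV).Normal := by
        refine Subgroup.normal_subgroupOf_of_le_normalizer fun c hc => mem_normalizer_of_maps
          fun x hx => S.mem_CV.2 fun w hw => ?_
        have hw' : c⁻¹ * w * c ∈ S.V := by
          have := (Subgroup.mem_normalizer_iff.1 (inv_mem hc) w).1 hw
          rwa [inv_inv] at this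
        have h := (conj_commute_iff c _ _).2 (S.mem_CV.1 hx _ hw')
        rwa [show c * (c⁻¹ * w * c) * c⁻¹ = w by group] at h
      have hi : (S.CV.subgroupOf NV).index = 3 := by
        have h := (S.CV.subgroupOf NV).card_mul_index
        rw [Nat.card_congr (Subgroup.subgroupOfEquivOfLe S.CV_le_normalizer).toEquiv, hNVc] at h
        have : Nat.card S.CV = 120 := by omega
        rw [this] at h
        omega
      let sN : NV := ⟨σ, S.cent_J_le_normalizer (mem_cent_iff.2 S.commute_J_sigma)⟩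
      have h3 : sN ^ (S.CV.subgroupOf NV).index ∈ S.CV.subgroupOf NV :=
        Subgroup.pow_index_mem _ sN
      rw [hi, Subgroup.mem_subgroupOf] at h3
      have h3' : σ ^ 3 ∈ S.CV := by simpa [sN] using h3
      refine S.sigma_notin_CV hv hv1 ?_
      have h9 := pow_mem h3' 3
      rwa [← pow_mul, S.pow_mod_four (3 * 3), show 3 * 3 % 4 = 1 by norm_num, pow_one] at h9
    · omega
  have hY : Nat.card S.Y = 60 := by
    obtain ⟨m, hm⟩ := hYd
    have h := hX ▸ Subgroup.card_dvd_of_le S.Y_le_CV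
    rw [hm] at hYlt hYle h ⊢
    have : m = 2 ∨ m = 3 := by omega
    rcases this with rfl | rfl
    · norm_num at h
    · norm_num
  -- a subgroup of index three
  set Y' := S.Y.subgroupOf S.CV with hY'
  have hY'c : Nat.card Y' = 60 := by
    rw [hY', Nat.card_congr (Subgroup.subgroupOfEquivOfLe S.Y_le_CV).toEquiv, hY]
  have hi : Y'.index = 3 := by
    have h := Y'.card_mul_index
    rw [hY'c, hX] at h
    omega
  set K := Y'.normalCore with hK
  have hKc : 30 ∣ Nat.card K := by
    have h1 : Nat.card (S.CV ⧸ K) ∣ 6 := by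
      rw [hK, Subgroup.normalCore_eq_ker,
        Nat.card_congr (QuotientGroup.quotientKerEquivRange _).toEquiv]
      refine (Subgroup.card_subgroup_dvd_card _).trans ?_
      rw [Nat.card_perm, ← Subgroup.index_eq_card, hi]
      rfl
    have h2 := K.card_eq_card_quotient_mul_card_subgroup
    obtain ⟨c, hc⟩ := h1
    refine ⟨c, ?_⟩
    rw [hX] at h2
    nlinarith [h2, hc]
  have hKY : ∀ x : S.CV, x ∈ K → (x : G) ∈ S.Y := fun x hx => Y'.normalCore_le hx
  have hfour : ∀ x ∈ S.Y, x * x = 1 → x ∈ S.four := fun x hx hx2 => by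
    refine mem_of_sq S.Y_le_normalizer ?_ hx hx2
    have hle : S.four ≤ S.Y := le_inf (S.four_le_CV hb) Subgroup.le_normalizer
    have h := Subgroup.card_mul_index (S.four.subgroupOf S.Y)
    rw [Nat.card_congr (Subgroup.subgroupOfEquivOfLe hle).toEquiv, S.card_four, hY] at h
    have e : S.four.relIndex S.Y = 15 := by rw [Subgroup.relIndex]; omega
    rw [e]; decide
  obtain ⟨z, hz⟩ := exists_prime_orderOf_dvd_card' 2 ((show 2 ∣ 30 by norm_num).trans hKc)
  rw [← Subgroup.orderOf_coe, ← Subgroup.orderOf_coe] at hz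
  have hz2 : ((z : S.CV) : G) * ((z : S.CV) : G) = 1 := by
    rw [← pow_two, ← hz, pow_orderOf_eq_one]
  have hz1 : ((z : S.CV) : G) ≠ 1 := fun e => by rw [e, orderOf_one] at hz; omega
  -- conjugation by `ρ` moves it around
  let Kg : Subgroup G := K.map S.CV.subtype
  have hKgn : ∀ x ∈ S.CV, ∀ k ∈ Kg, x * k * x⁻¹ ∈ Kg := by
    rintro x hx _ ⟨k, hk, rfl⟩
    exact ⟨_, Y'.normalCore_normal.conj_mem k hk ⟨x, hx⟩, rfl⟩
  have hzK : ((z : S.CV) : G) ∈ Kg := ⟨z, z.2, rfl⟩
  have hρX : ρ ∈ S.CV := hρY.1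
  have hρJt : ρ * (σ ^ 2 * τ) * ρ⁻¹ = τ := by
    rw [← conj_mul, hρJ, hρt, S.commute_J_tau.eq, mul_assoc, S.J_sq, mul_one]
  have hall : σ ^ 2 ∈ Kg ∧ τ ∈ Kg := by
    rcases hfour _ (hKY _ z.2) hz2 with e | e | e | e
    · exact absurd e hz1
    all_goals rw [e] at hzK
    · have h1 := hKgn ρ hρX _ hzK
      rw [hρJ] at h1
      have h2 := hKgn ρ hρX _ h1
      rw [hρJt] at h2
      exact ⟨hzK, h2⟩
    · have h1 := hKgn ρ hρX _ hzK
      rw [hρt] at h1
      exact ⟨h1, hzK⟩
    · have h1 := hKgn ρ hρX _ hzK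
      rw [hρJt] at h1
      have h2 := hKgn ρ hρX _ h1
      rw [hρt] at h2
      exact ⟨h2, h1⟩
  have hle : S.CV ≤ S.Y := fun x hx => by
    refine ⟨hx, mem_normalizer_of_maps ?_⟩
    have key : ∀ t, t ∈ Kg → t * t = 1 → x * t * x⁻¹ ∈ S.four := fun t ht ht2 => by
      obtain ⟨k, hk, e⟩ := hKgn x hx t ht
      refine hfour _ (e ▸ hKY k hk) ?_
      rw [conj_mul, ht2, mul_one, mul_inv_cancel]
    intro f hf
    rcases hf with rfl | rfl | rfl | rfl
    · rw [mul_one, mul_inv_cancel]; exact one_mem _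
    · exact key _ hall.1 S.J_sq
    · exact key _ hall.2 S.tau_sq
    · rw [← conj_mul]
      exact mul_mem (key _ hall.1 S.J_sq) (key _ hall.2 S.tau_sq)
  have := Subgroup.card_le_of_le hle
  omega

end Setup

end Cfsg.Agent.SmallCent
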