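import Cfsg.Agent.Lib.SmallCent.Basic
import Cfsg.Agent.Lib.PGroup.MaximalClassTwo
import Cfsg.Agent.Lib.PGroup.UniqueOrderP
import Cfsg.Agent.Lib.Transfer.Thompson
import Cfsg.Agent.Lib.ZStar.Main

/-!
# Simple groups with a self-centralizing element of order four
-/

set_option autoImplicit false
set_option linter.unusedSectionVars false
set_option linter.style.haveILetI false

namespace Cfsg.Agent.SmallCent

open DihedralBlock

universe u

variable {G : Type u} [Group G] [Fintype G]

theorem eq_bot_of_normal_ne_top [IsSimpleGroup G] {N : Subgroup G} (hN : N.Normal) (h : N ≠ ⊤) :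
    N = ⊥ := hN.eq_bot_or_eq_top.resolve_right h

theorem not_normal_index_two [IsSimpleGroup G] (hnc : ¬ IsMulCommutative G) {M : Subgroup G}
    (hM : M.Normal) (hi : M.index = 2) : False := by
  rcases hM.eq_bot_or_eq_top with e | e <;> rw [e] at hi
  · rw [Subgroup.index_bot] at hi
    haveI : Fact (Nat.Prime 2) := ⟨Nat.prime_two⟩
    haveI := isCyclic_of_prime_card hi
    exact hnc inferInstance
  · rw [Subgroup.index_top] at hi; omega

/-- A cyclic Sylow 2-subgroup is impossible. -/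
theorem false_of_cyclic_sylow [IsSimpleGroup G] (hnc : ¬ IsMulCommutative G) (h2 : 2 ∣ Nat.card G)
    (P : Sylow 2 G) (hP : IsCyclic (P : Subgroup G)) : False := by
  haveI : Fact (Nat.Prime 2) := ⟨Nat.prime_two⟩
  haveI := hP
  have hmin : (Nat.card G).minFac = 2 := (Nat.minFac_eq_two_iff _).2 h2
  have hKc := IsCyclic.isComplement' (P := P) hmin inferInstance
  have hnd := MonoidHom.not_dvd_card_ker_transferSylow P (hP.normalizer_le_centralizer hmin)
  set K := (MonoidHom.transferSylow P (hP.normalizer_le_centralizer hmin)).ker with hK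
  rcases (show K.Normal from inferInstance).eq_bot_or_eq_top with e | e
  · have htop : (P : Subgroup G) = ⊤ := by
      refine Subgroup.eq_top_of_card_eq _ ?_
      have h := hKc.card_mul
      rw [e, Subgroup.card_bot, one_mul] at h
      exact h
    rw [htop] at hP
    haveI := hP
    haveI := isCyclic_of_surjective (Subgroup.topEquiv (G := G)).toMonoidHom
      (Subgroup.topEquiv (G := G)).surjective
    exact hnc inferInstance
  · rw [e, Subgroup.card_top] at hnd
    exact hnd h2

/-- Generalized quaternion Sylow 2-subgroups are impossible. -/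
theorem false_of_unique_involution [IsSimpleGroup G] (hnc : ¬ IsMulCommutative G)
    (h2 : 2 ∣ Nat.card G) (P : Sylow 2 G)
    (huniq : ∀ H K : Subgroup P, Nat.card H = 2 → Nat.card K = 2 → H = K) : False := by
  haveI : Fact (Nat.Prime 2) := ⟨Nat.prime_two⟩
  rcases PGroup.cyclic_or_quaternion_of_unique P.2 huniq with hc | ⟨-, k, hk, -, ⟨e⟩⟩
  · exact false_of_cyclic_sylow hnc h2 P hc
  · obtain ⟨j, rfl⟩ : ∃ j, k = j + 1 := ⟨k - 1, by omega⟩
    have hO : ∀ N : Subgroup G, N.Normal → Odd (Nat.card N) → N = ⊥ := fun N hN hodd => by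
      refine eq_bot_of_normal_ne_top hN fun e => ?_
      rw [e, Subgroup.card_top, ← Nat.not_even_iff_odd] at hodd
      exact hodd (even_iff_two_dvd.2 h2)
    have hc2 := ZStar.card_center_eq_two ZStar.zStarThm P j e hO
    rcases (inferInstance : (Subgroup.center G).Normal).eq_bot_or_eq_top with h | h
    · rw [h, Subgroup.card_bot] at hc2; omega
    · exact hnc ⟨⟨fun a b => Subgroup.mem_center_iff.1 (h ▸ Subgroup.mem_top b) a⟩⟩

omit [Fintype G] in
theorem pow_inv_of_inverted {a b : G} (h : b * a * b⁻¹ = a⁻¹) (i : ℤ) :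
    b * a ^ i * b⁻¹ = (a ^ i)⁻¹ := by
  rw [← conj_zpow, h, inv_zpow]

/-- Semidihedral Sylow 2-subgroups are impossible. -/
theorem false_of_semidihedral [IsSimpleGroup G] (hnc : ¬ IsMulCommutative G) (P : Sylow 2 G)
    {m : ℕ} (hm : 3 ≤ m) {a b w : G} (ha : a ∈ (P : Subgroup G)) (hb : b ∈ (P : Subgroup G))
    (hwP : w ∈ (P : Subgroup G)) (hao : orderOf a = 2 ^ m) (hb2 : b * b = 1)
    (hba : b * a * b⁻¹ = a ^ (2 ^ (m - 1) - 1)) (hbn : b ∉ Subgroup.zpowers a)
    (hform : ∀ g ∈ (P : Subgroup G), ∃ i : ℤ, g = a ^ i ∨ g = b * a ^ i)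
    (hw : orderOf w = 4) (hC : ∀ g, Commute w g → g ∈ Subgroup.zpowers w) : False := by
  haveI : Fact (Nat.Prime 2) := ⟨Nat.prime_two⟩
  set r : ℕ := 2 ^ (m - 1) - 1 with hr
  have hbi : b⁻¹ = b := inv_eq_of_mul_eq_one_right hb2
  have hconj : ∀ i : ℤ, b * a ^ i * b = a ^ ((r : ℤ) * i) := fun i => by
    rw [zpow_mul, zpow_natCast, ← hba, conj_zpow, hbi]
  have hr1 : (r : ℤ) + 1 = 2 ^ (m - 1) := by
    rw [hr, Nat.cast_sub Nat.one_le_two_pow]; push_cast; ring
  have hpow2 : (2 : ℤ) ^ m = 2 * 2 ^ (m - 1) := by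
    rw [← pow_succ']; congr 1; omega
  have h2pos : (2 : ℤ) ∣ 2 ^ (m - 1) := dvd_pow_self 2 (by omega)
  have hpar : ∀ i j : ℤ, a ^ i = a ^ j → i % 2 = j % 2 := fun i j h => by
    rw [PGroup.zpow_eq_zpow_iff_dvd, hao] at h
    push_cast at h
    rw [hpow2] at h
    obtain ⟨c, hc⟩ := h
    have : i - j = 2 * (2 ^ (m - 1) * c) := by linarith
    omega
  have hsq : ∀ i : ℤ, b * a ^ i * (b * a ^ i) = a ^ ((2 : ℤ) ^ (m - 1) * i) := fun i => by
    rw [← mul_assoc, hconj, ← zpow_add, show (r : ℤ) * i + i = ((r : ℤ) + 1) * i by ring, hr1]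
  have hsq1 : ∀ i : ℤ, i % 2 = 0 → b * a ^ i * (b * a ^ i) = 1 := fun i hi => by
    rw [hsq, ← orderOf_dvd_iff_zpow_eq_one, hao]
    push_cast
    rw [hpow2, mul_comm (2 : ℤ)]
    exact mul_dvd_mul_left _ (Int.dvd_of_emod_eq_zero hi)
  have hne : ∀ i j : ℤ, a ^ i ≠ b * a ^ j := fun i j h => hbn
    (Subgroup.mem_zpowers_iff.2 ⟨i - j, by rw [zpow_sub, h, mul_inv_cancel_right]⟩)
  -- the dihedral subgroup of index two
  let Q : Subgroup G :=
    { carrier := {g | ∃ i : ℤ, i % 2 = 0 ∧ (g = a ^ i ∨ g = b * a ^ i)}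
      one_mem' := ⟨0, rfl, Or.inl (zpow_zero a).symm⟩
      mul_mem' := by
        have hrodd : ∀ i : ℤ, i % 2 = 0 → ((r : ℤ) * i) % 2 = 0 := fun i hi => by
          rw [Int.mul_emod, hi, mul_zero, Int.zero_emod]
        rintro g h ⟨i, hi, rfl | rfl⟩ ⟨j, hj, rfl | rfl⟩
        · exact ⟨i + j, by omega, Or.inl (zpow_add a i j).symm⟩
        · refine ⟨(r : ℤ) * i + j, by have := hrodd i hi; omega, Or.inr ?_⟩
          rw [zpow_add, ← hconj]
          calc a ^ i * (b * a ^ j) = (b * b) * a ^ i * b * a ^ j := by rw [hb2]; group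
            _ = _ := by group
        · exact ⟨i + j, by omega, Or.inr (by rw [zpow_add, mul_assoc])⟩
        · refine ⟨(r : ℤ) * i + j, by have := hrodd i hi; omega, Or.inl ?_⟩
          rw [zpow_add, ← hconj]; group
      inv_mem' := by
        rintro g ⟨i, hi, rfl | rfl⟩
        · exact ⟨-i, by omega, Or.inl (zpow_neg a i).symm⟩
        · refine ⟨i, hi, Or.inr ?_⟩
          exact inv_eq_of_mul_eq_one_right (hsq1 i hi) }
  have hQmem : ∀ g, g ∈ Q ↔ ∃ i : ℤ, i % 2 = 0 ∧ (g = a ^ i ∨ g = b * a ^ i) := fun g => Iff.rfl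
  have hQP : Q ≤ (P : Subgroup G) := by
    rintro g ⟨i, -, rfl | rfl⟩
    exacts [zpow_mem ha i, mul_mem hb (zpow_mem ha i)]
  have hQi : Q.relIndex (P : Subgroup G) = 2 := by
    refine Subgroup.relIndex_eq_two_iff.2 ⟨a, ha, fun g hg => ?_⟩
    obtain ⟨i, hi⟩ := hform g hg
    rcases Int.emod_two_eq_zero_or_one i with e | e
    · refine Or.inr ⟨(hQmem g).2 ⟨i, e, hi⟩, ?_⟩
      rintro ⟨j, hj, h | h⟩ <;> rcases hi with rfl | rfl
      · have := hpar (i + 1) j (by rw [zpow_add_one]; exact h); omega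
      · exact hne j (i + 1) (by rw [← h, zpow_add_one, mul_assoc])
      · exact hne (i + 1) j (by rw [← h, zpow_add_one])
      · have := hpar (i + 1) j (by rw [zpow_add_one]; exact mul_left_cancel (by rw [← mul_assoc, h]))
        omega
    · refine Or.inl ⟨(hQmem _).2 ⟨i + 1, by omega, hi.imp ?_ ?_⟩, ?_⟩
      · intro h; rw [h, zpow_add_one]
      · intro h; rw [h, zpow_add_one, mul_assoc]
      rintro ⟨j, hj, h | h⟩ <;> rcases hi with rfl | rfl
      · have := hpar i j h; omega
      · exact hne j i h.symm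
      · exact hne i j h
      · have := hpar i j (mul_left_cancel h); omega
  have hC' : ∀ x : G, IsConj w x → ∀ g, Commute x g → orderOf g ∣ 4 := by
    intro x hx g hg
    obtain ⟨c, rfl⟩ := isConj_iff.1 hx
    have h := (Commute.conj_iff c⁻¹).2 hg
    rw [inv_inv, show c⁻¹ * (c * w * c⁻¹) * c = w by group] at h
    have h1 := Subgroup.orderOf_dvd_natCard _ (hC _ h)
    rw [Nat.card_zpowers, hw] at h1
    have e : orderOf (c⁻¹ * g * c) = orderOf g := by
      have := MulEquiv.orderOf_eq (MulAut.conj c⁻¹) g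
      simpa using this
    rwa [e] at h1
  have hnot4 : ¬ orderOf a ∣ 4 := by
    rw [hao, show (4 : ℕ) = 2 ^ 2 by norm_num, Nat.pow_dvd_pow_iff_le_right (by norm_num)]
    omega
  have hw2 : ∀ x : G, IsConj w x → x * x ≠ 1 := by
    intro x hx h
    obtain ⟨c, rfl⟩ := isConj_iff.1 hx
    rw [conj_mul, conj_eq_one_iff, ← pow_two] at h
    have := orderOf_dvd_of_pow_eq_one h
    rw [hw] at this
    norm_num at this
  have hwQ : w ∉ Q := by
    rintro ⟨i, hi, rfl | rfl⟩
    · exact hnot4 (hC' _ (IsConj.refl _) a ((Commute.refl a).zpow_left i))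
    · exact hw2 _ (IsConj.refl _) (hsq1 i hi)
  have hconjQ : ∀ g : G, g⁻¹ * w * g ∉ Q := by
    intro g hg
    have hx : IsConj w (g⁻¹ * w * g) := isConj_iff.2 ⟨g⁻¹, by group⟩
    obtain ⟨i, hi, h | h⟩ := hg
    · exact hnot4 (hC' _ hx a (h ▸ (Commute.refl a).zpow_left i))
    · exact hw2 _ hx (h ▸ hsq1 i hi)
  have hpow : ∀ (g : G) (k : ℕ), 0 < k → g⁻¹ * w ^ 2 ^ k * g ∈ (P : Subgroup G) →
      g⁻¹ * w ^ 2 ^ k * g ∈ Q := by
    intro g k hk hP
    set t := g⁻¹ * w ^ 2 ^ k * g with ht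
    have ht2 : t * t = 1 := by
      have h1 : w ^ 2 ^ k * w ^ 2 ^ k = 1 := by
        rw [← pow_add, ← two_mul, ← pow_succ', ← orderOf_dvd_iff_pow_eq_one, hw,
          show (4 : ℕ) = 2 ^ 2 by norm_num]
        exact Nat.pow_dvd_pow 2 (by omega)
      rw [ht]
      calc g⁻¹ * w ^ 2 ^ k * g * (g⁻¹ * w ^ 2 ^ k * g) = g⁻¹ * (w ^ 2 ^ k * w ^ 2 ^ k) * g := by group
        _ = 1 := by rw [h1]; group
    obtain ⟨i, hi | hi⟩ := hform t hP
    · refine (hQmem t).2 ⟨i, ?_, Or.inl hi⟩
      rw [hi, ← zpow_add] at ht2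
      have h := orderOf_dvd_iff_zpow_eq_one.2 ht2
      rw [hao] at h
      push_cast at h
      rw [hpow2] at h
      have h' : (2 : ℤ) ^ (m - 1) ∣ i :=
        (mul_dvd_mul_iff_left (two_ne_zero (α := ℤ))).1 (by rw [two_mul i]; exact h)
      have := h2pos.trans h'
      omega
    · refine (hQmem t).2 ⟨i, ?_, Or.inr hi⟩
      rw [hi, hsq] at ht2
      have h := orderOf_dvd_iff_zpow_eq_one.2 ht2
      rw [hao] at h
      push_cast at h
      rw [hpow2, mul_comm (2 : ℤ)] at h
      have := Int.dvd_of_mul_dvd_mul_left (by positivity) h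
      omega
  obtain ⟨M, hM, hMi, -⟩ := Transfer.exists_index_two_of_conj P Q hQP hQi w hwP hwQ hconjQ hpow
  exact not_normal_index_two hnc hM hMi

/-- A self-centralizing element of order four in a simple group yields the standard situation. -/
theorem exists_setup [IsSimpleGroup G] (hnc : ¬ IsMulCommutative G) {w : G} (hw : orderOf w = 4)
    (hC : ∀ g, Commute w g → g ∈ Subgroup.zpowers w) : ∃ σ τ : G, Nonempty (Setup σ τ) := by
  classical
  haveI : Fact (Nat.Prime 2) := ⟨Nat.prime_two⟩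
  have h2 : 2 ∣ Nat.card G :=
    (show 2 ∣ orderOf w by rw [hw]; norm_num).trans (orderOf_dvd_natCard w)
  obtain ⟨P, hP⟩ := (IsPGroup.of_card (n := 2) (by rw [Nat.card_zpowers, hw]; norm_num) :
    IsPGroup 2 (Subgroup.zpowers w)).exists_le_sylow
  have hwP : w ∈ (P : Subgroup G) := hP (Subgroup.mem_zpowers w)
  obtain ⟨n, hn⟩ := IsPGroup.iff_card.1 P.2
  have h4 : 4 ≤ Nat.card P := by
    have := Subgroup.card_le_of_le hP
    rwa [Nat.card_zpowers, hw] at this
  set wP : (P : Subgroup G) := ⟨w, hwP⟩ with hwP'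
  have hwPo : orderOf wP = 4 := by rw [← Subgroup.orderOf_coe]; exact hw
  have hcentP : Subgroup.centralizer ({wP} : Set (P : Subgroup G)) = Subgroup.zpowers wP := by
    refine le_antisymm (fun g hg => ?_)
      (Subgroup.zpowers_le.2 (Subgroup.mem_centralizer_singleton_iff.2 rfl))
    have hc : Commute w (g : G) :=
      (congrArg Subtype.val (Subgroup.mem_centralizer_singleton_iff.1 hg)).symm
    obtain ⟨k, hk⟩ := Subgroup.mem_zpowers_iff.1 (hC _ hc)
    exact Subgroup.mem_zpowers_iff.2 ⟨k, Subtype.ext (by push_cast; exact hk)⟩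
  by_cases hn2 : n ≤ 2
  · exfalso
    refine false_of_cyclic_sylow hnc h2 P ?_
    have : Subgroup.zpowers w = (P : Subgroup G) := Subgroup.eq_of_le_of_card_ge hP (by
      rw [Nat.card_zpowers, hw, hn]
      calc 2 ^ n ≤ 2 ^ 2 := Nat.pow_le_pow_right (by norm_num) hn2
        _ = 4 := by norm_num)
    rw [← this]
    exact Subgroup.isCyclic_zpowers w
  obtain ⟨m, rfl⟩ : ∃ m, n = m + 1 := ⟨n - 1, by omega⟩
  have hcc : Nat.card (Subgroup.centralizer ({wP} : Set (P : Subgroup G))) = 4 := by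
    rw [hcentP, Nat.card_zpowers, hwPo]
  have hna : ¬ IsMulCommutative (P : Subgroup G) := by
    intro h
    have htop : Subgroup.centralizer ({wP} : Set (P : Subgroup G)) = ⊤ :=
      eq_top_iff.2 fun g _ => Subgroup.mem_centralizer_singleton_iff.2 (h.is_comm.comm _ _)
    rw [htop, Subgroup.card_top, hn] at hcc
    have : 2 ^ 3 ≤ 2 ^ (m + 1) := Nat.pow_le_pow_right (by norm_num) (by omega)
    omega
  have hidx := PGroup.index_commutator_eq_four_of_centralizer hn hna wP hcc
  obtain ⟨A, B, hA, hB, hgen, hrel⟩ := PGroup.two_group_commutator_index_four (by omega) hn hidx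
  have hform : ∀ g ∈ (P : Subgroup G), ∃ i : ℤ, g = (A : G) ^ i ∨ g = (B : G) * (A : G) ^ i := by
    intro g hg
    obtain ⟨i, h | h⟩ := PGroup.two_group_elements hn hA hB ⟨g, hg⟩
    · exact ⟨i, Or.inl (by simpa using congrArg Subtype.val h)⟩
    · exact ⟨i, Or.inr (by simpa using congrArg Subtype.val h)⟩
  have hAo : orderOf (A : G) = 2 ^ m := by rw [Subgroup.orderOf_coe]; exact hA
  have hBn : (B : G) ∉ Subgroup.zpowers (A : G) := by
    intro h
    obtain ⟨k, hk⟩ := Subgroup.mem_zpowers_iff.1 h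
    exact hB (Subgroup.mem_zpowers_iff.2 ⟨k, Subtype.ext (by push_cast; exact hk)⟩)
  rcases hrel with ⟨hb2, hba⟩ | ⟨hb2, hba⟩ | ⟨hm3, hb2, hba⟩
  · -- dihedral
    have hb2' : (B : G) * B = 1 := by
      rw [← pow_two]; simpa using congrArg Subtype.val hb2
    have hba' : (B : G) * A * (B : G)⁻¹ = (A : G)⁻¹ := by
      simpa using congrArg Subtype.val hba
    have hout : ∀ i : ℤ, (B : G) * (A : G) ^ i * ((B : G) * (A : G) ^ i) = 1 := fun i => by
      have h := pow_inv_of_inverted hba' i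
      rw [inv_eq_of_mul_eq_one_right hb2'] at h
      rw [← mul_assoc, h, inv_mul_cancel]
    obtain ⟨i, hi | hi⟩ := hform w hwP
    swap
    · exfalso
      have := hout i
      rw [← hi, ← pow_two] at this
      have := orderOf_dvd_of_pow_eq_one this
      rw [hw] at this
      norm_num at this
    have hAC : (A : G) ∈ Subgroup.zpowers w := hC _ (hi ▸ (Commute.refl (A : G)).zpow_left i)
    have hm2 : m = 2 := by
      have h := Subgroup.orderOf_dvd_natCard _ hAC
      rw [Nat.card_zpowers, hw, hAo, show (4 : ℕ) = 2 ^ 2 by norm_num,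
        Nat.pow_dvd_pow_iff_le_right (by norm_num)] at h
      omega
    subst hm2
    have hinv : (B : G) * w * (B : G)⁻¹ = w⁻¹ := by rw [hi]; exact pow_inv_of_inverted hba' i
    have hBo : orderOf (B : G) = 2 := orderOf_eq_prime (by rw [pow_two]; exact hb2') (fun h => by
      refine hBn ?_; rw [h]; exact one_mem _)
    have hgenP : Subgroup.closure ({w, (B : G)} : Set G) = (P : Subgroup G) := by
      refine le_antisymm ((Subgroup.closure_le _).2 ?_) fun g hg => ?_
      · rintro x (rfl | rfl)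
        exacts [hwP, B.2]
      · have hA' : ∀ j : ℤ, (A : G) ^ j ∈ Subgroup.closure ({w, (B : G)} : Set G) := fun j => by
          obtain ⟨k, hk⟩ := Subgroup.mem_zpowers_iff.1 hAC
          rw [← hk, ← zpow_mul]
          exact zpow_mem (Subgroup.subset_closure (Set.mem_insert _ _)) _
        obtain ⟨j, rfl | rfl⟩ := hform g hg
        · exact hA' j
        · exact mul_mem (Subgroup.subset_closure (Set.mem_insert_of_mem _ rfl)) (hA' j)
    -- fusion
    have hZi : (Subgroup.zpowers w).relIndex (P : Subgroup G) = 2 := by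
      have h := Subgroup.card_mul_index ((Subgroup.zpowers w).subgroupOf (P : Subgroup G))
      rw [Nat.card_congr (Subgroup.subgroupOfEquivOfLe hP).toEquiv, Nat.card_zpowers, hw, hn] at h
      rw [Subgroup.relIndex]; norm_num at h; omega
    have hfuse : ∀ t : G, t ∈ (P : Subgroup G) → t * t = 1 → t ∉ Subgroup.zpowers w →
        IsConj (w ^ 2) t := by
      intro t htP ht2 htn
      by_contra hnot
      have hconj : ∀ g : G, g * t * g⁻¹ ∉ Subgroup.zpowers w := fun g hg => by
        rw [mem_zpowers_iff_mem_range_orderOf, hw] at hg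
        simp only [Finset.mem_image, Finset.mem_range] at hg
        obtain ⟨k, hk, e⟩ := hg
        have h2' : g * t * g⁻¹ * (g * t * g⁻¹) = 1 := by rw [conj_mul, ht2, mul_one, mul_inv_cancel]
        rw [← e, ← pow_add] at h2'
        have hd := orderOf_dvd_of_pow_eq_one h2'
        rw [hw] at hd
        have : k = 0 ∨ k = 2 := by omega
        rcases this with rfl | rfl
        · rw [pow_zero] at e
          rw [conj_eq_one_iff.1 e.symm] at htn
          exact htn (one_mem _)
        · exact hnot (IsConj.symm (isConj_iff.2 ⟨g, e.symm⟩))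
      obtain ⟨M, hM, hMi, -⟩ := Transfer.exists_index_two_of_involution P (Subgroup.zpowers w) hP hZi
        t (by rw [pow_two]; exact ht2) htP htn hconj
      exact not_normal_index_two hnc hM hMi
    have hBw : (B : G) ∉ Subgroup.zpowers w := by
      intro h
      refine hBn ?_
      have hle : Subgroup.zpowers w ≤ Subgroup.zpowers (A : G) :=
        Subgroup.zpowers_le.2 (Subgroup.mem_zpowers_iff.2 ⟨i, hi.symm⟩)
      exact hle h
    have hwB : w * (B : G) ∉ Subgroup.zpowers w := fun h =>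
      hBw ((Subgroup.mul_mem_cancel_left _ (Subgroup.mem_zpowers w)).1 h)
    have hwB2 : w * (B : G) * (w * (B : G)) = 1 := by
      rw [mul_assoc, ← mul_assoc (B : G), show (B : G) * w * B = w⁻¹ by
        rw [← hinv, inv_eq_of_mul_eq_one_right hb2'], mul_inv_cancel]
    obtain ⟨d, hd⟩ : ∃ d : Data w (B : G) 2,
        ∀ x ∈ (P : Subgroup G), ∃ i : ℕ, x = w ^ i ∨ x = w ^ i * (B : G) :=
      exists_data (n := 3) le_rfl P hwP B.2 hw hBo hinv hgenP
        ⟨hfuse _ B.2 hb2' hBw, hfuse _ (mul_mem hwP B.2) hwB2 hwB⟩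
    exact ⟨w, B, ⟨{ d := d, P := P, hσ := hwP, hτ := B.2, hform := hd, cent := hC }⟩⟩
  · -- quaternion
    exfalso
    refine false_of_unique_involution hnc h2 P ?_
    set z := A ^ 2 ^ (m - 1) with hz
    have hinv : ∀ i : ℤ, B⁻¹ * A ^ i * B = (A ^ i)⁻¹ := fun i => by
      calc B⁻¹ * A ^ i * B = B⁻¹ * ((A ^ i)⁻¹)⁻¹ * B := by rw [inv_inv]
        _ = B⁻¹ * (B * (A ^ i)⁻¹ * B⁻¹) * B := by
            rw [← zpow_neg, pow_inv_of_inverted hba (-i)]
        _ = _ := by group
    have huni : ∀ g : (P : Subgroup G), g ^ 2 = 1 → g ≠ 1 → g = z := by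
      intro g hg2 hg1
      obtain ⟨i, rfl | rfl⟩ := PGroup.two_group_elements hn hA hB g
      · rw [← zpow_natCast, ← zpow_mul, ← orderOf_dvd_iff_zpow_eq_one, hA] at hg2
        push_cast at hg2
        have hd : (2 : ℤ) ^ (m - 1) ∣ i := by
          refine Int.dvd_of_mul_dvd_mul_right two_ne_zero ?_
          rwa [← pow_succ, show m - 1 + 1 = m by omega]
        obtain ⟨c, rfl⟩ := hd
        have hz2 : z ^ (2 : ℤ) = 1 := by
          rw [hz, ← zpow_natCast, ← zpow_mul, ← orderOf_dvd_iff_zpow_eq_one, hA]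
          push_cast
          rw [← pow_succ, show m - 1 + 1 = m by omega]
        have e : A ^ ((2 : ℤ) ^ (m - 1) * c) = z ^ c := by
          rw [hz, ← zpow_natCast, ← zpow_mul]; push_cast; rfl
        rw [e] at hg1 ⊢
        rcases Int.even_or_odd c with ⟨k, rfl⟩ | ⟨k, rfl⟩
        · exact absurd (by rw [← two_mul, zpow_mul, hz2, one_zpow]) hg1
        · rw [zpow_add, zpow_mul, hz2, one_zpow, one_mul, zpow_one]
      · exfalso
        rw [pow_two] at hg2
        have hg' : B ^ 2 * (B⁻¹ * A ^ i * B) * A ^ i = 1 := by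
          calc B ^ 2 * (B⁻¹ * A ^ i * B) * A ^ i = B * A ^ i * (B * A ^ i) := by group
            _ = 1 := hg2
        rw [hinv, mul_assoc, inv_mul_cancel, mul_one, hb2] at hg'
        have h := orderOf_dvd_of_pow_eq_one hg'
        rw [hA, Nat.pow_dvd_pow_iff_le_right (by norm_num)] at h
        omega
    intro H K hH hK
    have key : ∀ L : Subgroup (P : Subgroup G), Nat.card L = 2 → L = Subgroup.zpowers z := by
      intro L hL
      obtain ⟨⟨x, hx⟩, hx'⟩ := exists_prime_orderOf_dvd_card' (G := L) 2 (dvd_of_eq hL.symm)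
      rw [← Subgroup.orderOf_coe] at hx'
      have e : x = z := huni x (orderOf_dvd_iff_pow_eq_one.1 (dvd_of_eq hx')) (fun e => by
        simp only [e, orderOf_one] at hx'; omega)
      refine (Subgroup.eq_of_le_of_card_ge (Subgroup.zpowers_le.2 (e ▸ hx)) ?_).symm
      rw [hL, Nat.card_zpowers, ← e, hx']
    rw [key H hH, key K hK]
  · -- semidihedral
    exfalso
    refine false_of_semidihedral hnc P hm3 A.2 B.2 hwP hAo ?_ ?_ hBn hform hw hC
    · rw [← pow_two]; simpa using congrArg Subtype.val hb2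
    · simpa using congrArg Subtype.val hba

end Cfsg.Agent.SmallCent
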