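import Cfsg.Agent.Lib.SmallCent.SevenIso
import Cfsg.Agent.Lib.SmallCent.Reduction
import Cfsg.Agent.Lib.BSW.FourCent
import Cfsg.Agent.Lib.SelfCentThree.Simple
import Cfsg.Agent.Lib.SmallSimple.Order360

/-!
# Simple groups with an element whose centralizer has order at most four
-/

set_option autoImplicit false
set_option linter.unusedSectionVars false
set_option linter.style.haveILetI false

namespace Cfsg.Agent.SmallCent

universe u

variable {G : Type u} [Group G]

/-- The possible conclusions. -/
theorem card_or_iso [Fintype G] [IsSimpleGroup G] {σ τ : G} (hnc : ¬ IsMulCommutative G)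
    (S : Setup σ τ) :
    Nat.card G = 168 ∨ Nat.card G = 360 ∨ Nonempty (G ≃* alternatingGroup (Fin 7)) := by
  have key : ∀ {t : G} (S : Setup σ t), S.b = 1 →
      Nat.card G = 168 ∨ Nat.card G = 360 ∨ Nonempty (G ≃* alternatingGroup (Fin 7)) := by
    intro t S hb
    rcases S.orders hb with ⟨-, h | h⟩ | ⟨ha, h⟩ | ⟨ha, h⟩
    · exact Or.inl h
    · exact Or.inr (Or.inl h)
    · exact Or.inr (Or.inr (S.iso_alternating_seven hnc hb ha h))
    · exact (S.not_order_7560 hb ha h).elim
  rcases S.a_or_b_one with h | h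
  · exact key S.shift (by rw [S.shift_b]; exact h)
  · exact key S h

/-- A simple group with an element with centralizer of order at most four. -/
theorem cases_small [Finite G] [IsSimpleGroup G] (hnc : ¬ IsMulCommutative G) (w : G)
    (hw : Nat.card (Subgroup.centralizer ({w} : Set G)) ≤ 4) :
    Nonempty (G ≃* alternatingGroup (Fin 5)) ∨ Nat.card G = 168 ∨ Nat.card G = 360 ∨
      Nonempty (G ≃* alternatingGroup (Fin 7)) := by
  classical
  haveI := Fintype.ofFinite G
  haveI : Fact (Nat.Prime 2) := ⟨Nat.prime_two⟩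
  set C := Subgroup.centralizer ({w} : Set G) with hC
  have hwC : w ∈ C := Subgroup.mem_centralizer_singleton_iff.2 rfl
  have hmemC : ∀ {g : G}, Commute w g → g ∈ C := fun h =>
    Subgroup.mem_centralizer_singleton_iff.2 h.symm
  have hbig : 5 ≤ Nat.card G := by
    by_contra h
    have h' : Nat.card G = 1 ∨ Nat.card G = 2 ∨ Nat.card G = 3 ∨ Nat.card G = 4 := by
      have := Nat.card_pos (α := G); omega
    rcases h' with e | e | e | e
    · have := (Nat.card_eq_one_iff_unique.1 e).1
      exact hnc ⟨⟨fun a b => Subsingleton.elim _ _⟩⟩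
    · haveI := isCyclic_of_prime_card e; exact hnc inferInstance
    · haveI : Fact (Nat.Prime 3) := ⟨Nat.prime_three⟩
      haveI := isCyclic_of_prime_card e; exact hnc inferInstance
    · exact hnc (IsPGroup.isMulCommutative_of_card_eq_prime_sq (p := 2) (by rw [e]; norm_num))
  have hw1 : w ≠ 1 := by
    intro e
    have : C = ⊤ := eq_top_iff.2 fun g _ => hmemC (e ▸ Commute.one_left g)
    rw [this, Subgroup.card_top] at hw
    omega
  have hdvd : orderOf w ∣ Nat.card C := Subgroup.orderOf_dvd_natCard _ hwC
  have hCeq : orderOf w = Nat.card C → C = Subgroup.zpowers w := fun h =>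
    (Subgroup.eq_of_le_of_card_ge (Subgroup.zpowers_le.2 hwC) (by rw [Nat.card_zpowers, h])).symm
  have hfour : ∀ c : G, orderOf c = 4 → (∀ g, Commute c g → g ∈ Subgroup.zpowers c) →
      Nonempty (G ≃* alternatingGroup (Fin 5)) ∨ Nat.card G = 168 ∨ Nat.card G = 360 ∨
        Nonempty (G ≃* alternatingGroup (Fin 7)) := fun c hc hcc => by
    obtain ⟨σ, τ, ⟨S⟩⟩ := exists_setup hnc hc hcc
    exact Or.inr (card_or_iso hnc S)
  have hpos := orderOf_pos w
  have ho1 : orderOf w ≠ 1 := fun e => hw1 (orderOf_eq_one_iff.1 e)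
  have hle := Nat.le_of_dvd Nat.card_pos hdvd
  have hcases : orderOf w = 2 ∧ Nat.card C = 2 ∨ orderOf w = 3 ∧ Nat.card C = 3 ∨
      orderOf w = 2 ∧ Nat.card C = 4 ∨ orderOf w = 4 ∧ Nat.card C = 4 := by
    have h1 : orderOf w = 2 ∨ orderOf w = 3 ∨ orderOf w = 4 := by omega
    rcases h1 with e | e | e <;> rw [e] at hdvd hle <;> omega
  rcases hcases with ⟨ho, hc⟩ | ⟨ho, hc⟩ | ⟨ho, hc⟩ | ⟨ho, hc⟩
  · -- a Sylow subgroup of order two
    exfalso
    have hCz := hCeq (ho.trans hc.symm)
    obtain ⟨P, hP⟩ := (IsPGroup.of_card (n := 1) (by rw [Nat.card_zpowers, ho, pow_one]) :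
      IsPGroup 2 (Subgroup.zpowers w)).exists_le_sylow
    have hwP : w ∈ (P : Subgroup G) := hP (Subgroup.mem_zpowers w)
    haveI : Nontrivial P := ⟨⟨⟨w, hwP⟩, 1, fun h => hw1 (congrArg Subtype.val h)⟩⟩
    haveI := P.2.center_nontrivial
    obtain ⟨z, hz⟩ := exists_ne (1 : Subgroup.center P)
    have hzc : ∀ x (hx : x ∈ (P : Subgroup G)), Commute ((z : P) : G) x := fun x hx =>
      (congrArg Subtype.val (Subgroup.mem_center_iff.1 z.2 ⟨x, hx⟩)).symm
    have hzw : ((z : P) : G) = w := by
      have h : ((z : P) : G) ∈ Subgroup.zpowers w := hCz ▸ hmemC (hzc w hwP).symm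
      rw [mem_zpowers_iff_mem_range_orderOf, ho] at h
      simp only [Finset.mem_image, Finset.mem_range] at h
      obtain ⟨k, hk, e⟩ := h
      interval_cases k
      · exact absurd (Subtype.ext (Subtype.ext (e.symm.trans (pow_zero w)))) hz
      · rw [← e, pow_one]
    have hPe : (P : Subgroup G) = Subgroup.zpowers w :=
      le_antisymm (fun x hx => hCz ▸ hmemC (hzw ▸ hzc x hx)) hP
    exact false_of_cyclic_sylow hnc (ho ▸ orderOf_dvd_natCard w) P
      (hPe ▸ Subgroup.isCyclic_zpowers w)
  · -- order three
    have hCz := hCeq (ho.trans hc.symm)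
    have h : SelfCentThree.SelfThree w := ⟨ho, fun g hg => hCz ▸ hmemC hg.symm⟩
    rcases h.card_simple hnc with e | e
    · exact Or.inl (SmallSimple.iso_alternating_five hnc e)
    · exact Or.inr (Or.inl e)
  · -- an involution with centralizer of order four
    by_cases hsq : ∀ a ∈ C, a * a = 1
    · left
      let F : BSW.FourCent G := ⟨w, ho, hc, hsq⟩
      refine F.iso_alternating ?_ fun E hE hEe => ?_
      · rintro ⟨P, N, hN, hcomp⟩
        have hmul := hcomp.card_mul
        rcases hN.eq_bot_or_eq_top with e | e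
        · rw [e, Subgroup.card_bot, one_mul] at hmul
          have htop := Subgroup.eq_top_of_card_eq _ hmul
          -- `G` is a 2-group
          have hp : IsPGroup 2 G := by
            intro g
            obtain ⟨k, hk⟩ := P.2 ⟨g, htop ▸ Subgroup.mem_top g⟩
            exact ⟨k, by simpa using congrArg Subtype.val hk⟩
          haveI : Nontrivial G := ⟨⟨w, 1, hw1⟩⟩
          haveI := hp.center_nontrivial
          rcases (inferInstance : (Subgroup.center G).Normal).eq_bot_or_eq_top with h | h
          · exact (Subgroup.nontrivial_iff_ne_bot _).1 inferInstance h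
          · exact hnc ⟨⟨fun a b => Subgroup.mem_center_iff.1 (h ▸ Subgroup.mem_top b) a⟩⟩
        · rw [e, Subgroup.card_top] at hmul
          have hP1 : Nat.card (P : Subgroup G) = 1 := by
            have hG := Nat.card_pos (α := G)
            nlinarith
          have hd : 2 ∣ Nat.card G := ho ▸ orderOf_dvd_natCard w
          have hnd := P.not_dvd_index
          have := (P : Subgroup G).index_mul_card
          rw [hP1, mul_one] at this
          exact hnd (this.symm ▸ hd)
      · rcases hE.eq_bot_or_eq_top with e | e <;> rw [e]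
        · rw [Subgroup.card_bot]; omega
        · rw [Subgroup.card_top]; omega
    · push Not at hsq
      obtain ⟨c, hcC, hc2⟩ := hsq
      have hco : orderOf c = 4 := by
        have hd := Subgroup.orderOf_dvd_natCard _ hcC
        rw [hc] at hd
        have h4 := Nat.le_of_dvd (by norm_num) hd
        have hn1 : ¬ orderOf c ∣ 2 := fun h => hc2 (by
          rw [← pow_two]; exact orderOf_dvd_iff_pow_eq_one.1 h)
        have := orderOf_pos c
        interval_cases orderOf c <;> omega
      have hCc : C = Subgroup.zpowers c :=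
        (Subgroup.eq_of_le_of_card_ge (Subgroup.zpowers_le.2 hcC)
          (by rw [Nat.card_zpowers, hco, hc])).symm
      refine hfour c hco fun g hg => ?_
      rw [← hCc]
      obtain ⟨k, hk⟩ := Subgroup.mem_zpowers_iff.1 (hCc ▸ hwC)
      exact hmemC (hk ▸ hg.zpow_left k)
  · exact hfour w ho fun g hg => hCeq (ho.trans hc.symm) ▸ hmemC hg

end Cfsg.Agent.SmallCent
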