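import Cfsg.Agent.Lib.SmallCent.Basic
import Cfsg.Agent.Lib.Coprime.Generation

/-!
# Centralizers of involutions and the odd core of `C(V)`
-/

set_option autoImplicit false
set_option linter.unusedSectionVars false
set_option linter.style.haveILetI false

namespace Cfsg.Agent.SmallCent

open DihedralBlock

universe u

variable {G : Type u} [Group G] [Fintype G]

omit [Fintype G] in
theorem mem_cent_iff {g x : G} : x ∈ Subgroup.centralizer ({g} : Set G) ↔ Commute g x :=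
  Subgroup.mem_centralizer_singleton_iff.trans ⟨fun h => h.symm, fun h => h.symm⟩

/-- If `⟨t⟩` contains the 2-elements of `C_H(t)` then the elements of odd order of `H` form a
subgroup. -/
theorem exists_odd_subgroup (H : Subgroup G) {t : G} (ht : orderOf t = 2) (htH : t ∈ H)
    (hC : ∀ x ∈ H, Commute t x → (∃ k, orderOf x = 2 ^ k) → x = 1 ∨ x = t) :
    ∃ E : Subgroup G, Odd (Nat.card E) ∧ ∀ x, x ∈ E ↔ x ∈ H ∧ Odd (orderOf x) := by
  classical
  haveI : Fact (Nat.Prime 2) := ⟨Nat.prime_two⟩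
  set t' : H := ⟨t, htH⟩
  have ht' : orderOf t' = 2 := by rw [← Subgroup.orderOf_coe]; exact ht
  obtain ⟨Q, hQ⟩ := (IsPGroup.of_card (n := 1) (by rw [Nat.card_zpowers, ht', pow_one]) :
    IsPGroup 2 (Subgroup.zpowers t')).exists_le_sylow
  have htQ : t' ∈ (Q : Subgroup H) := hQ (Subgroup.mem_zpowers t')
  have h2 : ∀ x : H, x ∈ (Q : Subgroup H) → Commute t' x → x = 1 ∨ x = t' := by
    intro x hx hc
    obtain ⟨k, hk⟩ := Q.2.exists_orderOf_eq_pow ⟨x, hx⟩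
    refine (hC x x.2 (hc.map H.subtype) ⟨k, ?_⟩).imp (fun h => Subtype.ext h) fun h => Subtype.ext h
    rw [← hk, ← Subgroup.orderOf_coe ⟨x, hx⟩, Subgroup.orderOf_coe x]
  haveI : Nontrivial Q := ⟨⟨⟨t', htQ⟩, 1, fun h => by
    have : t' = 1 := congrArg Subtype.val h
    rw [this, orderOf_one] at ht'
    omega⟩⟩
  haveI := Q.2.center_nontrivial
  obtain ⟨z, hz⟩ := exists_ne (1 : Subgroup.center Q)
  have hzc : ∀ x (hx : x ∈ (Q : Subgroup H)), Commute ((z : Q) : H) x := fun x hx =>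
    (congrArg Subtype.val (Subgroup.mem_center_iff.1 z.2 ⟨x, hx⟩)).symm
  have hzt : ((z : Q) : H) = t' := (h2 _ (z : Q).2 (hzc t' htQ).symm).resolve_left
    fun h => hz (Subtype.ext (Subtype.ext h))
  have hQeq : (Q : Subgroup H) = Subgroup.zpowers t' := by
    refine le_antisymm (fun x hx => ?_) hQ
    rcases h2 x hx (hzt ▸ hzc x hx) with h | h <;> rw [h]
    exacts [one_mem _, Subgroup.mem_zpowers _]
  haveI hcyc : IsCyclic (Q : Subgroup H) := by rw [hQeq]; exact Subgroup.isCyclic_zpowers t'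
  have hmin : (Nat.card H).minFac = 2 :=
    (Nat.minFac_eq_two_iff _).2 (ht' ▸ orderOf_dvd_natCard t')
  have hKc := IsCyclic.isComplement' (P := Q) hmin inferInstance
  set K := (MonoidHom.transferSylow Q (hcyc.normalizer_le_centralizer hmin)).ker
  have hKi : K.index = 2 := by rw [hKc.symm.index_eq_card, hQeq, Nat.card_zpowers, ht']
  have hKodd : Odd (Nat.card K) := by
    rw [← Nat.not_even_iff_odd, even_iff_two_dvd]
    exact MonoidHom.not_dvd_card_ker_transferSylow Q _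
  refine ⟨K.map H.subtype, by rwa [Subgroup.card_map_of_injective H.subtype_injective],
    fun x => ⟨?_, ?_⟩⟩
  · rintro ⟨y, hy, rfl⟩
    refine ⟨y.2, ?_⟩
    rw [Subgroup.coe_subtype, Subgroup.orderOf_coe]
    exact hKodd.of_dvd_nat (Subgroup.orderOf_dvd_natCard _ hy)
  · rintro ⟨hx, ho⟩
    refine ⟨⟨x, hx⟩, ?_, rfl⟩
    have h : ∀ y : H, y * y ∈ K := Subgroup.mul_self_mem_of_index_two hKi
    obtain ⟨n, hn⟩ := ho
    have e : (⟨x, hx⟩ : H) ^ (n + 1) * (⟨x, hx⟩ : H) ^ (n + 1) = ⟨x, hx⟩ := Subtype.ext (by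
      push_cast
      rw [← pow_add, show n + 1 + (n + 1) = orderOf x + 1 by omega, pow_succ, pow_orderOf_eq_one,
        one_mul])
    rw [← e]
    exact h _

namespace Setup

variable {σ τ : G} (S : Setup σ τ)
include S

theorem commute_sigma_pow (i : ℕ) {w : G} (hw : w ∈ S.V) :
    σ ^ i * w * (σ ^ i)⁻¹ = if Even i then w else w⁻¹ := by
  induction i with
  | zero => simp
  | succ i ih =>
    rw [pow_succ', mul_inv_rev,
      show σ * σ ^ i * w * ((σ ^ i)⁻¹ * σ⁻¹) = σ * (σ ^ i * w * (σ ^ i)⁻¹) * σ⁻¹ by group, ih]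
    rcases Nat.even_or_odd i with h | h
    · rw [if_pos h, if_neg (Nat.not_even_iff_odd.2 h.add_one), S.sigma_conj hw]
    · rw [if_neg (Nat.not_even_iff_odd.2 h), if_pos h.add_one, S.sigma_conj (inv_mem hw), inv_inv]

theorem pow_even (i : ℕ) (h : Even i) : σ ^ i = 1 ∨ σ ^ i = σ ^ 2 := by
  rw [S.pow_mod_four i]
  have : i % 4 = 0 ∨ i % 4 = 2 := by obtain ⟨k, rfl⟩ := h; omega
  rcases this with e | e <;> rw [e]
  exacts [Or.inl (pow_zero σ), Or.inr rfl]

theorem eq_one_of_inv_self {w : G} (hw : w ∈ S.V) (h : w⁻¹ = w) : w = 1 :=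
  S.eq_one_of_sq hw (inv_eq_iff_mul_eq_one.1 h)

theorem fix_of_mul {c v x w : G} (h : c = v * x) (hv : v ∈ S.V) (hw : w ∈ S.V)
    (hcw : Commute c w) : x * w * x⁻¹ = w := by
  calc x * w * x⁻¹ = v⁻¹ * (c * w * c⁻¹) * v := by rw [h]; group
    _ = v⁻¹ * (w * v) := by rw [hcw.eq, mul_inv_cancel_right, mul_assoc]
    _ = w := by rw [← (S.V_comm hv hw).eq, inv_mul_cancel_left]

/-- The elements of `C(J)` centralizing a nontrivial element of `C_V(τ)`. -/
theorem cent_fixed {c w : G} (hc : Commute (σ ^ 2) c) (hw : w ∈ S.V) (hw1 : w ≠ 1)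
    (hτw : Commute τ w) (hcw : Commute c w) :
    ∃ v ∈ S.V, c = v ∨ c = v * σ ^ 2 ∨ c = v * τ ∨ c = v * (σ ^ 2 * τ) := by
  have hev : ∀ {i : ℕ}, σ ^ i * w * (σ ^ i)⁻¹ = w → Even i := fun {i} hfix => by
    by_contra hev
    rw [S.commute_sigma_pow i hw, if_neg hev] at hfix
    exact hw1 (S.eq_one_of_inv_self hw hfix)
  obtain ⟨v, hv, i, h | h⟩ := S.decomp hc
  rotate_left
  · have hfix := S.fix_of_mul h hv hw hcw
    replace hfix : σ ^ i * w * (σ ^ i)⁻¹ = w := by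
      rw [show σ ^ i * τ * w * (σ ^ i * τ)⁻¹ = σ ^ i * (τ * w * τ⁻¹) * (σ ^ i)⁻¹ by group, hτw.eq,
        mul_inv_cancel_right] at hfix
      exact hfix
    rcases S.pow_even i (hev hfix) with e | e <;> rw [e] at h
    · exact ⟨v, hv, Or.inr (Or.inr (Or.inl (by rw [h, one_mul])))⟩
    · exact ⟨v, hv, Or.inr (Or.inr (Or.inr h))⟩
  · have hfix := S.fix_of_mul h hv hw hcw
    rcases S.pow_even i (hev hfix) with e | e <;> rw [e] at h
    · exact ⟨v, hv, Or.inl (by rw [h, mul_one])⟩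
    · exact ⟨v, hv, Or.inr (Or.inl h)⟩

/-- The elements of `C(J)` centralizing also a nontrivial element inverted by `τ`. -/
theorem cent_two {c w u : G} (hc : Commute (σ ^ 2) c) (hw : w ∈ S.V) (hw1 : w ≠ 1)
    (hτw : Commute τ w) (hcw : Commute c w) (hu : u ∈ S.V) (hu1 : u ≠ 1)
    (hτu : τ * u * τ⁻¹ = u⁻¹) (hcu : Commute c u) : ∃ v ∈ S.V, c = v ∨ c = v * σ ^ 2 := by
  obtain ⟨v, hv, h | h | h | h⟩ := S.cent_fixed hc hw hw1 hτw hcw
  · exact ⟨v, hv, Or.inl h⟩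
  · exact ⟨v, hv, Or.inr h⟩
  · refine absurd (S.eq_one_of_inv_self hu ?_) hu1
    rw [← hτu]
    exact S.fix_of_mul h hv hu hcu
  · refine absurd (S.eq_one_of_inv_self hu ?_) hu1
    have e := S.fix_of_mul h hv hu hcu
    rw [show σ ^ 2 * τ * u * (σ ^ 2 * τ)⁻¹ = σ ^ 2 * (τ * u * τ⁻¹) * (σ ^ 2)⁻¹ by group, hτu,
      (S.commute_J (inv_mem hu)).eq, mul_inv_cancel_right] at e
    exact e

theorem two_element_V {v : G} (hv : v ∈ S.V) (h : ∃ k, orderOf (v * σ ^ 2) = 2 ^ k) : v = 1 := by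
  obtain ⟨k, hk⟩ := h
  refine S.d.toCore.eq_one_of_pow_two_pow hv (k := k + 1) ?_
  have h1 : (v * σ ^ 2) ^ 2 = v ^ 2 := by
    rw [(S.commute_J hv).symm.mul_pow, pow_two (σ ^ 2), S.J_sq, mul_one]
  rw [pow_succ', pow_mul, ← h1, ← pow_mul, mul_comm, pow_mul, ← hk, pow_orderOf_eq_one, one_pow]

/-- Elements of odd order centralizing the same involution commute. -/
theorem odd_comm {t x y : G} (ht : orderOf t = 2) (hx : Commute t x) (hxo : Odd (orderOf x))
    (hy : Commute t y) (hyo : Odd (orderOf y)) : Commute x y := by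
  obtain ⟨g, hg⟩ := isConj_iff.1 (S.d.conjAll t ht).symm
  have key : ∀ z, Commute t z → Odd (orderOf z) → g * z * g⁻¹ ∈ S.V := fun z hz hzo => by
    refine S.mem_V.2 ⟨?_, ?_⟩
    · rw [← hg]; exact (Commute.conj_iff g).2 hz
    · rwa [← MulAut.conj_apply, MulEquiv.orderOf_eq]
  exact (Commute.conj_iff g).1 (S.V_comm (key x hx hxo) (key y hy hyo))

/-- `V` is generated by the fixed and the inverted elements of `τ`. -/
theorem exists_split {v : G} (hv : v ∈ S.V) :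
    ∃ x ∈ S.V, ∃ y ∈ S.V, Commute τ x ∧ τ * y * τ⁻¹ = y⁻¹ ∧ v = x * y := by
  obtain ⟨h, -, hh, rfl⟩ := S.exists_sqrt hv
  have hc := S.normV S.commute_J_tau hh
  have hcomm := S.V_comm hh hc
  have htt : ∀ z : G, τ * (τ * z * τ⁻¹) * τ⁻¹ = z := fun z => by
    rw [S.tau_inv, show τ * (τ * z * τ) * τ = (τ * τ) * z * (τ * τ) by group, S.tau_sq, one_mul,
      mul_one]
  refine ⟨h * (τ * h * τ⁻¹), mul_mem hh hc, h * (τ * h * τ⁻¹)⁻¹, mul_mem hh (inv_mem hc), ?_, ?_, ?_⟩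
  · refine mul_inv_eq_iff_eq_mul.1 ?_
    rw [← conj_mul, htt, hcomm.eq]
  · rw [← conj_mul, ← conj_inv, htt, mul_inv_rev, inv_inv]
  · rw [hcomm.eq, ← mul_assoc, mul_assoc (τ * h * τ⁻¹) h h,
      (hcomm.symm.mul_right hcomm.symm).eq, mul_inv_cancel_right]

/-- To commute with `V` it suffices to commute with both parts. -/
theorem commute_V {x : G} (h1 : ∀ w ∈ S.V, Commute τ w → Commute x w)
    (h2 : ∀ w ∈ S.V, τ * w * τ⁻¹ = w⁻¹ → Commute x w) {v : G} (hv : v ∈ S.V) : Commute v x := by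
  obtain ⟨a, ha, b, hb, hat, hbt, rfl⟩ := S.exists_split hv
  exact ((h1 a ha hat).mul_right (h2 b hb hbt)).symm

/-- Membership in the odd part of `C(V)`. -/
def InE (x : G) : Prop := (∀ v ∈ S.V, Commute v x) ∧ Odd (orderOf x)

theorem shift_InE {x : G} : S.shift.InE x ↔ S.InE x := Iff.rfl

theorem InE_conj {c x : G} (hc : Commute (σ ^ 2) c) (hx : S.InE x) : S.InE (c * x * c⁻¹) := by
  refine ⟨fun v hv => ?_, ?_⟩
  · have h := hx.1 _ (S.normV hc.inv_right hv)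
    rw [inv_inv] at h
    have h' := (Commute.conj_iff c).2 h
    rwa [show c * (c⁻¹ * v * c) * c⁻¹ = v by group] at h'
  · rw [← MulAut.conj_apply, MulEquiv.orderOf_eq]; exact hx.2

theorem exists_fixed_ne (ha : 1 < S.a) : ∃ w ∈ S.V, w ≠ 1 ∧ Commute τ w := by
  rw [Setup.a, Subgroup.one_lt_card_iff_ne_bot] at ha
  obtain ⟨⟨w, hw⟩, hw1⟩ := Subgroup.ne_bot_iff_exists_ne_one.1 ha
  exact ⟨w, hw.1, fun h => hw1 (Subtype.ext h), mem_cent_iff.1 hw.2⟩

theorem exists_inverted_ne (hb : 1 < S.b) : ∃ u ∈ S.V, u ≠ 1 ∧ τ * u * τ⁻¹ = u⁻¹ := by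
  obtain ⟨u, hu, hu1, h⟩ := S.shift.exists_fixed_ne hb
  exact ⟨u, hu, hu1, (S.sigma_tau_fix_iff hu).1 h⟩

/-- The odd elements of `C(V)` form a subgroup. -/
theorem exists_E (ha : 1 < S.a) (hb : 1 < S.b) :
    ∃ E : Subgroup G, Odd (Nat.card E) ∧ ∀ x, x ∈ E ↔ S.InE x := by
  obtain ⟨w, hw, hw1, hτw⟩ := S.exists_fixed_ne ha
  obtain ⟨u, hu, hu1, hτu⟩ := S.exists_inverted_ne hb
  have hC : ∀ x ∈ Subgroup.centralizer (S.V : Set G), Commute (σ ^ 2) x →
      (∃ k, orderOf x = 2 ^ k) → x = 1 ∨ x = σ ^ 2 := by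
    intro x hx hc hk
    rw [Subgroup.mem_centralizer_iff] at hx
    obtain ⟨v, hv, h | h⟩ := S.cent_two hc hw hw1 hτw (hx w hw).symm hu hu1 hτu (hx u hu).symm
    · left
      obtain ⟨k, hk⟩ := hk
      rw [h] at hk ⊢
      exact S.d.toCore.eq_one_of_pow_two_pow hv (k := k) (by rw [← hk, pow_orderOf_eq_one])
    · right
      rw [h] at hk ⊢
      rw [S.two_element_V hv hk, one_mul]
  obtain ⟨E, hodd, hE⟩ := exists_odd_subgroup (Subgroup.centralizer (S.V : Set G))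
    S.d.toCore.orderOf_J (Subgroup.mem_centralizer_iff.2 fun v hv => (S.commute_J hv).symm.eq) hC
  refine ⟨E, hodd, fun x => (hE x).trans ?_⟩
  rw [Subgroup.mem_centralizer_iff]
  exact Iff.rfl

end Setup

end Cfsg.Agent.SmallCent
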