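import Cfsg.Agent.Lib.SmallCent.Exclude

/-!
# Order 2520: the local structure at an element of order three
-/

set_option autoImplicit false
set_option linter.unusedSectionVars false
set_option linter.style.haveILetI false

namespace Cfsg.Agent.SmallCent

open DihedralBlock

universe u

variable {G : Type u} [Group G] [Fintype G]

omit [Fintype G] in
/-- The three nontrivial elements of a group of order four. -/
theorem exhaust_four [Finite G] {U : Subgroup G} (hU : Nat.card U = 4) {a b c : G} (ha : a ∈ U)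
    (hb : b ∈ U) (hc : c ∈ U) (ha1 : a ≠ 1) (hb1 : b ≠ 1) (hc1 : c ≠ 1) (hab : a ≠ b)
    (hac : a ≠ c) (hbc : b ≠ c) {d : G} (hd : d ∈ U) : d = 1 ∨ d = a ∨ d = b ∨ d = c := by
  classical
  haveI := Fintype.ofFinite U
  by_contra h
  push Not at h
  obtain ⟨h1, h2, h3, h4⟩ := h
  have hle := Finset.card_le_univ
    ({⟨d, hd⟩, 1, ⟨a, ha⟩, ⟨b, hb⟩, ⟨c, hc⟩} : Finset U)
  rw [← Nat.card_eq_fintype_card, hU,
    Finset.card_insert_of_notMem (by simp [Subtype.ext_iff, h1, h2, h3, h4]),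
    Finset.card_insert_of_notMem (by simp [Subtype.ext_iff, ha1.symm, hb1.symm, hc1.symm]),
    Finset.card_insert_of_notMem (by simp [Subtype.ext_iff, hab, hac]),
    Finset.card_pair (fun e => hbc (congrArg Subtype.val e))] at hle
  omega

omit [Fintype G] in
/-- A simple group of order 2520 has no proper subgroup of index at most 5. -/
theorem eq_top_of_index_le [Finite G] [IsSimpleGroup G] (hG : Nat.card G = 2520) {N : Subgroup G}
    (hi : N.index ≤ 5) : N = ⊤ := by
  by_contra hN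
  have hker : (MulAction.toPermHom G (G ⧸ N)).ker = ⊥ := by
    rw [← Subgroup.normalCore_eq_ker]
    refine (N.normalCore_normal.eq_bot_or_eq_top).resolve_right fun e => hN ?_
    exact top_le_iff.1 (e ▸ N.normalCore_le)
  have hd : Nat.card G ∣ N.index.factorial := by
    rw [Nat.card_congr (MonoidHom.ofInjective ((MonoidHom.ker_eq_bot_iff _).1 hker)).toEquiv,
      Subgroup.index_eq_card, ← Nat.card_perm]
    exact Subgroup.card_subgroup_dvd_card _
  rw [hG] at hd
  have h := Nat.le_of_dvd (Nat.factorial_pos _) hd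
  have h5 := Nat.factorial_le hi
  norm_num [Nat.factorial] at h5
  omega

namespace Setup

variable {σ τ : G} (S : Setup σ τ)
include S

/-- Either there is a subgroup of index seven, or `|C(V)| = 36`. -/
theorem index_seven_or_card_CV [IsSimpleGroup G] (hb : S.b = 1) (ha : S.a = 3)
    (hG : Nat.card G = 2520) :
    (∃ H : Subgroup G, H.index = 7) ∨ Nat.card S.CV = 36 := by
  classical
  haveI : Fact (Nat.Prime 3) := ⟨Nat.prime_three⟩
  have hV : Nat.card S.V = 3 := by rw [S.card_V_of_b_one hb, ha]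
  obtain ⟨v, hv, hv1, hvo, hVz⟩ := S.exists_generator Nat.prime_three hV
  set NV := Subgroup.normalizer (S.V : Set G) with hNV
  obtain ⟨hYd, -, -, -⟩ := S.Y_facts hb hv hv1
  rw [ha] at hYd
  have h12 : 12 ∣ Nat.card S.CV := hYd.trans (Subgroup.card_dvd_of_le S.Y_le_CV)
  -- a Sylow subgroup containing `v`
  obtain ⟨T, hT⟩ := (IsPGroup.of_card (n := 1) (by rw [hV, pow_one]) : IsPGroup 3 S.V).exists_le_sylow
  have hTc : Nat.card T = 9 := by
    rw [Sylow.card_eq_multiplicity T, hG, show (2520 : ℕ) = 3 ^ 2 * 280 by norm_num,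
      Nat.factorization_mul (by norm_num) (by norm_num), Finsupp.add_apply,
      Nat.Prime.factorization_pow (by norm_num), Finsupp.single_eq_same,
      Nat.factorization_eq_zero_of_not_dvd (by norm_num)]
    rfl
  have hTcomm := IsPGroup.isMulCommutative_of_card_eq_prime_sq (p := 3) (G := T) hTc
  have hTX : (T : Subgroup G) ≤ S.CV := fun t ht => S.mem_CV.2 fun w hw =>
    congrArg Subtype.val (hTcomm.is_comm.comm ⟨w, hT hw⟩ ⟨t, ht⟩)
  have h36 : 36 ∣ Nat.card S.CV := by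
    have h9 : 9 ∣ Nat.card S.CV := hTc ▸ Subgroup.card_dvd_of_le hTX
    omega
  have hXeq : NV ⊓ Subgroup.centralizer ({v} : Set G) = S.CV := by
    rw [← S.CV_eq_cent hVz]; exact inf_eq_right.2 S.CV_le_normalizer
  have horb := card_eq_orbit_mul NV v
  rw [hXeq] at horb
  have hO : ((fun y : G => y * v * y⁻¹) '' (NV : Set G)).ncard = 2 := by
    refine le_antisymm ((Set.ncard_le_ncard (t := (S.V : Set G) \ {1}) ?_ (Set.toFinite _)).trans ?_)
      (Nat.succ_le_of_lt ((Set.one_lt_ncard (Set.toFinite _)).2 ⟨v, ⟨1, one_mem _, by group⟩, v⁻¹,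
        ⟨σ, S.cent_J_le_normalizer (mem_cent_iff.2 S.commute_J_sigma), S.sigma_conj hv⟩,
        fun e => hv1 (S.eq_one_of_inv_self hv e.symm)⟩))
    · rintro _ ⟨y, hy, rfl⟩
      exact ⟨(Subgroup.mem_normalizer_iff.1 hy _).1 hv, fun e => hv1 (conj_eq_one_iff.1 e)⟩
    · rw [Set.ncard_sdiff_singleton_of_mem S.V.one_mem, ← Nat.card_coe_set_eq]
      simp only [SetLike.coe_sort_coe, hV]
      norm_num
  rw [hO] at horb
  obtain ⟨m, hm⟩ := h36
  have hmul := NV.card_mul_index
  rw [horb, hm, hG] at hmul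
  have hne : NV ≠ ⊤ := S.normalizer_ne_top (by omega) (by omega)
  have hd : m ∣ 35 := ⟨NV.index, by linarith [mul_assoc m 1 NV.index]⟩
  have hmem : m ∈ Nat.divisors 35 := Nat.mem_divisors.2 ⟨hd, by norm_num⟩
  rw [show Nat.divisors 35 = {1, 5, 7, 35} by decide] at hmem
  simp only [Finset.mem_insert, Finset.mem_singleton] at hmem
  rcases hmem with rfl | rfl | rfl | rfl
  · right; omega
  · left; exact ⟨NV, by omega⟩
  · exact absurd (eq_top_of_index_le hG (by omega)) hne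
  · exact absurd (eq_top_of_index_le hG (by omega)) hne

variable {v : G} (hb : S.b = 1) (ha : S.a = 3) (hX : Nat.card S.CV = 36) (hv : v ∈ S.V)
  (hv1 : v ≠ 1)

include hb ha hv hv1 in
theorem orderOf_v : orderOf v = 3 ∧ S.V = Subgroup.zpowers v := by
  have hV : Nat.card S.V = 3 := by rw [S.card_V_of_b_one hb, ha]
  haveI : Fact (Nat.Prime 3) := ⟨Nat.prime_three⟩
  have ho : orderOf v = 3 := orderOf_eq_prime (by
    rw [← hV]
    exact congrArg Subtype.val (pow_card_eq_one' (x := (⟨v, hv⟩ : S.V)))) hv1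
  exact ⟨ho, (Subgroup.eq_of_le_of_card_ge (Subgroup.zpowers_le.2 hv)
    (by rw [Nat.card_zpowers, ho, hV])).symm⟩

include hb ha hv hv1 in
/-- An element of order three commuting with an involution is unique up to inversion. -/
theorem three_unique {f x y : G} (hf : orderOf f = 2) (hfx : Commute f x) (hx : orderOf x = 3)
    (hfy : Commute f y) (hy : orderOf y = 3) : y = x ∨ y = x⁻¹ := by
  classical
  obtain ⟨g, hg⟩ := isConj_iff.1 (S.d.conjAll f hf).symm
  obtain ⟨ho, hz⟩ := S.orderOf_v hb ha hv hv1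
  have key : ∀ z, Commute f z → orderOf z = 3 → g * z * g⁻¹ = v ∨ g * z * g⁻¹ = v⁻¹ := by
    intro z hfz hz3
    have hzo : Odd (orderOf (g * z * g⁻¹)) := by rw [orderOf_conj_eq, hz3]; decide
    have hzV : g * z * g⁻¹ ∈ S.V := S.mem_V.2 ⟨hg ▸ (conj_commute_iff g _ _).2 hfz, hzo⟩
    rw [hz, mem_zpowers_iff_mem_range_orderOf, ho] at hzV
    simp only [Finset.mem_image, Finset.mem_range] at hzV
    obtain ⟨k, hk, e⟩ := hzV
    interval_cases k
    · rw [pow_zero] at e
      rw [conj_eq_one_iff.1 e.symm, orderOf_one] at hz3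
      omega
    · left; rw [← e, pow_one]
    · right; rw [← e]; exact eq_inv_of_mul_eq_one_left (by rw [← pow_succ, show 2 + 1 = orderOf v from ho.symm, pow_orderOf_eq_one])
  rcases key x hfx hx with e1 | e1 <;> rcases key y hfy hy with e2 | e2
  · left; exact mul_left_cancel (mul_right_cancel (e2.trans e1.symm))
  · right; refine mul_left_cancel (mul_right_cancel (e2.trans ?_)); rw [← conj_inv, e1]
  · right; refine mul_left_cancel (mul_right_cancel (e2.trans ?_)); rw [← conj_inv, e1, inv_inv]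
  · left; exact mul_left_cancel (mul_right_cancel (e2.trans e1.symm))

include hb ha hX hv hv1 in
/-- The involutions centralizing a conjugate of `v` form a four group. -/
theorem exists_four {z : G} (hz : IsConj v z) :
    ∃ U : Subgroup G, Nat.card U = 4 ∧ ∀ u, u ∈ U ↔ u * u = 1 ∧ Commute u z := by
  obtain ⟨g, rfl⟩ := isConj_iff.1 hz
  obtain ⟨hYd, hYlt, -, -⟩ := S.Y_facts hb hv hv1
  rw [ha] at hYd hYlt
  obtain ⟨-, hVz⟩ := S.orderOf_v hb ha hv hv1
  have hY : Nat.card S.Y = 36 := by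
    have h := hX ▸ Subgroup.card_dvd_of_le S.Y_le_CV
    obtain ⟨m, hm⟩ := hYd
    rw [hm] at h hYlt ⊢
    have := Nat.le_of_dvd (by norm_num) h
    have : m = 2 ∨ m = 3 := by omega
    rcases this with rfl | rfl
    · norm_num at h
    · norm_num
  have hYX : S.Y = S.CV := Subgroup.eq_of_le_of_card_ge S.Y_le_CV (by rw [hX, hY])
  have hfour : ∀ u, u * u = 1 → Commute u v → u ∈ S.four := by
    intro u hu huv
    have huX : u ∈ S.CV := by rw [S.CV_eq_cent hVz]; exact mem_cent_iff.2 huv.symm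
    refine mem_of_sq (hYX ▸ S.Y_le_normalizer) ?_ huX hu
    have h := Subgroup.card_mul_index (S.four.subgroupOf S.CV)
    rw [Nat.card_congr (Subgroup.subgroupOfEquivOfLe (S.four_le_CV hb)).toEquiv, S.card_four, hX] at h
    have e : S.four.relIndex S.CV = 9 := by rw [Subgroup.relIndex]; omega
    rw [e]; decide
  refine ⟨S.four.map (MulAut.conj g).toMonoidHom, ?_, fun u => ⟨?_, ?_⟩⟩
  · rw [Subgroup.card_map_of_injective (MulAut.conj g).injective, S.card_four]
  · rintro ⟨w, hw, rfl⟩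
    have hwv : Commute w v := (S.mem_CV.1 (S.four_le_CV hb hw) v hv).symm
    refine ⟨?_, (conj_commute_iff g w v).2 hwv⟩
    show g * w * g⁻¹ * (g * w * g⁻¹) = 1
    rw [conj_mul, S.four_sq hw, mul_one, mul_inv_cancel]
  · rintro ⟨hu, huz⟩
    refine ⟨g⁻¹ * u * g, hfour _ ?_ ?_, ?_⟩
    · calc g⁻¹ * u * g * (g⁻¹ * u * g) = g⁻¹ * (u * u) * g := by group
        _ = 1 := by rw [hu]; group
    · have h := (conj_commute_iff g⁻¹ _ _).2 huz
      rwa [inv_inv, show g⁻¹ * (g * v * g⁻¹) * g = v by group] at h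
    · show g * (g⁻¹ * u * g) * g⁻¹ = u
      group

include hb ha hv hv1 in
theorem orderOf_class {z : G} (hz : IsConj v z) : orderOf z = 3 := by
  obtain ⟨g, rfl⟩ := isConj_iff.1 hz
  rw [orderOf_conj_eq]; exact (S.orderOf_v hb ha hv hv1).1

include hb ha hX hv hv1 in
/-- The Sylow 3-subgroup at `v`. -/
theorem sylow_facts (hG : Nat.card G = 2520) :
    ∃ (x g₀ : G), IsConj v x ∧ Commute v x ∧ x ≠ v ∧ x ≠ v⁻¹ ∧
      (g₀ * g₀ = 1 ∧ g₀ * v * g₀⁻¹ = v⁻¹ ∧ g₀ * x * g₀⁻¹ = x⁻¹) ∧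
      ∀ z w, IsConj v z → IsConj v w → Commute v z → Commute v w → Commute z w →
        z ≠ v → z ≠ v⁻¹ → w = v ∨ w = v⁻¹ ∨ w = z ∨ w = z⁻¹ := by
  classical
  haveI : Fact (Nat.Prime 3) := ⟨Nat.prime_three⟩
  obtain ⟨ho, hVz⟩ := S.orderOf_v hb ha hv hv1
  have hvinv : v⁻¹ ≠ v := fun e => hv1 (S.eq_one_of_inv_self hv e)
  have hfac : (Nat.card G).factorization 3 = 2 := by
    rw [hG, show (2520 : ℕ) = 3 ^ 2 * 280 by norm_num,
      Nat.factorization_mul (by norm_num) (by norm_num), Finsupp.add_apply,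
      Nat.Prime.factorization_pow (by norm_num), Finsupp.single_eq_same,
      Nat.factorization_eq_zero_of_not_dvd (by norm_num)]
  have hcard : ∀ T : Sylow 3 G, Nat.card T = 9 := fun T => by
    rw [Sylow.card_eq_multiplicity T, hfac]; rfl
  -- the orbit of `v` under the normalizer of a Sylow subgroup
  have key : ∀ T : Sylow 3 G, v ∈ (T : Subgroup G) →
      ∃ O : Set G, O.ncard = 4 ∧ (∀ z ∈ O, IsConj v z ∧ z ∈ (T : Subgroup G) ∧ z⁻¹ ∈ O) ∧
        (∀ z ∈ (T : Subgroup G), IsConj v z → z ∈ O) ∧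
        ∃ g₀ ∈ Subgroup.normalizer (T : Set G), g₀ * g₀ = 1 ∧ g₀ * v * g₀⁻¹ = v⁻¹ := by
    intro T hvT
    haveI hTcomm := IsPGroup.isMulCommutative_of_card_eq_prime_sq (p := 3) (G := T) (hcard T)
    have hTc : ∀ {s t : G}, s ∈ (T : Subgroup G) → t ∈ (T : Subgroup G) → Commute s t :=
      fun hs ht => congrArg Subtype.val (hTcomm.is_comm.comm ⟨_, hs⟩ ⟨_, ht⟩)
    have hTX : (T : Subgroup G) ≤ S.CV := fun t ht => by
      rw [S.CV_eq_cent hVz]; exact mem_cent_iff.2 (hTc hvT ht)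
    set NT := Subgroup.normalizer (T : Set G) with hNT
    obtain ⟨U, hUc, hU⟩ := S.exists_four hb ha hX hv hv1 (IsConj.refl v)
    -- no involution centralizes `T`
    have hfT : ∀ u, u ∈ U → (∀ t ∈ (T : Subgroup G), Commute u t) → u = 1 := by
      intro u hu hc
      by_contra hu1
      have huo : orderOf u = 2 := orderOf_eq_prime (by rw [pow_two]; exact ((hU u).1 hu).1) hu1
      have hsub : ((T : Subgroup G) : Set G) ⊆ {1, v, v⁻¹} := by
        intro t ht
        by_cases h1 : t = 1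
        · exact Or.inl h1
        have hd : orderOf t ∣ 9 := hcard T ▸ Subgroup.orderOf_dvd_natCard _ ht
        rw [show (9 : ℕ) = 3 ^ 2 by norm_num, Nat.dvd_prime_pow Nat.prime_three] at hd
        obtain ⟨k, hk, hk'⟩ := hd
        interval_cases k
        · exact absurd (orderOf_eq_one_iff.1 hk') h1
        · rcases S.three_unique hb ha hv hv1 huo (hc v hvT) ho (hc t ht) (by simpa using hk') with
            e | e
          · exact Or.inr (Or.inl e)
          · exact Or.inr (Or.inr e)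
        · exfalso
          obtain ⟨g, hg⟩ := isConj_iff.1 (S.d.conjAll u huo).symm
          have htV : g * t * g⁻¹ ∈ S.V := S.mem_V.2 ⟨hg ▸ (conj_commute_iff g _ _).2 (hc t ht), by
            rw [orderOf_conj_eq, hk']; decide⟩
          have := Subgroup.orderOf_dvd_natCard _ htV
          rw [orderOf_conj_eq, hk', S.card_V_of_b_one hb, ha] at this
          norm_num at this
      have h3 := Set.ncard_le_ncard hsub (Set.toFinite _)
      rw [← Nat.card_coe_set_eq] at h3
      simp only [SetLike.coe_sort_coe] at h3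
      rw [hcard T] at h3
      have : ({1, v, v⁻¹} : Set G).ncard ≤ 3 := (Set.ncard_insert_le _ _).trans
        (Nat.succ_le_succ ((Set.ncard_insert_le _ _).trans (by rw [Set.ncard_singleton])))
      omega
    -- the stabilizer of `v` in `N(T)` is `T`
    have hstab : NT ⊓ Subgroup.centralizer ({v} : Set G) = (T : Subgroup G) := by
      refine le_antisymm ?_ (le_inf Subgroup.le_normalizer fun t ht => mem_cent_iff.2 (hTc hvT ht))
      rintro g ⟨hgN, hgv⟩
      -- write `g = u t`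
      let f : U × (T : Subgroup G) → S.CV := fun p => ⟨(p.1 : G) * (p.2 : G), mul_mem (by
        rw [S.CV_eq_cent hVz]; exact mem_cent_iff.2 ((hU _).1 p.1.2).2.symm) (hTX p.2.2)⟩
      have hf : Function.Injective f := by
        rintro ⟨⟨u, hu⟩, ⟨t, ht⟩⟩ ⟨⟨u', hu'⟩, ⟨t', ht'⟩⟩ h
        have h' : u * t = u' * t' := congrArg Subtype.val h
        have h1 : u'⁻¹ * u = t' * t⁻¹ := by
          calc u'⁻¹ * u = u'⁻¹ * (u * t) * t⁻¹ := by group
            _ = _ := by rw [h']; group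
        have h2 : u'⁻¹ * u = 1 := by
          have hmU : u'⁻¹ * u ∈ U := mul_mem (inv_mem hu') hu
          have hmT : u'⁻¹ * u ∈ (T : Subgroup G) := h1 ▸ mul_mem ht' (inv_mem ht)
          have hco : Nat.Coprime (Nat.card U) (Nat.card T) := by rw [hUc, hcard T]; decide
          exact orderOf_eq_one_iff.1 (Nat.eq_one_of_dvd_coprimes hco
            (Subgroup.orderOf_dvd_natCard _ hmU) (Subgroup.orderOf_dvd_natCard _ hmT))
        rw [inv_mul_eq_one] at h2
        subst h2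
        exact Prod.ext rfl (Subtype.ext (mul_left_cancel h'))
      have hle : Nat.card S.CV ≤ Nat.card (U × (T : Subgroup G)) := by
        rw [hX, Nat.card_prod, hUc, hcard T]
      obtain ⟨⟨u, t⟩, hut⟩ := (hf.bijective_of_nat_card_le hle).2
        ⟨g, by rw [S.CV_eq_cent hVz]; exact hgv⟩
      have hg : (u : G) * t = g := congrArg Subtype.val hut
      have huN : (u : G) ∈ NT := by
        rw [eq_mul_inv_of_mul_eq hg]
        exact mul_mem hgN (inv_mem (Subgroup.le_normalizer t.2))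
      have hu1 : (u : G) = 1 := by
        refine hfT _ u.2 fun s hs => ?_
        obtain ⟨hu2, huv⟩ := (hU _).1 u.2
        have hsX : s ∈ S.CV := hTX hs
        have hmem : (u : G) * (s * (u : G)⁻¹ * s⁻¹) ∈ U := by
          refine mul_mem u.2 ((hU _).2 ⟨?_, ?_⟩)
          · rw [conj_mul, ← mul_inv_rev, hu2, inv_one, mul_one, mul_inv_cancel]
          · rw [S.CV_eq_cent hVz] at hsX
            have hsv := (mem_cent_iff.1 hsX).symm
            exact (hsv.mul_left huv.inv_left).mul_left hsv.inv_left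
        have hmem' : (u : G) * (s * (u : G)⁻¹ * s⁻¹) ∈ (T : Subgroup G) := by
          rw [show (u : G) * (s * (u : G)⁻¹ * s⁻¹) = u * s * (u : G)⁻¹ * s⁻¹ by group]
          exact mul_mem ((Subgroup.mem_normalizer_iff.1 huN _).1 hs) (inv_mem hs)
        have hco : Nat.Coprime (Nat.card U) (Nat.card T) := by rw [hUc, hcard T]; decide
        have h1 := orderOf_eq_one_iff.1 (Nat.eq_one_of_dvd_coprimes hco
          (Subgroup.orderOf_dvd_natCard _ hmem) (Subgroup.orderOf_dvd_natCard _ hmem'))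
        refine commute_of_conj_eq (mul_inv_eq_one.1 ?_)
        calc (u : G) * s * (u : G)⁻¹ * s⁻¹ = (u : G) * (s * (u : G)⁻¹ * s⁻¹) := by group
          _ = 1 := h1
      rw [← hg, hu1, one_mul]
      exact t.2
    -- an inverting involution
    have hσX : ∀ x ∈ S.CV, σ * x * σ⁻¹ ∈ S.CV := fun x hx => S.mem_CV.2 fun w hw => by
      have h := (conj_commute_iff σ _ _).2 (S.mem_CV.1 hx _ (inv_mem hw))
      rwa [S.sigma_conj (inv_mem hw), inv_inv] at h
    obtain ⟨g₁, hg₁, hg₁v⟩ : ∃ g ∈ NT, g * v * g⁻¹ = v⁻¹ := by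
      have hle : ((T : Subgroup G).map (MulAut.conj σ).toMonoidHom) ≤ S.CV := by
        rintro _ ⟨t, ht, rfl⟩; exact hσX t (hTX ht)
      let T₁ : Sylow 3 S.CV := T.subtype hTX
      let T₂ : Sylow 3 S.CV := (σ • T).subtype (by
        rw [Sylow.coe_subgroup_smul, Subgroup.pointwise_smul_def]; exact hle)
      obtain ⟨c, hc⟩ := MulAction.exists_smul_eq S.CV T₂ T₁
      refine ⟨(c : G) * σ, mem_normalizer_of_maps fun t ht => ?_, ?_⟩
      · have h2 : (⟨σ * t * σ⁻¹, hσX t (hTX ht)⟩ : S.CV) ∈ T₂ := by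
          show (⟨σ * t * σ⁻¹, _⟩ : S.CV) ∈ (T₂ : Subgroup S.CV)
          simp only [T₂, Sylow.coe_subtype, Subgroup.mem_subgroupOf, Sylow.coe_subgroup_smul,
            Subgroup.pointwise_smul_def]
          exact ⟨t, ht, rfl⟩
        have h3 : c * ⟨σ * t * σ⁻¹, hσX t (hTX ht)⟩ * c⁻¹ ∈ (T₁ : Subgroup S.CV) := by
          rw [← hc, Sylow.coe_subgroup_smul]
          exact Subgroup.smul_mem_pointwise_smul _ (MulAut.conj c) _ h2
        simp only [T₁, Sylow.coe_subtype, Subgroup.mem_subgroupOf] at h3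
        rw [show (c : G) * σ * t * ((c : G) * σ)⁻¹ = c * (σ * t * σ⁻¹) * (c : G)⁻¹ by group]
        exact h3
      · rw [show (c : G) * σ * v * ((c : G) * σ)⁻¹ = c * (σ * v * σ⁻¹) * (c : G)⁻¹ by group,
          S.sigma_conj hv, (S.mem_CV.1 c.2 _ (inv_mem hv)).symm.eq, mul_inv_cancel_right]
    set g₀ := g₁ ^ 9 with hg₀
    have hg1v : g₁ * v⁻¹ * g₁⁻¹ = v := by rw [← conj_inv, hg₁v, inv_inv]
    have hg1sq : g₁ * g₁ ∈ (T : Subgroup G) := by
      rw [← hstab]
      refine ⟨mul_mem hg₁ hg₁, mem_cent_iff.2 (commute_of_conj_eq ?_).symm⟩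
      calc g₁ * g₁ * v * (g₁ * g₁)⁻¹ = g₁ * (g₁ * v * g₁⁻¹) * g₁⁻¹ := by group
        _ = v := by rw [hg₁v, hg1v]
    have hg0sq : g₀ * g₀ = 1 := by
      have h9 : (g₁ * g₁) ^ 9 = 1 := by
        rw [← hcard T]
        exact congrArg Subtype.val (pow_card_eq_one' (x := (⟨_, hg1sq⟩ : (T : Subgroup G))))
      rw [hg₀, ← (Commute.refl g₁).mul_pow, h9]
    have hg0v : g₀ * v * g₀⁻¹ = v⁻¹ := by
      have h : Commute ((g₁ * g₁) ^ 4) v := (hTc (pow_mem hg1sq 4) hvT)
      have e : g₀ = g₁ * (g₁ * g₁) ^ 4 := by rw [hg₀, ← pow_two, ← pow_mul, ← pow_succ']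
      calc g₀ * v * g₀⁻¹ = g₁ * ((g₁ * g₁) ^ 4 * v * ((g₁ * g₁) ^ 4)⁻¹) * g₁⁻¹ := by rw [e]; group
        _ = v⁻¹ := by rw [h.eq, mul_inv_cancel_right, hg₁v]
    -- counting
    set O := (fun y : G => y * v * y⁻¹) '' (NT : Set G) with hO
    have horb := card_eq_orbit_mul NT v
    rw [hstab, hcard T] at horb
    have hOle : O.ncard ≤ 8 := by
      refine (Set.ncard_le_ncard (t := ((T : Subgroup G) : Set G) \ {1}) ?_ (Set.toFinite _)).trans ?_
      · rintro _ ⟨y, hy, rfl⟩
        exact ⟨(Subgroup.mem_normalizer_iff.1 hy _).1 hvT, fun e => hv1 (conj_eq_one_iff.1 e)⟩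
      · rw [Set.ncard_sdiff_singleton_of_mem (T : Subgroup G).one_mem, ← Nat.card_coe_set_eq]
        simp only [SetLike.coe_sort_coe, hcard T]
        norm_num
    have hg₀N : g₀ ∈ NT := pow_mem hg₁ 9
    have hg₀1 : g₀ ≠ 1 := fun e => hvinv (by rw [← hg0v, e]; group)
    have heven : 2 ∣ O.ncard := by
      have hdd : orderOf g₀ ∣ Nat.card NT := Subgroup.orderOf_dvd_natCard _ hg₀N
      rw [orderOf_eq_prime (by rw [pow_two]; exact hg0sq) hg₀1, horb] at hdd
      exact (Nat.Coprime.dvd_mul_right (by norm_num)).1 hdd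
    have hn3 : NT.index % 3 = 1 := by
      have h := card_sylow_modEq_one (p := 3) G
      rw [Sylow.card_eq_index_normalizer T] at h
      exact h
    have hk : O.ncard = 4 := by
      have hmul := NT.card_mul_index
      rw [horb, hG] at hmul
      have hk : O.ncard = 0 ∨ O.ncard = 2 ∨ O.ncard = 4 ∨ O.ncard = 6 ∨ O.ncard = 8 := by omega
      rcases hk with e | e | e | e | e <;> rw [e] at hmul <;> omega
    refine ⟨O, hk, ?_, ?_, g₀, hg₀N, hg0sq, hg0v⟩
    · rintro _ ⟨y, hy, rfl⟩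
      refine ⟨isConj_iff.2 ⟨y, rfl⟩, (Subgroup.mem_normalizer_iff.1 hy _).1 hvT,
        ⟨y * g₀, mul_mem hy hg₀N, ?_⟩⟩
      show y * g₀ * v * (y * g₀)⁻¹ = (y * v * y⁻¹)⁻¹
      rw [show y * g₀ * v * (y * g₀)⁻¹ = y * (g₀ * v * g₀⁻¹) * y⁻¹ by group, hg0v, conj_inv]
    · intro z hz hzc
      obtain ⟨g, hg⟩ := isConj_iff.1 hzc
      have hmemc : ∀ {s : G}, s ∈ (T : Subgroup G) →
          s ∈ Subgroup.centralizer (T : Set G) := fun hs =>
        Subgroup.mem_centralizer_iff.2 fun t ht => (hTc ht hs).eq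
      obtain ⟨n, hn, e⟩ := Sylow.conj_eq_normalizer_conj_of_mem_centralizer T v g⁻¹ (hmemc hvT)
        (by rw [inv_inv, hg]; exact hmemc hz)
      rw [inv_inv, hg] at e
      exact ⟨n⁻¹, inv_mem hn, by show n⁻¹ * v * n⁻¹⁻¹ = z; rw [inv_inv, e]⟩
  -- consequences
  obtain ⟨T, hT⟩ := (IsPGroup.of_card (n := 1) (by rw [Nat.card_zpowers, ho, pow_one]) :
    IsPGroup 3 (Subgroup.zpowers v)).exists_le_sylow
  have hvT : v ∈ (T : Subgroup G) := hT (Subgroup.mem_zpowers v)
  obtain ⟨O, hO, hO1, hO2, g₀, hg₀, hgsq, hgv⟩ := key T hvT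
  haveI hTcomm := IsPGroup.isMulCommutative_of_card_eq_prime_sq (p := 3) (G := T) (hcard T)
  obtain ⟨x, hx, hxne⟩ : ∃ x ∈ O, x ∉ ({v, v⁻¹} : Set G) := by
    refine Set.exists_mem_notMem_of_ncard_lt_ncard ?_ (Set.toFinite _)
    rw [hO, Set.ncard_pair hvinv.symm]
    norm_num
  simp only [Set.mem_insert_iff, Set.mem_singleton_iff, not_or] at hxne
  obtain ⟨hxc, hxT, hxi⟩ := hO1 x hx
  have hvx : Commute v x := congrArg Subtype.val (hTcomm.is_comm.comm ⟨v, hvT⟩ ⟨x, hxT⟩)
  have hxinv : x⁻¹ ≠ x := fun e => by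
    have h3 := S.orderOf_class hb ha hv hv1 hxc
    have := orderOf_dvd_of_pow_eq_one (show x ^ 2 = 1 by rw [pow_two]; exact inv_eq_iff_mul_eq_one.1 e)
    rw [h3] at this
    norm_num at this
  have hexh : ∀ (O : Set G), O.ncard = 4 → (∀ z ∈ O, z⁻¹ ∈ O) → v ∈ O → ∀ z ∈ O, z ≠ v → z ≠ v⁻¹ →
      z⁻¹ ≠ z → ∀ w ∈ O, w = v ∨ w = v⁻¹ ∨ w = z ∨ w = z⁻¹ := by
    intro O hO hOi hvO z hz hzv hzvi hzi w hw
    by_contra h
    simp only [not_or] at h
    obtain ⟨h1, h2, h3, h4⟩ := h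
    have hsub : (({w, v, v⁻¹, z, z⁻¹} : Finset G) : Set G) ⊆ O := by
      intro y hy
      simp only [Finset.coe_insert, Finset.coe_singleton, Set.mem_insert_iff,
        Set.mem_singleton_iff] at hy
      rcases hy with rfl | rfl | rfl | rfl | rfl
      exacts [hw, hvO, hOi _ hvO, hz, hOi _ hz]
    have hle := Set.ncard_le_ncard hsub (Set.toFinite _)
    rw [Set.ncard_coe_finset, hO, Finset.card_insert_of_notMem (by simp [h1, h2, h3, h4]),
      Finset.card_insert_of_notMem (by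
        simp [hvinv.symm, Ne.symm hzv, show v ≠ z⁻¹ from fun e => hzvi (by rw [e, inv_inv])]),
      Finset.card_insert_of_notMem (by
        simp [Ne.symm hzvi, show v ≠ z from Ne.symm hzv]), Finset.card_pair hzi.symm] at hle
    omega
  have hO' : ∀ {w}, w ∈ O → w = v ∨ w = v⁻¹ ∨ w = x ∨ w = x⁻¹ := fun hw =>
    hexh O hO (fun z hz => (hO1 z hz).2.2) (hO2 v hvT (IsConj.refl v)) x hx hxne.1 hxne.2 hxinv _ hw
  have hgx : g₀ * x * g₀⁻¹ = x⁻¹ := by
    have hmem : g₀ * x * g₀⁻¹ ∈ O := hO2 _ ((Subgroup.mem_normalizer_iff.1 hg₀ _).1 hxT)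
      (hxc.trans (isConj_iff.2 ⟨g₀, rfl⟩))
    have hg₀i := inv_eq_of_mul_eq_one_right hgsq
    rcases hO' hmem with e | e | e | e
    · exfalso
      refine hxne.2 ?_
      calc x = g₀ * (g₀ * x * g₀⁻¹) * g₀⁻¹ := by
            rw [hg₀i, show g₀ * (g₀ * x * g₀) * g₀ = (g₀ * g₀) * x * (g₀ * g₀) by group, hgsq,
              one_mul, mul_one]
        _ = v⁻¹ := by rw [e, hgv]
    · exfalso
      refine hxne.1 ?_
      calc x = g₀ * (g₀ * x * g₀⁻¹) * g₀⁻¹ := by
            rw [hg₀i, show g₀ * (g₀ * x * g₀) * g₀ = (g₀ * g₀) * x * (g₀ * g₀) by group, hgsq,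
              one_mul, mul_one]
        _ = v := by rw [e, ← conj_inv, hgv, inv_inv]
    · -- an involution cannot centralize `x` and invert `v`
      exfalso
      obtain ⟨U, -, hU⟩ := S.exists_four hb ha hX hv hv1 hxc
      have hg0U : g₀ ∈ U := (hU _).2 ⟨hgsq, commute_of_conj_eq e⟩
      have hconj : v * g₀⁻¹ * v⁻¹ ∈ U := (hU _).2 ⟨by
        rw [conj_mul, ← mul_inv_rev, hgsq, inv_one, mul_one, mul_inv_cancel],
        (hvx.mul_left (commute_of_conj_eq e).inv_left).mul_left hvx.inv_left⟩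
      have hmem2 := mul_mem hg0U hconj
      rw [show g₀ * (v * g₀⁻¹ * v⁻¹) = g₀ * v * g₀⁻¹ * v⁻¹ by group, hgv] at hmem2
      have h2 := ((hU _).1 hmem2).1
      have h3 : v⁻¹ * v⁻¹ * (v⁻¹ * v⁻¹) = v⁻¹ := by
        calc v⁻¹ * v⁻¹ * (v⁻¹ * v⁻¹) = v⁻¹ * (v ^ 3)⁻¹ := by group
          _ = v⁻¹ := by rw [← ho, pow_orderOf_eq_one, inv_one, mul_one]
      rw [h3, inv_eq_one] at h2
      exact hv1 h2
    · exact e
  refine ⟨x, g₀, hxc, hvx, hxne.1, hxne.2, ⟨hgsq, hgv, hgx⟩, ?_⟩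
  intro z w hz hw hvz hvw hzw hzv hzvi
  -- an abelian 3-group containing them
  set A := Subgroup.closure ({v, z, w} : Set G) with hA
  have hcomm : ∀ p ∈ ({v, z, w} : Set G), ∀ q ∈ ({v, z, w} : Set G), p * q = q * p := by
    rintro p (rfl | rfl | rfl) q (rfl | rfl | rfl)
    exacts [rfl, hvz.eq, hvw.eq, hvz.symm.eq, rfl, hzw.eq, hvw.symm.eq, hzw.symm.eq, rfl]
  haveI : IsMulCommutative A := Subgroup.isMulCommutative_closure hcomm
  have hAp : IsPGroup 3 A := by
    intro g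
    refine ⟨1, ?_⟩
    obtain ⟨g, hg⟩ := g
    refine Subtype.ext ?_
    push_cast
    show g ^ 3 = 1
    induction hg using Subgroup.closure_induction with
    | mem y hy =>
      have : orderOf y = 3 := by
        rcases hy with rfl | rfl | rfl
        exacts [ho, S.orderOf_class hb ha hv hv1 hz, S.orderOf_class hb ha hv hv1 hw]
      rw [← this, pow_orderOf_eq_one]
    | one => exact one_pow 3
    | mul p q hp hq ihp ihq =>
      rw [Commute.mul_pow (congrArg Subtype.val (mul_comm' (⟨p, hp⟩ : A) ⟨q, hq⟩)), ihp, ihq,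
        one_mul]
    | inv p _ ihp => rw [inv_pow, ihp, inv_one]
  obtain ⟨T', hT'⟩ := hAp.exists_le_sylow
  have hsub : ∀ p ∈ ({v, z, w} : Set G), p ∈ (T' : Subgroup G) := fun p hp =>
    hT' (Subgroup.subset_closure hp)
  obtain ⟨O', hO'c, hO'1, hO'2, -⟩ := key T' (hsub v (by simp))
  refine hexh O' hO'c (fun y hy => (hO'1 y hy).2.2) (hO'2 v (hsub v (by simp)) (IsConj.refl v)) z
    (hO'2 z (hsub z (by simp)) hz) hzv hzvi (fun e => ?_) w (hO'2 w (hsub w (by simp)) hw)
  have h3 := S.orderOf_class hb ha hv hv1 hz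
  have := orderOf_dvd_of_pow_eq_one (show z ^ 2 = 1 by rw [pow_two]; exact inv_eq_iff_mul_eq_one.1 e)
  rw [h3] at this
  norm_num at this

end Setup

end Cfsg.Agent.SmallCent
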