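import Cfsg.Agent.Lib.SmallCent.Cube
import Cfsg.Agent.Lib.SpinCover.Carmichael
import Cfsg.Agent.Lib.SmallSimple.Low

/-!
# Order 2520: five Carmichael generators and a subgroup of index seven
-/

set_option autoImplicit false
set_option linter.unusedSectionVars false
set_option linter.style.haveILetI false

namespace Cfsg.Agent.SmallCent

open DihedralBlock

universe u

variable {G : Type u} [Group G] [Fintype G]

omit [Fintype G] in
/-- The coset step of Carmichael's presentation. -/
theorem card_closure_insert_le [Finite G] {ι : Type u} [DecidableEq ι] (X : ι → G) (s : Finset ι)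
    (e : ι) (he : e ∉ s) (h3 : ∀ i ∈ insert e s, X i * X i * X i = 1)
    (h2 : ∀ i ∈ insert e s, ∀ j ∈ insert e s, i ≠ j → X i * X j * (X i * X j) = 1) :
    Nat.card (Subgroup.closure (X '' ((insert e s : Finset ι) : Set ι))) ≤
      (s.card + 3) * Nat.card (Subgroup.closure (X '' (s : Set ι))) := by
  classical
  set K := Subgroup.closure (X '' (s : Set ι))
  set x := X e with hx
  have hK : ∀ i ∈ s, X i ∈ K := fun i hi => Subgroup.subset_closure ⟨i, hi, rfl⟩
  have he' := Finset.mem_insert_self e s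
  have hx3 : x * x * x = 1 := h3 e he'
  have hswap : ∀ i ∈ insert e s, ∀ j ∈ insert e s, i ≠ j →
      X i * X j = (X j * X j) * (X i * X i) := fun i hi j hj hij => by
    rw [← inv_eq_of_mul_eq_one_left (h3 i hi), ← inv_eq_of_mul_eq_one_left (h3 j hj), ← mul_inv_rev]
    exact eq_inv_of_mul_eq_one_left (h2 i hi j hj hij)
  have hne : ∀ i ∈ s, i ≠ e := fun i hi h => he (h ▸ hi)
  let R : Finset G := {1, x, x * x} ∪ s.image fun i => x * x * X i
  let P : G → Prop := fun g => ∃ k ∈ K, ∃ r ∈ R, g = k * r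
  have hR1 : (1 : G) ∈ R := by simp [R]
  have hRx : x ∈ R := by simp [R]
  have hRxx : x * x ∈ R := by simp [R]
  have hRi : ∀ i ∈ s, x * x * X i ∈ R := fun i hi =>
    Finset.mem_union_right _ (Finset.mem_image_of_mem _ hi)
  have hPr : ∀ r ∈ R, ∀ i ∈ insert e s, P (r * X i) := by
    intro r hr i hi
    simp only [R, Finset.mem_union, Finset.mem_insert, Finset.mem_singleton,
      Finset.mem_image] at hr
    rcases Finset.mem_insert.1 hi with rfl | his
    · rcases hr with (rfl | rfl | rfl) | ⟨j, hj, rfl⟩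
      · exact ⟨1, one_mem _, x, hRx, by rw [hx]⟩
      · exact ⟨1, one_mem _, x * x, hRxx, by rw [one_mul, hx]⟩
      · exact ⟨1, one_mem _, 1, hR1, by rw [← hx, hx3, one_mul]⟩
      · refine ⟨X j * X j, mul_mem (hK j hj) (hK j hj), x * x * X j, hRi j hj, ?_⟩
        have hj' : j ∈ insert i s := Finset.mem_insert_of_mem hj
        calc x * x * X j * X i = x * x * (X j * X i) := by group
          _ = x * x * ((x * x) * (X j * X j)) := by rw [hswap j hj' i he' (hne j hj)]
          _ = x * x * x * (x * X j) * X j := by group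
          _ = x * X j * X j := by rw [hx3, one_mul]
          _ = (X j * X j) * (x * x) * X j := by rw [hx, hswap i he' j hj' (hne j hj).symm]
          _ = _ := by group
    · rcases hr with (rfl | rfl | rfl) | ⟨j, hj, rfl⟩
      · exact ⟨X i, hK i his, 1, hR1, by group⟩
      · exact ⟨X i * X i, mul_mem (hK i his) (hK i his), x * x, hRxx,
          hswap e he' i hi (hne i his).symm⟩
      · exact ⟨1, one_mem _, x * x * X i, hRi i his, by rw [one_mul]⟩
      · have hj' : j ∈ insert e s := Finset.mem_insert_of_mem hj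
        rcases eq_or_ne j i with rfl | hji
        · refine ⟨X j, hK j hj, x, hRx, ?_⟩
          calc x * x * X j * X j = (X e * X e) * (X j * X j) := by rw [hx]; group
            _ = X j * X e := (hswap j hj' e he' (hne j hj)).symm
            _ = _ := by rw [hx]
        · refine ⟨X i * (X j * X j), mul_mem (hK i his) (mul_mem (hK j hj) (hK j hj)),
            x * x * X j, hRi j hj, ?_⟩
          calc x * x * X j * X i = x * x * (X j * X i) := by group
            _ = x * x * ((X i * X i) * (X j * X j)) := by rw [hswap j hj' i hi hji]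
            _ = (X e * X e) * (X i * X i) * (X j * X j) := by rw [hx]; group
            _ = X i * X e * (X j * X j) := by rw [← hswap i hi e he' (hne i his)]
            _ = X i * (X e * X j) * X j := by group
            _ = X i * ((X j * X j) * (x * x)) * X j := by
              rw [hswap e he' j hj' (hne j hj).symm]
            _ = _ := by group
  have hstep : ∀ g, P g → ∀ i ∈ insert e s, P (g * X i) := by
    rintro g ⟨k, hk, r, hr, rfl⟩ i hi
    obtain ⟨k', hk', r', hr', h⟩ := hPr r hr i hi
    exact ⟨k * k', mul_mem hk hk', r', hr', by rw [mul_assoc, h, mul_assoc]⟩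
  have hall : ∀ g ∈ Subgroup.closure (X '' ((insert e s : Finset ι) : Set ι)), P g := by
    intro g hg
    induction hg using Subgroup.closure_induction_right with
    | one => exact ⟨1, one_mem _, 1, hR1, (one_mul _).symm⟩
    | mul_right g hg y hy ih2 =>
      obtain ⟨i, hi, rfl⟩ := hy
      exact hstep g ih2 i hi
    | mul_inv_cancel g hg y hy ih2 =>
      obtain ⟨i, hi, rfl⟩ := hy
      rw [inv_eq_of_mul_eq_one_left (h3 i hi), ← mul_assoc]
      exact hstep _ (hstep g ih2 i hi) i hi
  have hle : Nat.card (Subgroup.closure (X '' ((insert e s : Finset ι) : Set ι))) ≤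
      Nat.card K * R.card := by
    rw [← Nat.card_eq_finsetCard R, ← Nat.card_prod]
    choose kf hkf rf hrf hgf using
      fun g : Subgroup.closure (X '' ((insert e s : Finset ι) : Set ι)) => hall g g.2
    refine Nat.card_le_card_of_injective (fun g => (⟨kf g, hkf g⟩, ⟨rf g, hrf g⟩)) fun a b h => ?_
    simp only [Prod.mk.injEq, Subtype.mk.injEq] at h
    exact Subtype.ext (by rw [hgf a, hgf b, h.1, h.2])
  have hRc : R.card ≤ s.card + 3 := by
    refine (Finset.card_union_le _ _).trans ?_
    have h1 : ({1, x, x * x} : Finset G).card ≤ 3 := Finset.card_le_three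
    have h2 := Finset.card_image_le (s := s) (f := fun i => x * x * X i)
    omega
  calc _ ≤ Nat.card K * R.card := hle
    _ ≤ Nat.card K * (s.card + 3) := Nat.mul_le_mul_left _ hRc
    _ = _ := mul_comm _ _

namespace Setup

variable {σ τ : G} (S : Setup σ τ)
include S

/-- A simple group of order 2520 in this situation has a subgroup of index seven. -/
theorem exists_index_seven [IsSimpleGroup G] (hb : S.b = 1) (ha : S.a = 3)
    (hG : Nat.card G = 2520) : ∃ H : Subgroup G, H.index = 7 := by
  classical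
  rcases S.index_seven_or_card_CV hb ha hG with h | hX
  · exact h
  obtain ⟨v, hv, hv1, ho, hVz⟩ :=
    S.exists_generator Nat.prime_three (show Nat.card S.V = 3 by rw [S.card_V_of_b_one hb, ha])
  obtain ⟨x, s, hxc, hvx, hxv, hxvi, ⟨hs2, hsv, hsx⟩, -⟩ := S.sylow_facts hb ha hX hv hv1 hG
  have hx3 := S.orderOf_class hb ha hv hv1 hxc
  obtain ⟨Uv, hUvc, hUv⟩ := S.exists_four hb ha hX hv hv1 (IsConj.refl v)
  obtain ⟨Ux, hUxc, hUx⟩ := S.exists_four hb ha hX hv hv1 hxc
  have hsi : s⁻¹ = s := inv_eq_of_mul_eq_one_right hs2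
  have hs1 : s ≠ 1 := fun e => hv1 (S.eq_one_of_inv_self hv (by rw [← hsv, e]; group))
  have hso : orderOf s = 2 := orderOf_eq_prime (by rw [pow_two]; exact hs2) hs1
  -- no involution centralizes `v` and `x`
  have hno : ∀ a, a * a = 1 → Commute a v → Commute a x → a = 1 := by
    intro a ha2 hav hax
    by_contra ha1
    rcases S.three_unique hb ha hv hv1 (orderOf_eq_prime (by rw [pow_two]; exact ha2) ha1) hav ho
      hax hx3 with e | e
    exacts [hxv e, hxvi e]
  -- an element of each four group fixed by `s`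
  have hfix : ∀ (z : G) (U : Subgroup G), Nat.card U = 4 → (∀ a, a ∈ U ↔ a * a = 1 ∧ Commute a z) →
      s * z * s⁻¹ = z⁻¹ → ∃ a ∈ U, a ≠ 1 ∧ Commute s a := by
    intro z U hUc hU hsz
    have hnorm : ∀ a ∈ U, s * a * s⁻¹ ∈ U := fun a ha => by
      obtain ⟨ha2, haz⟩ := (hU a).1 ha
      refine (hU _).2 ⟨by rw [conj_mul, ha2, mul_one, mul_inv_cancel], ?_⟩
      have h := (conj_commute_iff s a z).2 haz
      rw [hsz] at h
      exact Commute.inv_right_iff.1 h
    obtain ⟨⟨a, ha⟩, ha1⟩ : ∃ a : U, a ≠ 1 := by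
      haveI : Nontrivial U := Finite.one_lt_card_iff_nontrivial.1 (by rw [hUc]; norm_num)
      exact exists_ne 1
    set a' := s * a * s⁻¹ with ha'
    by_cases h : a * a' = 1
    · refine ⟨a, ha, fun e => ha1 (Subtype.ext e), commute_of_conj_eq ?_⟩
      rw [← ha', eq_inv_of_mul_eq_one_right h, inv_eq_of_mul_eq_one_right ((hU a).1 ha).1]
    · refine ⟨a * a', mul_mem ha (hnorm a ha), h, commute_of_conj_eq ?_⟩
      have haa : s * a' * s⁻¹ = a := by
        rw [ha', hsi, show s * (s * a * s) * s = (s * s) * a * (s * s) by group, hs2, one_mul, mul_one]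
      rw [← conj_mul, haa, ← ha']
      have h2 := ((hU _).1 (mul_mem ha (hnorm a ha))).1
      calc a' * a = a'⁻¹ * a⁻¹ := by
            rw [inv_eq_of_mul_eq_one_right ((hU _).1 (hnorm a ha)).1,
              inv_eq_of_mul_eq_one_right ((hU a).1 ha).1]
        _ = (a * a')⁻¹ := (mul_inv_rev a a').symm
        _ = a * a' := inv_eq_of_mul_eq_one_right h2
  obtain ⟨f, hfU, hf1, hsf⟩ := hfix v Uv hUvc hUv hsv
  obtain ⟨u, huU, hu1, hsu⟩ := hfix x Ux hUxc hUx hsx
  obtain ⟨hf2, hfv⟩ := (hUv f).1 hfU
  obtain ⟨hu2, hux⟩ := (hUx u).1 huU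
  have hfi : f⁻¹ = f := inv_eq_of_mul_eq_one_right hf2
  have hui : u⁻¹ = u := inv_eq_of_mul_eq_one_right hu2
  have hfx : ¬ Commute f x := fun h => hf1 (hno f hf2 hfv h)
  have huv : ¬ Commute u v := fun h => hu1 (hno u hu2 h hux)
  -- the cube
  obtain ⟨g, hg⟩ := isConj_iff.1 (S.d.conjAll s hso).symm
  have hcube : u * f * (u * f) * (u * f) = s := by
    have hg' : ∀ z, IsConj v z → IsConj v (g * z * g⁻¹) := fun z hz =>
      hz.trans (isConj_iff.2 ⟨g, rfl⟩)
    have hinj : ∀ {z z' : G}, g * z * g⁻¹ = g * z' * g⁻¹ → z = z' := fun h =>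
      mul_left_cancel (mul_right_cancel h)
    have h := S.cube_eq_J hb ha hX hv hv1 hG
      (u := g * u * g⁻¹) (f := g * f * g⁻¹) (p := g * x * g⁻¹) (q := g * v * g⁻¹)
      (hg ▸ (conj_commute_iff g s u).2 hsu) (by rw [conj_mul, hu2, mul_one, mul_inv_cancel])
      (fun e => huv ?_) (fun e => hu1 (conj_eq_one_iff.1 e))
      (hg ▸ (conj_commute_iff g s f).2 hsf) (by rw [conj_mul, hf2, mul_one, mul_inv_cancel])
      (fun e => hfx ?_) (fun e => hf1 (conj_eq_one_iff.1 e))
      (hg' x hxc) (hg' v (IsConj.refl v)) ((conj_commute_iff g x v).2 hvx.symm)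
      (fun e => hxv (hinj e).symm) (fun e => hxvi (by
        rw [conj_inv] at e; rw [hinj e, inv_inv]))
      (fun h => ?_) (fun h => ?_) ((conj_commute_iff g u x).2 hux) ((conj_commute_iff g f v).2 hfv)
    · rw [conj_mul, conj_mul, conj_mul, ← hg] at h
      exact hinj h
    · exfalso
      have e' : u = s := hinj (e.trans hg.symm)
      rw [e'] at hux
      rw [hux.eq, mul_inv_cancel_right] at hsx
      exact absurd hx3 (fun hh => by
        have := orderOf_dvd_of_pow_eq_one (show x ^ 2 = 1 by
          rw [pow_two]; exact mul_eq_one_iff_eq_inv.2 hsx)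
        rw [hh] at this
        norm_num at this)
    · exfalso
      have e' : f = s := hinj (e.trans hg.symm)
      rw [e'] at hfv
      rw [hfv.eq, mul_inv_cancel_right] at hsv
      exact hv1 (S.eq_one_of_inv_self hv hsv.symm)
    · rw [← hg, conj_commute_iff] at h
      rw [h.eq, mul_inv_cancel_right] at hsx
      have := orderOf_dvd_of_pow_eq_one (show x ^ 2 = 1 by
        rw [pow_two]; exact mul_eq_one_iff_eq_inv.2 hsx)
      rw [hx3] at this
      norm_num at this
    · rw [← hg, conj_commute_iff] at h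
      rw [h.eq, mul_inv_cancel_right] at hsv
      exact hv1 (S.eq_one_of_inv_self hv hsv.symm)
  -- the generators
  set y := f * x⁻¹ * f with hy
  have hxxx : x * x * x = 1 := by rw [← pow_three', ← hx3, pow_orderOf_eq_one]
  have hy3 : y * y * y = 1 := by
    calc y * y * y = f * (x⁻¹ * (f * f) * x⁻¹ * (f * f) * x⁻¹) * f := by rw [hy]; group
      _ = f * (x * x * x)⁻¹ * f := by rw [hf2]; group
      _ = 1 := by rw [hxxx, inv_one, mul_one, hf2]
  have hvy : Commute v y := (hfv.symm.mul_right hvx.inv_right).mul_right hfv.symm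
  -- `x y` is an involution
  have hg₀U : x * y ∈ Uv := by
    rw [hy, show x * (f * x⁻¹ * f) = x * f * x⁻¹ * f by group]
    refine mul_mem ((hUv _).2 ⟨by rw [conj_mul, hf2, mul_one, mul_inv_cancel], ?_⟩) hfU
    exact (hvx.symm.mul_left hfv).mul_left hvx.symm.inv_left
  have hxy2 : x * y * (x * y) = 1 := ((hUv _).1 hg₀U).1
  have hg₀1 : x * y ≠ 1 := by
    intro e
    rw [hy, show x * (f * x⁻¹ * f) = x * f * x⁻¹ * f by group] at e
    have e' := eq_inv_of_mul_eq_one_left e
    rw [hfi] at e'
    exact hfx (commute_of_conj_eq e').symm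
  -- `y · u y u` is an involution
  have hsy : s * y⁻¹ * s = y := by
    have e1 : s * x = x⁻¹ * s := by
      calc s * x = s * x * s⁻¹ * s := by group
        _ = _ := by rw [hsx]
    calc s * y⁻¹ * s = s * (f * x * f) * s := by rw [hy, mul_inv_rev, mul_inv_rev, hfi, inv_inv]; group
      _ = (s * f) * x * (f * s) := by group
      _ = f * (s * x) * (s * f) := by rw [hsf.eq]; group
      _ = f * x⁻¹ * (s * s) * f := by rw [e1]; group
      _ = y := by rw [hs2, mul_one, hy]
  have hyu : y * (u * y * u) * (y * (u * y * u)) = 1 := by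
    set R := u * f with hR
    have hRi : R⁻¹ = f * u := by rw [hR, mul_inv_rev, hfi, hui]
    have hx1 : R⁻¹ * x * R = y⁻¹ := by
      calc R⁻¹ * x * R = f * (u * x) * u * f := by rw [hRi, hR]; group
        _ = f * x * (u * u) * f := by rw [hux.eq]; group
        _ = y⁻¹ := by rw [hu2, mul_one, hy, mul_inv_rev, mul_inv_rev, hfi, inv_inv]; group
    have h2 : R * R * x * (R * R)⁻¹ = y := by
      calc R * R * x * (R * R)⁻¹ = (R * R * R) * (R⁻¹ * x * R) * (R * R * R)⁻¹ := by group
        _ = y := by rw [hcube, hx1, hsi, hsy]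
    have h1 : R * x⁻¹ * R⁻¹ = u * y * u := by rw [hRi, hR, hy]; group
    have e : y * (u * y * u) = R * R * (x * y) * (R * R)⁻¹ := by
      have hyx : y = R⁻¹ * x⁻¹ * R := by rw [← inv_inv y, ← hx1]; group
      calc y * (u * y * u) = (R * R * x * (R * R)⁻¹) * (R * x⁻¹ * R⁻¹) := by rw [h2, h1]
        _ = R * R * (x * (R⁻¹ * x⁻¹ * R)) * (R * R)⁻¹ := by group
        _ = _ := by rw [← hyx]
    rw [e, conj_mul, hxy2, mul_one, mul_inv_cancel]
  -- every involution of `C(x)` is conjugate to `u` under `v`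
  have hUxconj : ∀ a ∈ Ux, ∀ t, Commute t x → t * a * t⁻¹ ∈ Ux := fun a ha t ht => by
    obtain ⟨ha2, hax⟩ := (hUx a).1 ha
    exact (hUx _).2 ⟨by rw [conj_mul, ha2, mul_one, mul_inv_cancel],
      (ht.mul_left hax).mul_left ht.inv_left⟩
  have hvvv : v * v * v = 1 := by rw [← pow_three', ← ho, pow_orderOf_eq_one]
  have three : ∀ (U : Subgroup G) (a t : G), Nat.card U = 4 → a ∈ U → a ≠ 1 →
      t * t * t = 1 → ¬ Commute t a → t * a * t⁻¹ ∈ U → t⁻¹ * a * t ∈ U →
      ∀ d ∈ U, d = 1 ∨ d = a ∨ d = t * a * t⁻¹ ∨ d = t⁻¹ * a * t := by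
    intro U a t hU ha ha1 ht hta h1 h2 d hd
    refine exhaust_four hU ha h1 h2 ha1 (fun e => ha1 (conj_eq_one_iff.1 e))
      (fun e => ha1 ?_) (fun e => hta (commute_of_conj_eq e.symm)) (fun e => hta ?_) (fun e => hta ?_) hd
    · calc a = t * (t⁻¹ * a * t) * t⁻¹ := by group
        _ = 1 := by rw [e]; group
    · refine commute_of_conj_eq ?_
      conv_lhs => rw [e]
      group
    · refine commute_of_conj_eq ?_
      have e2 : t * (t * a * t⁻¹) * t⁻¹ = a := by rw [e]; group
      calc t * a * t⁻¹ = t * (t * (t * a * t⁻¹) * t⁻¹) * t⁻¹ := by rw [e2]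
        _ = (t * t * t) * a * (t * t * t)⁻¹ := by group
        _ = a := by rw [ht, one_mul, inv_one, mul_one]
  have hUxall : ∀ d ∈ Ux, d = 1 ∨ d = u ∨ d = v * u * v⁻¹ ∨ d = v⁻¹ * u * v := fun d hd =>
    three Ux u v hUxc huU hu1 hvvv (fun h => huv h.symm) (hUxconj u huU v hvx)
      (by have := hUxconj u huU v⁻¹ hvx.inv_left; rwa [inv_inv] at this) d hd
  have hpair : ∀ d ∈ Ux, d ≠ 1 → y * (d * y * d) * (y * (d * y * d)) = 1 := by
    intro d hd hd1
    have conjv : ∀ t, Commute t y →
        y * (t * u * t⁻¹ * y * (t * u * t⁻¹)) * (y * (t * u * t⁻¹ * y * (t * u * t⁻¹))) = 1 := by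
      intro t ht
      have e : y * (t * u * t⁻¹ * y * (t * u * t⁻¹)) = t * (y * (u * y * u)) * t⁻¹ := by
        have e1 : t⁻¹ * y * t = y := by rw [mul_assoc, ← ht.eq, inv_mul_cancel_left]
        calc y * (t * u * t⁻¹ * y * (t * u * t⁻¹))
            = t * ((t⁻¹ * y * t) * (u * (t⁻¹ * y * t) * u)) * t⁻¹ := by group
          _ = _ := by rw [e1]
      rw [e, conj_mul, hyu, mul_one, mul_inv_cancel]
    rcases hUxall d hd with rfl | rfl | rfl | rfl
    · exact absurd rfl hd1
    · exact hyu
    · exact conjv v hvy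
    · have := conjv v⁻¹ hvy.inv_left
      rwa [inv_inv] at this
  let X : Option Ux → G := fun o => o.elim x fun a => (a : G) * y * (a : G)
  have haa : ∀ a : Ux, (a : G) * (a : G) = 1 := fun a => ((hUx _).1 a.2).1
  have hai : ∀ a : Ux, (a : G)⁻¹ = a := fun a => inv_eq_of_mul_eq_one_right (haa a)
  have hX3 : ∀ o, X o * X o * X o = 1 := by
    rintro (_ | a)
    · exact hxxx
    · show (a : G) * y * a * ((a : G) * y * a) * ((a : G) * y * a) = 1
      calc (a : G) * y * a * ((a : G) * y * a) * ((a : G) * y * a)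
          = (a : G) * (y * (a * a) * y * (a * a) * y) * a := by group
        _ = 1 := by rw [haa a, mul_one, mul_one, hy3, mul_one, haa a]
  have hxa : ∀ a : Ux, x * ((a : G) * y * a) * (x * ((a : G) * y * a)) = 1 := fun a => by
    have hc : Commute (a : G) x := ((hUx _).1 a.2).2
    have e : x * ((a : G) * y * a) = (a : G) * (x * y) * (a : G)⁻¹ := by
      rw [hai a, ← mul_assoc (a : G) x, hc.eq]; group
    rw [e, conj_mul, hxy2, mul_one, mul_inv_cancel]
  have hX2 : ∀ o o', o ≠ o' → X o * X o' * (X o * X o') = 1 := by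
    rintro (_ | a) (_ | b) hne
    · exact absurd rfl hne
    · exact hxa b
    · show (a : G) * y * a * x * ((a : G) * y * a * x) = 1
      have h := hxa a
      generalize (a : G) * y * a = z at h
      calc z * x * (z * x) = x⁻¹ * (x * z * (x * z)) * x := by group
        _ = 1 := by rw [h]; group
    · show (a : G) * y * a * ((b : G) * y * b) * ((a : G) * y * a * ((b : G) * y * b)) = 1
      have hd1 : ((a * b : Ux) : G) ≠ 1 := fun e => hne (congrArg some (Subtype.ext (by
        rw [Subgroup.coe_mul] at e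
        rw [eq_inv_of_mul_eq_one_left e, hai b])))
      have h := hpair _ (a * b : Ux).2 hd1
      rw [Subgroup.coe_mul] at h
      have hc : (a : G) * b = b * a := by
        have := haa (a * b)
        rw [Subgroup.coe_mul] at this
        calc (a : G) * b = ((a : G) * b)⁻¹ := (inv_eq_of_mul_eq_one_right this).symm
          _ = b * a := by rw [mul_inv_rev, hai a, hai b]
      have e : (a : G) * y * a * ((b : G) * y * b) =
          (a : G) * (y * ((a : G) * b * y * ((a : G) * b))) * (a : G)⁻¹ := by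
        rw [hai a]
        calc (a : G) * y * a * ((b : G) * y * b)
            = (a : G) * (y * ((a : G) * b * y * ((b : G) * 1))) := by group
          _ = (a : G) * (y * ((a : G) * b * y * ((b : G) * ((a : G) * a)))) := by rw [haa a]
          _ = _ := by rw [← mul_assoc (b : G), ← hc]; group
      rw [e, conj_mul, h, mul_one, mul_inv_cancel]
  haveI := Fintype.ofFinite Ux
  set U5 : Finset (Option Ux) := Finset.univ with hU5
  have hc5 : U5.card = 5 := by
    rw [hU5, Finset.card_univ, Fintype.card_option, ← Nat.card_eq_fintype_card, hUxc]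
  set K5 := Subgroup.closure (X '' (U5 : Set (Option Ux))) with hK5
  have hmemK : ∀ o, X o ∈ K5 := fun o => Subgroup.subset_closure ⟨o, Finset.mem_univ _, rfl⟩
  have hxK : x ∈ K5 := hmemK none
  have hyK : y ∈ K5 := by simpa [X] using hmemK (some 1)
  -- `K5` is normal
  set M := Subgroup.closure ((Ux : Set G) ∪ {v, x, y}) with hM
  have hMU : ∀ a ∈ Ux, a ∈ M := fun a ha => Subgroup.subset_closure (Or.inl ha)
  have hMv : v ∈ M := Subgroup.subset_closure (Or.inr (by simp))
  have hMx : x ∈ M := Subgroup.subset_closure (Or.inr (by simp))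
  have hMy : y ∈ M := Subgroup.subset_closure (Or.inr (by simp))
  have hMN : M ≤ Subgroup.normalizer (K5 : Set G) := by
    rw [hM, Subgroup.closure_le]
    have hgen : ∀ t, (∀ o, t * X o * t⁻¹ ∈ K5) → t ∈ Subgroup.normalizer (K5 : Set G) := by
      intro t ht
      refine mem_normalizer_of_maps fun z hz => ?_
      induction hz using Subgroup.closure_induction with
      | mem w hw => obtain ⟨o, -, rfl⟩ := hw; exact ht o
      | one => rw [mul_one, mul_inv_cancel]; exact one_mem _
      | mul w w' _ _ h h' => rw [← conj_mul]; exact mul_mem h h'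
      | inv w _ h => rw [← conj_inv]; exact inv_mem h
    rintro t (ht | rfl | rfl | rfl)
    · refine hgen t ?_
      have hti : t⁻¹ = t := hai ⟨t, ht⟩
      rintro (_ | b)
      · show t * x * t⁻¹ ∈ K5
        rw [((hUx t).1 ht).2.eq, mul_inv_cancel_right]; exact hxK
      · show t * ((b : G) * y * b) * t⁻¹ ∈ K5
        have := hmemK (some (⟨t, ht⟩ * b))
        have hc : (b : G) * t = t * b := by
          have := haa (⟨t, ht⟩ * b)
          rw [Subgroup.coe_mul] at this
          calc (b : G) * t = (b : G)⁻¹ * t⁻¹ := by rw [hai b, hti]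
            _ = (t * b)⁻¹ := (mul_inv_rev _ _).symm
            _ = t * b := inv_eq_of_mul_eq_one_right this
        rw [hti, show t * ((b : G) * y * b) * t = t * b * y * ((b : G) * t) by group, hc]
        exact this
    · refine hgen t ?_
      rintro (_ | b)
      · show t * x * t⁻¹ ∈ K5
        rw [hvx.eq, mul_inv_cancel_right]; exact hxK
      · show t * ((b : G) * y * b) * t⁻¹ ∈ K5
        have := hmemK (some ⟨_, hUxconj b b.2 t hvx⟩)
        have e1 : t * y * t⁻¹ = y := by rw [hvy.eq, mul_inv_cancel_right]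
        rw [show t * ((b : G) * y * b) * t⁻¹ =
          t * b * t⁻¹ * (t * y * t⁻¹) * (t * b * t⁻¹) by group, e1]
        exact this
    · exact Subgroup.le_normalizer hxK
    · exact Subgroup.le_normalizer hyK
  -- `M` is everything
  have hMf : ∀ a ∈ Uv, a ∈ M := by
    have hconj : ∀ t, Commute t v → t * (x * y) * t⁻¹ ∈ Uv := fun t ht => by
      obtain ⟨h2, hc⟩ := (hUv _).1 hg₀U
      exact (hUv _).2 ⟨by rw [conj_mul, h2, mul_one, mul_inv_cancel],
        (ht.mul_left hc).mul_left ht.inv_left⟩
    have hxg : ¬ Commute x (x * y) := fun h => hg₀1 (hno _ hxy2 ((hUv _).1 hg₀U).2 h.symm)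
    intro a ha
    have hm : x * y ∈ M := mul_mem hMx hMy
    rcases three Uv (x * y) x hUvc hg₀U hg₀1 hxxx hxg (hconj x hvx.symm)
      (by have := hconj x⁻¹ hvx.symm.inv_left; rwa [inv_inv] at this) a ha with e | e | e | e <;>
      rw [e]
    · exact one_mem _
    · exact hm
    · exact mul_mem (mul_mem hMx hm) (inv_mem hMx)
    · exact mul_mem (mul_mem (inv_mem hMx) hm) hMx
  have hstab : 36 ∣ Nat.card (M ⊓ Subgroup.centralizer ({x} : Set G) : Subgroup G) := by
    set C := (M ⊓ Subgroup.centralizer ({x} : Set G) : Subgroup G)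
    have h4 : 4 ∣ Nat.card C := hUxc ▸ Subgroup.card_dvd_of_le fun a ha =>
      ⟨hMU a ha, mem_cent_iff.2 ((hUx a).1 ha).2.symm⟩
    have h9 : 9 ∣ Nat.card C := by
      set A := Subgroup.closure ({v, x} : Set G) with hA
      have hAC : A ≤ C := (Subgroup.closure_le _).2 (by
        rintro z (rfl | rfl)
        exacts [⟨hMv, mem_cent_iff.2 hvx.symm⟩, ⟨hMx, mem_cent_iff.2 (Commute.refl _)⟩])
      refine dvd_trans ?_ (Subgroup.card_dvd_of_le hAC)
      haveI : Fact (Nat.Prime 3) := ⟨Nat.prime_three⟩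
      haveI : IsMulCommutative A := Subgroup.isMulCommutative_closure (by
        rintro p (rfl | rfl) q (rfl | rfl)
        exacts [rfl, hvx.eq, hvx.symm.eq, rfl])
      have hAp : IsPGroup 3 A := by
        rintro ⟨z, hz⟩
        refine ⟨1, Subtype.ext ?_⟩
        show z ^ 3 = 1
        induction hz using Subgroup.closure_induction with
        | mem w hw =>
          rcases hw with rfl | rfl
          · rw [← ho, pow_orderOf_eq_one]
          · rw [← hx3, pow_orderOf_eq_one]
        | one => exact one_pow 3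
        | mul p q hp hq ihp ihq =>
          rw [Commute.mul_pow (congrArg Subtype.val (mul_comm' (⟨p, hp⟩ : A) ⟨q, hq⟩)), ihp, ihq,
            one_mul]
        | inv p _ ihp => rw [inv_pow, ihp, inv_one]
      obtain ⟨k, hk⟩ := IsPGroup.iff_card.1 hAp
      rw [hk]
      have hk2 : 2 ≤ k := by
        by_contra hk2
        have hle : Nat.card A ≤ 3 := by
          rw [hk]
          calc 3 ^ k ≤ 3 ^ 1 := Nat.pow_le_pow_right (by norm_num) (by omega)
            _ = 3 := by norm_num
        have hAe : Subgroup.zpowers v = A := Subgroup.eq_of_le_of_card_ge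
          (Subgroup.zpowers_le.2 (Subgroup.subset_closure (by simp)))
          (by rw [Nat.card_zpowers, ho]; exact hle)
        have hxA : x ∈ Subgroup.zpowers v := hAe ▸ Subgroup.subset_closure (by simp)
        rw [mem_zpowers_iff_mem_range_orderOf, ho] at hxA
        simp only [Finset.mem_image, Finset.mem_range] at hxA
        obtain ⟨i, hi, e⟩ := hxA
        interval_cases i
        · rw [pow_zero] at e; rw [← e, orderOf_one] at hx3; omega
        · exact hxv (by rw [← e, pow_one])
        · refine hxvi ?_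
          rw [← e, pow_two]
          exact eq_inv_of_mul_eq_one_left hvvv
      calc (9 : ℕ) = 3 ^ 2 := by norm_num
        _ ∣ 3 ^ k := pow_dvd_pow 3 hk2
    omega
  have horb : 12 ≤ ((fun z : G => z * x * z⁻¹) '' (M : Set G)).ncard := by
    let T := {a : Uv // a ≠ 1}
    haveI := Fintype.ofFinite Uv
    have hT : Nat.card T = 3 := by
      rw [Nat.card_eq_fintype_card, Fintype.card_subtype_compl, Fintype.card_subtype_eq,
        ← Nat.card_eq_fintype_card, hUvc]
    have hfib : ∀ (a a' : G), a ∈ Uv → a' ∈ Uv → a ≠ 1 → a' ≠ 1 → ∀ d ∈ Ux,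
        d * (a * x * a⁻¹) * d⁻¹ = a' * x * a'⁻¹ → d = 1 := by
      intro a a' hamem ha' ha1 ha'1 d hd e
      by_contra hd1
      obtain ⟨ha2, hav⟩ := (hUv a).1 hamem
      obtain ⟨ha'2, ha'v⟩ := (hUv a').1 ha'
      obtain ⟨hd2, hdx⟩ := (hUx d).1 hd
      set v' := d * v * d⁻¹ with hv'
      have c1 : Commute v' (a' * x * a'⁻¹) := by
        rw [← e, hv']
        exact (conj_commute_iff d _ _).2 ((hav.symm.mul_right hvx).mul_right hav.symm.inv_right)
      have c2 : Commute v' x := by
        have h := (conj_commute_iff d v x).2 hvx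
        rwa [hdx.eq, mul_inv_cancel_right] at h
      set gi := a' * x * a'⁻¹ * x⁻¹ with hgi
      have hgiU : gi ∈ Uv := by
        rw [hgi, show a' * x * a'⁻¹ * x⁻¹ = a' * (x * a'⁻¹ * x⁻¹) by group]
        refine mul_mem ha' ((hUv _).2 ⟨by
          rw [conj_mul, ← mul_inv_rev, ha'2, inv_one, mul_one, mul_inv_cancel],
          (hvx.symm.mul_left ha'v.inv_left).mul_left hvx.symm.inv_left⟩)
      have hgi1 : gi ≠ 1 := by
        intro h
        refine ha'1 (hno a' ha'2 ha'v ?_)
        exact commute_of_conj_eq (mul_inv_eq_one.1 h)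
      have hgio : orderOf gi = 2 :=
        orderOf_eq_prime (by rw [pow_two]; exact ((hUv _).1 hgiU).1) hgi1
      have hv'3 : orderOf v' = 3 := by rw [hv', orderOf_conj_eq, ho]
      rcases S.three_unique hb ha hv hv1 hgio ((hUv _).1 hgiU).2 ho
        (c1.mul_right c2.inv_right).symm hv'3 with h | h
      · exact hd1 (hno d hd2 (commute_of_conj_eq h) hdx)
      · have hmem := mul_mem (hUxconj d hd v hvx) hd
        have hdi := inv_eq_of_mul_eq_one_right hd2
        have e2 : v * d * v⁻¹ * d = v * v := by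
          calc v * d * v⁻¹ * d = v * (d * v⁻¹ * d) := by group
            _ = v * (d * v * d⁻¹)⁻¹ := by rw [conj_inv, hdi]
            _ = v * v := by rw [← hv', h, inv_inv]
        rw [e2] at hmem
        have h2 := ((hUx _).1 hmem).1
        have h4 : v * v * (v * v) = v := by rw [← mul_assoc, hvvv, one_mul]
        exact hv1 (by rw [← h4]; exact h2)
    have hinj : Function.Injective (fun p : Ux × T =>
        (p.1 : G) * ((p.2.1 : G) * x * (p.2.1 : G)⁻¹) * (p.1 : G)⁻¹) := by
      rintro ⟨d, ⟨a, ha⟩⟩ ⟨d', ⟨a', ha'⟩⟩ h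
      have ha1 : (a : G) ≠ 1 := fun e => ha (Subtype.ext e)
      have ha'1 : (a' : G) ≠ 1 := fun e => ha' (Subtype.ext e)
      have e : ((d' : G)⁻¹ * (d : G)) * ((a : G) * x * (a : G)⁻¹) * ((d' : G)⁻¹ * (d : G))⁻¹ =
          (a' : G) * x * (a' : G)⁻¹ := by
        simp only at h
        calc ((d' : G)⁻¹ * (d : G)) * ((a : G) * x * (a : G)⁻¹) * ((d' : G)⁻¹ * (d : G))⁻¹
            = (d' : G)⁻¹ * ((d : G) * ((a : G) * x * (a : G)⁻¹) * (d : G)⁻¹) * d' := by group
          _ = _ := by rw [h]; group
      have hd := hfib _ _ a.2 a'.2 ha1 ha'1 _ (mul_mem (inv_mem d'.2) d.2) e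
      rw [hd, one_mul, inv_one, mul_one] at e
      have hda : ((a' : G)⁻¹ * a) = 1 := by
        obtain ⟨h2, hav⟩ := (hUv _).1 (mul_mem (inv_mem a'.2) a.2)
        refine hno _ h2 hav (commute_of_conj_eq ?_)
        calc (a' : G)⁻¹ * a * x * ((a' : G)⁻¹ * a)⁻¹
            = (a' : G)⁻¹ * ((a : G) * x * (a : G)⁻¹) * a' := by group
          _ = x := by rw [e]; group
      exact Prod.ext (Subtype.ext (inv_mul_eq_one.1 hd).symm)
        (Subtype.ext (Subtype.ext (inv_mul_eq_one.1 hda).symm))
    have hle : Nat.card (Ux × T) ≤ Nat.card ((fun z : G => z * x * z⁻¹) '' (M : Set G)) := by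
      refine Nat.card_le_card_of_injective (fun p => ⟨_, ⟨(p.1 : G) * p.2.1,
        mul_mem (hMU _ p.1.2) (hMf _ p.2.1.2), rfl⟩⟩) fun p q h => hinj ?_
      have h' := congrArg Subtype.val h
      simp only [mul_inv_rev] at h'
      simp only [mul_assoc] at h' ⊢
      exact h'
    rw [Nat.card_prod, hUxc, hT, Nat.card_coe_set_eq] at hle
    exact hle
  have hMtop : M = ⊤ := by
    refine eq_top_of_index_le hG ?_
    have h := card_eq_orbit_mul M x
    have hge : 432 ≤ Nat.card M := by
      rw [h]
      exact le_trans (by norm_num) (Nat.mul_le_mul horb (Nat.le_of_dvd Nat.card_pos hstab))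
    have h' := M.card_mul_index
    rw [hG] at h'
    nlinarith
  have hKtop : K5 = ⊤ := by
    haveI : K5.Normal := Subgroup.normalizer_eq_top_iff.1 (top_le_iff.1 (hMtop ▸ hMN))
    refine (‹K5.Normal›.eq_bot_or_eq_top).resolve_left fun e => ?_
    have := Subgroup.mem_bot.1 (e ▸ hxK)
    rw [this, orderOf_one] at hx3
    omega
  set e₀ : Option Ux := some 1
  set U4 := U5.erase e₀ with hU4
  have hins : insert e₀ U4 = U5 := Finset.insert_erase (Finset.mem_univ _)
  have hc4 : U4.card = 4 := by rw [hU4, Finset.card_erase_of_mem (Finset.mem_univ _), hc5]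
  set K4 := Subgroup.closure (X '' (U4 : Set (Option Ux)))
  have h1 : 2520 ≤ 7 * Nat.card K4 := by
    have h := card_closure_insert_le X U4 e₀ (Finset.notMem_erase _ _) (fun i _ => hX3 i)
      (fun i _ j _ hij => hX2 i j hij)
    rw [hins, ← hK5, hKtop, Subgroup.card_top, hG, hc4] at h
    exact h
  have h2 : 2 * Nat.card K4 ≤ 720 := by
    have h := SpinCover.carmichael_bound X U4 (fun i _ => hX3 i) (fun i _ j _ hij => hX2 i j hij)
    rw [hc4] at h
    exact h
  refine ⟨K4, ?_⟩
  have h := K4.card_mul_index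
  rw [hG] at h
  have : Nat.card K4 = 360 := by omega
  rw [this] at h
  omega

theorem iso_alternating_seven [IsSimpleGroup G] (hnc : ¬ IsMulCommutative G) (hb : S.b = 1)
    (ha : S.a = 3) (hG : Nat.card G = 2520) : Nonempty (G ≃* alternatingGroup (Fin 7)) := by
  obtain ⟨H, hH⟩ := S.exists_index_seven hb ha hG
  exact SmallSimple.iso_alternating_of_index hnc hH (by norm_num) (by rw [hG]; rfl)

end Setup

end Cfsg.Agent.SmallCent
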